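import Cfsg.Agent.Lib.LargeExtra.Pair
import Cfsg.Agent.Lib.Components.Fitting
import Cfsg.Agent.Lib.Coprime.Commutator
import Cfsg.Agent.Lib.Coprime.PGroup
import Cfsg.Agent.Lib.CharP.Basic

/-!
Centralisers of one element inside an extraspecial 2-group; extraspecial groups and isomorphisms;
the setting `Q = F*(C(z))`.
-/

set_option autoImplicit false

namespace Cfsg.Agent.LargeExtra

open Subgroup
open scoped commutatorElement

variable {G : Type*} [Group G]

theorem isExtraspecial_of_equiv {A B : Type*} [Group A] [Group B] (h : Cfsg.IsExtraspecial 2 A) (e : A ≃* B) :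
    Cfsg.IsExtraspecial 2 B := by
  have hec : (center A).map e.toMonoidHom = center B := by
    ext y
    rw [mem_map_equiv, mem_center_iff, mem_center_iff]
    constructor
    · intro hy u
      simpa using congrArg e (hy (e.symm u))
    · intro hy u
      simpa using congrArg e.symm (hy (e u))
  have hfr : (frattini A).map e.toMonoidHom = frattini B := e.mapSubgroup.map_radical
  refine ⟨⟨h.1.1.of_equiv e, ?_, ?_⟩, ?_⟩
  · rw [← hfr, h.1.2.1, hec]
  · rw [← hec, ← h.1.2.2, _root_.commutator_def, _root_.commutator_def, map_commutator,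
      map_top_of_surjective e.toMonoidHom e.surjective]
  · rw [← hec, card_map_of_injective e.injective, h.2]

/-- A non-abelian subgroup whose centre lies in the centre is extraspecial. -/
theorem isExtraspecial_of_center_le [Finite G] {Q H : Subgroup G} {z : G} (h : Ctr Q z) (hHQ : H ≤ Q)
    (hc : ∀ x ∈ H, (∀ y ∈ H, y * x = x * y) → x = 1 ∨ x = z) (hH : ∃ x ∈ H, x ≠ 1 ∧ x ≠ z) :
    Cfsg.IsExtraspecial 2 ↥H := by
  haveI : Fact (Nat.Prime 2) := ⟨Nat.prime_two⟩
  obtain ⟨x, hx, hx1, hxz⟩ := hH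
  obtain ⟨y, hy, hxy⟩ : ∃ y ∈ H, y * x ≠ x * y := by
    by_contra hcon
    push Not at hcon
    rcases hc x hx hcon with e | e
    · exact hx1 e
    · exact hxz e
  have hzH : z ∈ H := by
    rcases h.comm_cases (hHQ hy) (hHQ hx) with e | e
    · exact absurd (commutatorElement_eq_one_iff_mul_comm.1 e) hxy
    · rw [← e, commutatorElement_def]
      exact H.mul_mem (H.mul_mem (H.mul_mem hy hx) (H.inv_mem hy)) (H.inv_mem hx)
  have hzc : ∀ u : ↥H, ((u : G) = 1 ∨ (u : G) = z) → u ∈ center ↥H := by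
    intro u hu
    rw [mem_center_iff]
    intro v
    apply Subtype.ext
    show (v : G) * u = u * v
    rcases hu with e | e <;> rw [e]
    · simp
    · exact h.comm (hHQ v.2)
  have hle : commutator ↥H ≤ center ↥H := by
    rw [_root_.commutator_def, commutator_le]
    intro u _ v _
    exact hzc _ (h.comm_cases (hHQ u.2) (hHQ v.2))
  have hcard : Nat.card ↥(center ↥H) = 2 := by
    rw [Nat.card_eq_two_iff' (1 : ↥(center ↥H))]
    refine ⟨⟨⟨z, hzH⟩, hzc _ (Or.inr rfl)⟩, fun e => h.ne_one (congrArg (fun w : ↥(center ↥H) => ((w : ↥H) : G)) e), ?_⟩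
    rintro ⟨⟨u, hu⟩, huc⟩ hu1
    rcases hc u hu (fun v hv => congrArg Subtype.val (mem_center_iff.1 huc ⟨v, hv⟩)) with e | e
    · subst e; exact absurd rfl hu1
    · subst e; rfl
  have heq : commutator ↥H = center ↥H := by
    refine eq_of_le_of_card_ge hle ?_
    rw [hcard]
    refine (one_lt_card_iff_ne_bot _).2 fun e => hxy ?_
    have h0 : ⁅(⟨y, hy⟩ : ↥H), ⟨x, hx⟩⁆ ∈ commutator ↥H := commutator_mem_commutator (mem_top _) (mem_top _)
    rw [e, mem_bot, commutatorElement_eq_one_iff_mul_comm] at h0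
    exact congrArg Subtype.val h0
  have hPH : IsPGroup 2 ↥H := h.pgroup.to_le hHQ
  refine ⟨⟨hPH, le_antisymm ?_ ?_, heq⟩, hcard⟩
  · have := Cfsg.Agent.CharP.frattini_le_ker (p := 2) (QuotientGroup.mk' (center ↥H)) (fun a b => by
      show (a : ↥H ⧸ center ↥H) * b = b * a
      rw [← QuotientGroup.mk_mul, ← QuotientGroup.mk_mul, QuotientGroup.eq]
      have h0 : ⁅b⁻¹, a⁻¹⁆ ∈ center ↥H := hle (commutator_mem_commutator (mem_top _) (mem_top _))
      convert h0 using 1
      simp [commutatorElement_def, mul_assoc])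
      (fun a => by
        rw [QuotientGroup.mk'_apply, ← QuotientGroup.mk_pow, QuotientGroup.eq_one_iff]
        refine hzc _ ?_
        rw [SubgroupClass.coe_pow, pow_two]
        exact h.sq_cases (hHQ a.2))
    rwa [QuotientGroup.ker_mk'] at this
  · haveI := hPH.isNilpotent
    rw [← heq]
    exact Cfsg.Agent.Coprime.commutator_le_frattini _

namespace Ctr

variable [Finite G] {Q : Subgroup G} {z : G} (h : Ctr Q z)
include h

theorem conj_cases {x t : G} (hx : x ∈ Q) (ht : t ∈ Q) : x * t * x⁻¹ = t ∨ x * t * x⁻¹ = z * t := by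
  rcases h.comm_cases hx ht with e | e
  · left; rwa [commutatorElement_def, mul_inv_eq_one] at e
  · right; rwa [commutatorElement_def, mul_inv_eq_iff_eq_mul] at e

theorem exists_move {t : G} (ht : t ∈ Q) (ht1 : t ≠ 1) (htz : t ≠ z) :
    ∃ q ∈ Q, q * t * q⁻¹ = z * t := by
  by_contra hc
  push Not at hc
  have hm : (⟨t, ht⟩ : ↥Q) ∈ center ↥Q := mem_center_iff.2 fun x =>
    Subtype.ext (mul_inv_eq_iff_eq_mul.1 ((h.conj_cases x.2 ht).resolve_right (hc x x.2)))
  rcases h.center_cases hm with e | e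
  · exact ht1 e
  · exact htz e

/-- The elements of `Q` commuting with `C_Q(t)` are `1, z, t, zt`. -/
theorem double_centralizer {t x : G} (ht : t ∈ Q) (ht1 : t ≠ 1) (htz : t ≠ z) (hx : x ∈ Q)
    (hxC : ∀ u ∈ Q, u * t = t * u → u * x = x * u) : x = 1 ∨ x = z ∨ x = t ∨ x = z * t := by
  obtain ⟨q, hq, hqt⟩ := h.exists_move ht ht1 htz
  have hqt' : q * t = z * t * q := mul_inv_eq_iff_eq_mul.1 hqt
  have key : ∀ w ∈ Q, (∀ u ∈ Q, u * t = t * u → u * w = w * u) → q * w = w * q → w = 1 ∨ w = z := by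
    intro w hw hwC hwq
    have hmem : (⟨w, hw⟩ : ↥Q) ∈ center ↥Q := by
      rw [mem_center_iff]
      rintro ⟨u, hu⟩
      apply Subtype.ext
      show u * w = w * u
      rcases h.conj_cases hu ht with e | e
      · exact hwC u hu (mul_inv_eq_iff_eq_mul.1 e)
      · have h0 : q⁻¹ * u * t = t * (q⁻¹ * u) := by
          have hu' : u * t = z * t * u := mul_inv_eq_iff_eq_mul.1 e
          calc q⁻¹ * u * t = q⁻¹ * (z * t * u) := by rw [mul_assoc, hu']
            _ = q⁻¹ * (q * t) * (q⁻¹ * u) := by rw [hqt']; simp [mul_assoc]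
            _ = _ := by simp [mul_assoc]
        have h1 := hwC _ (Q.mul_mem (Q.inv_mem hq) hu) h0
        calc u * w = q * ((q⁻¹ * u) * w) := by simp [mul_assoc]
          _ = _ := by rw [h1, ← mul_assoc, hwq]; simp [mul_assoc]
    exact h.center_cases hmem
  rcases h.conj_cases hq hx with e | e
  · rcases key x hx hxC (mul_inv_eq_iff_eq_mul.1 e) with e | e
    · exact Or.inl e
    · exact Or.inr (Or.inl e)
  · have ha' : ∀ u ∈ Q, u * t = t * u → u * (x * t⁻¹) = (x * t⁻¹) * u := fun u hu hut => by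
      have hut' : u * t⁻¹ = t⁻¹ * u := ((show Commute u t from hut).inv_right).eq
      rw [← mul_assoc, hxC u hu hut, mul_assoc, hut', mul_assoc]
    have hq' : q * (x * t⁻¹) = (x * t⁻¹) * q := by
      apply mul_inv_eq_iff_eq_mul.1
      calc q * (x * t⁻¹) * q⁻¹ = (q * x * q⁻¹) * (q * t * q⁻¹)⁻¹ := by group
        _ = z * x * (t⁻¹ * z⁻¹) := by rw [e, hqt, mul_inv_rev]
        _ = z * ((x * t⁻¹) * z⁻¹) := by simp [mul_assoc]
        _ = z * (z⁻¹ * (x * t⁻¹)) := by
            rw [h.inv_self, h.comm (Q.mul_mem hx (Q.inv_mem ht))]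
        _ = _ := by simp
    rcases key _ (Q.mul_mem hx (Q.inv_mem ht)) ha' hq' with e | e
    · exact Or.inr (Or.inr (Or.inl (mul_inv_eq_one.1 e)))
    · exact Or.inr (Or.inr (Or.inr (mul_inv_eq_iff_eq_mul.1 e)))

/-- `C_Q(A)` is trivial mod centre or has centre `⟨z⟩`, for `A` of coprime order. -/
theorem center_fixed {A : Subgroup G} (hA : A ≤ centralizer ({z} : Set G)) (hAodd : Odd (Nat.card ↥A))
    {x : G} (hx : x ∈ Q ⊓ centralizer (A : Set G))
    (hxC : ∀ u ∈ Q ⊓ centralizer (A : Set G), u * x = x * u) : x = 1 ∨ x = z := by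
  haveI : Fact (Nat.Prime 2) := ⟨Nat.prime_two⟩
  haveI := h.pgroup.isNilpotent
  have hN : A ≤ normalizer (Q : Set G) := hA.trans h.norm
  have hcop : (Nat.card A).Coprime (Nat.card Q) := by
    obtain ⟨k, hk⟩ := IsPGroup.iff_card.1 h.pgroup
    rw [hk]
    exact (Nat.coprime_two_right.2 hAodd).pow_right k
  have hmem : (⟨x, hx.1⟩ : ↥Q) ∈ center ↥Q := by
    rw [mem_center_iff]
    rintro ⟨u, hu⟩
    apply Subtype.ext
    show u * x = x * u
    obtain ⟨c, hc, d, hd, rfl⟩ :=
      Cfsg.Agent.Coprime.exists_eq_centralizer_mul_commutator hN hcop (Or.inr inferInstance) hu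
    -- `[Q, A]` commutes with `C_Q(A)`
    have hle : ⁅Q, A⁆ ≤ centralizer ({x} : Set G) := by
      rw [commutator_le]
      intro v hv b hb
      rw [mem_centralizer_singleton_iff, commutatorElement_def]
      have hbx : b * x = x * b := mem_centralizer_iff.1 hx.2 b hb
      have hbi : b⁻¹ * x * b⁻¹⁻¹ = x := by rw [inv_inv, mul_assoc, ← hbx, inv_mul_cancel_left]
      have hbz : b * z = z * b := mem_centralizer_singleton_iff.1 (hA hb)
      rcases h.conj_cases (Q.inv_mem hv) hx.1 with e | e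
      · have e' : v * x * v⁻¹ = x := by
          rcases h.conj_cases hv hx.1 with e' | e'
          · exact e'
          · exfalso
            have : x = v⁻¹ * (v * x * v⁻¹) * v⁻¹⁻¹ := by group
            rw [e'] at this
            apply h.ne_one
            have h2 : v⁻¹ * (z * x) * v⁻¹⁻¹ = z * (v⁻¹ * x * v⁻¹⁻¹) := by
              have := h.comm (Q.inv_mem hv)
              calc v⁻¹ * (z * x) * v⁻¹⁻¹ = (v⁻¹ * z) * x * v⁻¹⁻¹ := by simp [mul_assoc]
                _ = _ := by rw [this]; simp [mul_assoc]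
            rw [h2, e] at this
            exact mul_eq_right.1 this.symm
        apply mul_inv_eq_iff_eq_mul.1
        calc v * b * v⁻¹ * b⁻¹ * x * (v * b * v⁻¹ * b⁻¹)⁻¹
            = v * (b * (v⁻¹ * (b⁻¹ * x * b⁻¹⁻¹) * v⁻¹⁻¹) * b⁻¹) * v⁻¹ := by group
          _ = x := by rw [hbi, e, hbx, mul_inv_cancel_right, e']
      · have e' : v * (z * x) * v⁻¹ = x := by rw [← e]; group
        apply mul_inv_eq_iff_eq_mul.1
        calc v * b * v⁻¹ * b⁻¹ * x * (v * b * v⁻¹ * b⁻¹)⁻¹
            = v * (b * (v⁻¹ * (b⁻¹ * x * b⁻¹⁻¹) * v⁻¹⁻¹) * b⁻¹) * v⁻¹ := by group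
          _ = v * (b * (z * x) * b⁻¹) * v⁻¹ := by rw [hbi, e]
          _ = v * (z * x) * v⁻¹ := by
              rw [← mul_assoc b, hbz, mul_assoc z b, hbx]; simp [mul_assoc]
          _ = x := e'
    have h1 := hxC c hc
    have h2 := mem_centralizer_singleton_iff.1 (hle hd)
    rw [mul_assoc, h2, ← mul_assoc, h1, mul_assoc]
  exact h.center_cases hmem

end Ctr

/-- The setting `Q = F*(C(z))` extraspecial. -/
theorem Ctr.of_fitting [Finite G] {z : G} (hz : orderOf z = 2) {Q : Subgroup G}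
    (hQC : Q ≤ centralizer ({z} : Set G))
    (hF : (Cfsg.generalizedFittingSubgroup ↥(centralizer ({z} : Set G))).map
      (centralizer ({z} : Set G)).subtype = Q)
    (hQ : Cfsg.IsExtraspecial 2 ↥Q) : Ctr Q z := by
  set C := centralizer ({z} : Set G) with hC
  set F := Cfsg.generalizedFittingSubgroup ↥C with hFdef
  have hzC : z ∈ C := mem_centralizer_singleton_iff.2 rfl
  have hFn : F.Normal := by
    rw [hFdef]
    infer_instance
  have hzc : (⟨z, hzC⟩ : ↥C) ∈ center ↥C :=
    mem_center_iff.2 fun g => Subtype.ext (mem_centralizer_singleton_iff.1 g.2)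
  have hzF : (⟨z, hzC⟩ : ↥C) ∈ F :=
    Cfsg.Agent.Components.Fitting.centralizer_genFitting_le (center_le_centralizer _ hzc)
  have hzQ : z ∈ Q := hF ▸ ⟨_, hzF, rfl⟩
  have hctr : (center ↥Q).map Q.subtype = zpowers z := by
    symm
    refine eq_of_le_of_card_ge ?_ ?_
    · rw [zpowers_le]
      exact ⟨⟨z, hzQ⟩, mem_center_iff.2 fun q => Subtype.ext (mem_centralizer_singleton_iff.1 (hQC q.2)), rfl⟩
    · rw [card_map_of_injective Q.subtype_injective, hQ.2, Nat.card_zpowers, hz]
  have hnorm : C ≤ normalizer (Q : Set G) := by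
    rw [le_normalizer_iff]
    intro c hc q hq
    rw [← hF] at hq ⊢
    obtain ⟨f, hf, rfl⟩ := hq
    exact ⟨⟨c, hc⟩ * f * ⟨c, hc⟩⁻¹, hFn.conj_mem f hf _, rfl⟩
  refine ⟨hQ, hz, hctr, le_antisymm ?_ ?_, hnorm⟩
  · intro x hx
    have hxC : x ∈ C := mem_centralizer_singleton_iff.2 (mem_centralizer_iff.1 hx z hzQ).symm
    have hxF : (⟨x, hxC⟩ : ↥C) ∈ F := by
      refine Cfsg.Agent.Components.Fitting.centralizer_genFitting_le (mem_centralizer_iff.2 fun f hf => ?_)
      exact Subtype.ext (mem_centralizer_iff.1 hx (f : G) (hF ▸ ⟨f, hf, rfl⟩))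
    have hxQ : x ∈ Q := hF ▸ ⟨_, hxF, rfl⟩
    rw [← hctr]
    exact ⟨⟨x, hxQ⟩, mem_center_iff.2 fun q => Subtype.ext (mem_centralizer_iff.1 hx q q.2), rfl⟩
  · rw [zpowers_le, mem_centralizer_iff]
    intro q hq
    exact mem_centralizer_singleton_iff.1 (hQC hq)

end Cfsg.Agent.LargeExtra
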