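import Cfsg.Agent.Lib.CharP.CharP
import Cfsg.Agent.Lib.CharP.Sylow
import Mathlib.GroupTheory.Sylow

/-!
A group with an involution whose centraliser is an extension of an extraspecial 2-group by a
simple group, fusing in that 2-group, is simple.
-/

set_option autoImplicit false

namespace Cfsg.Agent.LargeExtra.SimpleCrit

open Subgroup
open scoped commutatorElement

variable {G : Type*} [Group G] [Finite G] {z : G}

/-- The hypotheses on the centraliser. -/
structure Data (z : G) (Q : Subgroup (centralizer ({z} : Set G))) : Prop where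
  order : orderOf z = 2
  ext : Cfsg.IsExtraspecial 2 Q
  normal : Q.Normal
  cent : centralizer (Q : Set (centralizer ({z} : Set G))) ≤ Q
  max : ∀ N : Subgroup (centralizer ({z} : Set G)), N.Normal → Q ≤ N → N = Q ∨ N = ⊤
  proper : Q ≠ ⊤
  fuse : ∃ (g : G) (hq : g * z * g⁻¹ ∈ centralizer ({z} : Set G)),
    (⟨g * z * g⁻¹, hq⟩ : centralizer ({z} : Set G)) ∈ Q ∧ g * z * g⁻¹ ≠ z ∧
    (∀ N : Subgroup (centralizer ({z} : Set G)), N.Normal →
      (⟨g * z * g⁻¹, hq⟩ : centralizer ({z} : Set G)) ∈ N → Q ≤ N) ∧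
    ∃ a ∈ Q, ∃ b ∈ Q, (a : G) * (g * z * g⁻¹) = g * z * g⁻¹ * a ∧
      (b : G) * (g * z * g⁻¹) = g * z * g⁻¹ * b ∧ a * b ≠ b * a

variable {Q : Subgroup (centralizer ({z} : Set G))}

theorem z_mul (h : Data z Q) : z * z = 1 := by
  rw [← pow_two, ← h.order, pow_orderOf_eq_one]

theorem z_ne (h : Data z Q) : z ≠ 1 := fun e => by
  have := h.order
  rw [e, orderOf_one] at this
  omega

theorem pgroup (h : Data z Q) : IsPGroup 2 Q := h.ext.1.1

/-- The involution, in its centraliser. -/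
def zC (z : G) : centralizer ({z} : Set G) := ⟨z, mem_centralizer_singleton_iff.2 rfl⟩

theorem zC_mem (h : Data z Q) : zC z ∈ Q := h.cent fun x _ => Subtype.ext (mem_centralizer_singleton_iff.1 x.2)

theorem center_cases (h : Data z Q) {x : ↥(centralizer ({z} : Set G))} (hx : x ∈ Q) (hc : ∀ y ∈ Q, y * x = x * y) :
    x = 1 ∨ x = zC z := by
  have hmem : ∀ y : ↥(centralizer ({z} : Set G)), (hy : y ∈ Q) → (∀ w ∈ Q, w * y = y * w) → (⟨y, hy⟩ : Q) ∈ center Q :=
    fun y hy hw => mem_center_iff.2 fun w => Subtype.ext (hw w.1 w.2)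
  have hzc : ∀ w ∈ Q, w * zC z = zC z * w := fun w _ =>
    Subtype.ext (mem_centralizer_singleton_iff.1 w.2)
  have h2 := h.ext.2
  rw [Nat.card_eq_two_iff' (1 : center Q)] at h2
  obtain ⟨u, -, hu⟩ := h2
  by_cases hx1 : x = 1
  · exact Or.inl hx1
  right
  have e1 : (⟨⟨x, hx⟩, hmem x hx hc⟩ : center Q) = u :=
    hu _ fun e => hx1 (congrArg (fun w : center Q => ((w : Q) : ↥(centralizer ({z} : Set G)))) e)
  have e2 : (⟨⟨zC z, zC_mem h⟩, hmem _ (zC_mem h) hzc⟩ : center Q) = u :=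
    hu _ fun e => z_ne h (congrArg (fun w : center Q => (((w : Q) : ↥(centralizer ({z} : Set G))) : G)) e)
  exact congrArg (fun w : center Q => ((w : Q) : ↥(centralizer ({z} : Set G)))) (e1.trans e2.symm)

theorem meets_center (h : Data z Q) {N : Subgroup ↥(centralizer ({z} : Set G))} (hN : N.Normal) (hne : N ≠ ⊥) : zC z ∈ N := by
  have := h.normal
  by_cases hNQ : N ⊓ Q = ⊥
  · exfalso
    apply hne
    have hc : ∀ x ∈ N, x ∈ Q := fun x hx => h.cent fun y hy => by
      have hcomm := Subgroup.commutator_le_inf N Q (commutator_mem_commutator hx hy)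
      rw [hNQ, mem_bot, commutatorElement_eq_one_iff_mul_comm] at hcomm
      exact hcomm.symm
    rw [← hNQ]
    exact le_antisymm (le_inf le_rfl hc) inf_le_left
  · set M : Subgroup Q := N.subgroupOf Q with hM
    have hMn : M.Normal := hN.subgroupOf Q
    have : Nontrivial M := (Subgroup.nontrivial_iff_ne_bot _).2 fun e => hNQ
      (disjoint_iff.1 (subgroupOf_eq_bot.1 e))
    have hfix : ∃ u : Q, u ∈ M ∧ u ∈ center Q ∧ u ≠ 1 := by
      by_contra hcon
      push Not at hcon
      have hp := pgroup h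
      have : Fact (Nat.Prime 2) := ⟨Nat.prime_two⟩
      let act : MulAction (ConjAct Q) M := inferInstance
      have hdvd : 2 ∣ Nat.card M := by
        obtain ⟨n, hn⟩ := IsPGroup.iff_card.1 (hp.to_subgroup M)
        have h1 : 1 < Nat.card M := Finite.one_lt_card
        rcases n with - | n
        · rw [hn, pow_zero] at h1; exact absurd h1 (lt_irrefl 1)
        · exact ⟨2 ^ n, by rw [hn, pow_succ, mul_comm]⟩
      have hp' : IsPGroup 2 (ConjAct Q) := hp.of_equiv ConjAct.toConjAct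
      obtain ⟨b, hb, hb1⟩ := hp'.exists_fixed_point_of_prime_dvd_card_of_fixed_point M hdvd
        (a := (1 : M)) (fun g => Subtype.ext (by simp [ConjAct.Subgroup.val_conj_smul]))
      refine hb1 (Subtype.ext (hcon b b.2 (mem_center_iff.2 fun g => ?_)).symm)
      have := congrArg Subtype.val (hb (ConjAct.toConjAct g))
      rw [ConjAct.Subgroup.val_conj_smul, ConjAct.toConjAct_smul] at this
      exact mul_inv_eq_iff_eq_mul.1 this
    obtain ⟨u, huM, huc, hu1⟩ := hfix
    rcases center_cases h u.2 (fun y hy => congrArg Subtype.val (mem_center_iff.1 huc ⟨y, hy⟩)) with e | e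
    · exact absurd (Subtype.ext e) hu1
    · exact e ▸ huM

theorem centralizer_map (h : Data z Q) (g : G) {x : G} (hx : x * (g * z * g⁻¹) = g * z * g⁻¹ * x) :
    g⁻¹ * x * g ∈ centralizer ({z} : Set G) := by
  rw [mem_centralizer_singleton_iff]
  calc g⁻¹ * x * g * z = g⁻¹ * (x * (g * z * g⁻¹)) * g := by group
    _ = g⁻¹ * (g * z * g⁻¹ * x) * g := by rw [hx]
    _ = z * (g⁻¹ * x * g) := by group

/-- The involution lies in every nontrivial normal subgroup. -/
theorem z_mem (h : Data z Q) {T : Subgroup G} (hT : T.Normal) (hne : T ≠ ⊥) : z ∈ T := by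
  by_contra hz
  have hfree : ∀ t ∈ T, t * z = z * t → t = 1 := fun t ht hc => by
    by_contra h1
    have ht' : t ∈ centralizer ({z} : Set G) := mem_centralizer_singleton_iff.2 hc
    have hmem : (⟨t, ht'⟩ : ↥(centralizer ({z} : Set G))) ∈ T.subgroupOf (centralizer ({z} : Set G)) := ht
    refine hz (mem_subgroupOf.1 (meets_center h (hT.subgroupOf _)
      (N := T.subgroupOf (centralizer ({z} : Set G))) fun e => h1 ?_))
    rw [e, mem_bot] at hmem
    exact congrArg Subtype.val hmem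
  have hinv : ∀ t ∈ T, z * t * z = t⁻¹ := by
    let f : T → T := fun a => ⟨(a : G) * (z * (a : G)⁻¹ * z⁻¹), T.mul_mem a.2 (hT.conj_mem _ (T.inv_mem a.2) z)⟩
    have hz2 := z_mul h
    have hzi : z⁻¹ = z := inv_eq_of_mul_eq_one_right hz2
    have hf : Function.Injective f := by
      intro a b e
      have e' : (a : G) * (z * (a : G)⁻¹ * z⁻¹) = (b : G) * (z * (b : G)⁻¹ * z⁻¹) := congrArg Subtype.val e
      have : ((b : G)⁻¹ * a) * z = z * ((b : G)⁻¹ * a) := by
        calc ((b : G)⁻¹ * a) * z = (b : G)⁻¹ * ((a : G) * (z * (a : G)⁻¹ * z⁻¹)) * z * a := by group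
          _ = (b : G)⁻¹ * ((b : G) * (z * (b : G)⁻¹ * z⁻¹)) * z * a := by rw [e']
          _ = _ := by group
      exact Subtype.ext (inv_mul_eq_one.1 (hfree _ (T.mul_mem (T.inv_mem b.2) a.2) this)).symm
    intro t ht
    obtain ⟨a, ha⟩ := (Finite.injective_iff_surjective.1 hf) ⟨t, ht⟩
    have e : t = (a : G) * (z * (a : G)⁻¹ * z⁻¹) := (congrArg Subtype.val ha).symm
    rw [e, hzi]
    calc z * ((a : G) * (z * (a : G)⁻¹ * z)) * z = z * (a : G) * z * (a : G)⁻¹ * (z * z) := by group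
      _ = z * (a : G) * z * (a : G)⁻¹ := by rw [hz2, mul_one]
      _ = ((a : G) * (z * (a : G)⁻¹ * z))⁻¹ := by simp [mul_assoc, hzi]
  have hconj : ∀ x : G, ∀ t ∈ T, (x * z * x⁻¹) * t * (x * z * x⁻¹) = t⁻¹ := fun x t ht => by
    have := hinv (x⁻¹ * t * x) (hT.conj_mem' _ ht x)
    calc (x * z * x⁻¹) * t * (x * z * x⁻¹) = x * (z * (x⁻¹ * t * x) * z) * x⁻¹ := by group
      _ = x * (x⁻¹ * t * x)⁻¹ * x⁻¹ := by rw [this]
      _ = t⁻¹ := by group
  obtain ⟨g, hq, hmem, hgz, -, -⟩ := h.fuse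
  set w : ↥(centralizer ({z} : Set G)) := ⟨g * z * g⁻¹, hq⟩ with hw
  have hw1 : w ≠ 1 := fun e => z_ne h (conj_eq_one_iff.1 (congrArg Subtype.val e))
  have hwz : w ≠ zC z := fun e => hgz (congrArg Subtype.val e)
  obtain ⟨y, hy, hyw⟩ : ∃ y ∈ Q, y * w ≠ w * y := by
    by_contra hcon
    push Not at hcon
    rcases center_cases h hmem hcon with e | e
    · exact hw1 e
    · exact hwz e
  have hcomm : y * w * y⁻¹ * w⁻¹ = zC z := by
    have hc : ⁅(⟨y, hy⟩ : Q), (⟨w, hmem⟩ : Q)⁆ ∈ center Q := by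
      rw [← h.ext.1.2.2]; exact commutator_mem_commutator (mem_top _) (mem_top _)
    rcases center_cases h (SetLike.coe_mem _)
      (fun v hv => congrArg Subtype.val (mem_center_iff.1 hc ⟨v, hv⟩)) with e | e
    · exact absurd (commutatorElement_eq_one_iff_mul_comm.1
        (show ⁅y, w⁆ = 1 by simpa [commutatorElement_def] using e)) hyw
    · simpa [commutatorElement_def] using e
  have e1 : z * (g * z * g⁻¹) = ((y : G) * g) * z * ((y : G) * g)⁻¹ := by
    have : (y : G) * (g * z * g⁻¹) * (y : G)⁻¹ * (g * z * g⁻¹)⁻¹ = z := congrArg Subtype.val hcomm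
    calc z * (g * z * g⁻¹) = (y : G) * (g * z * g⁻¹) * (y : G)⁻¹ * (g * z * g⁻¹)⁻¹ * (g * z * g⁻¹) := by rw [this]
      _ = _ := by group
  apply hne
  rw [eq_bot_iff]
  intro t ht
  rw [mem_bot]
  refine hfree t ht ?_
  have hz2 := z_mul h
  have hw2 : (g * z * g⁻¹) * (g * z * g⁻¹) = 1 := by
    calc (g * z * g⁻¹) * (g * z * g⁻¹) = g * (z * z) * g⁻¹ := by group
      _ = 1 := by rw [hz2]; group
  have hwinv := hconj g t⁻¹ (T.inv_mem ht)
  rw [inv_inv] at hwinv
  have hx := hconj ((y : G) * g) t ht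
  rw [← e1] at hx
  have hzw : z * (g * z * g⁻¹) = g * z * g⁻¹ * z := (mem_centralizer_singleton_iff.1 hq).symm
  have h1 : (g * z * g⁻¹) * t * (g * z * g⁻¹) = t⁻¹ := hconj g t ht
  have h2 : z * t⁻¹ * z = t := by rw [hinv _ (T.inv_mem ht), inv_inv]
  have h3 : z * (g * z * g⁻¹) * t * (z * (g * z * g⁻¹)) = t := by
    calc z * (g * z * g⁻¹) * t * (z * (g * z * g⁻¹))
        = z * (g * z * g⁻¹) * t * ((g * z * g⁻¹) * z) := by rw [hzw]
      _ = z * ((g * z * g⁻¹) * t * (g * z * g⁻¹)) * z := by group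
      _ = t := by rw [h1, h2]
  rw [hx] at h3
  have h4 : z * t * z = t := by rw [hinv t ht, h3]
  calc t * z = z * t * z * z := by rw [h4]
    _ = z * t := by rw [mul_assoc, hz2, mul_one]

/-- The group is simple. -/
theorem isSimple (h : Data z Q) : IsSimpleGroup G := by
  have : Nontrivial G := ⟨z, 1, z_ne h⟩
  refine ⟨fun T hT => ?_⟩
  by_cases hne : T = ⊥
  · exact Or.inl hne
  right
  have hz := z_mem h hT hne
  obtain ⟨g, hq, hmem, hgz, hirr, a, ha, b, hb, hac, hbc, hab⟩ := h.fuse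
  have hXn : (T.subgroupOf (centralizer ({z} : Set G))).Normal := hT.subgroupOf _
  have hQX : Q ≤ T.subgroupOf (centralizer ({z} : Set G)) := hirr _ hXn (mem_subgroupOf.2 (hT.conj_mem z hz g))
  rcases h.max _ hXn hQX with hX | hX
  · exfalso
    have key : ∀ x : ↥(centralizer ({z} : Set G)), x ∈ Q → (x : G) * (g * z * g⁻¹) = g * z * g⁻¹ * x →
        ∃ hc : g⁻¹ * (x : G) * g ∈ centralizer ({z} : Set G), (⟨_, hc⟩ : ↥(centralizer ({z} : Set G))) ∈ Q := fun x hx hxc => by
      refine ⟨centralizer_map h g hxc, ?_⟩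
      have hh : (⟨_, centralizer_map h g hxc⟩ : ↥(centralizer ({z} : Set G))) ∈
          T.subgroupOf (centralizer ({z} : Set G)) := hT.conj_mem' _ (mem_subgroupOf.1 (hQX hx)) g
      exact SetLike.ext_iff.1 hX _ |>.1 hh
    obtain ⟨ha', haQ⟩ := key a ha hac
    obtain ⟨hb', hbQ⟩ := key b hb hbc
    have hcc : ∀ u v : ↥(centralizer ({z} : Set G)), u ∈ Q → v ∈ Q → ⁅u, v⁆ = 1 ∨ ⁅u, v⁆ = zC z := fun u v hu hv => by
      have hc : ⁅(⟨u, hu⟩ : Q), (⟨v, hv⟩ : Q)⁆ ∈ center Q := by
        rw [← h.ext.1.2.2]; exact commutator_mem_commutator (mem_top _) (mem_top _)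
      have hcz := center_cases h (SetLike.coe_mem _)
        (fun w hw => congrArg Subtype.val (mem_center_iff.1 hc ⟨w, hw⟩))
      simpa [commutatorElement_def] using hcz
    rcases hcc a b ha hb with e | e
    · exact hab (commutatorElement_eq_one_iff_mul_comm.1 e)
    rcases hcc _ _ haQ hbQ with e' | e'
    · have e2 : g⁻¹ * (⁅a, b⁆ : ↥(centralizer ({z} : Set G))) * g = (1 : G) := by
        have := congrArg Subtype.val e'
        simp [commutatorElement_def] at this ⊢
        simpa [mul_assoc] using this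
      rw [e] at e2
      exact z_ne h (by simpa [zC, mul_assoc, inv_mul_eq_one] using (show g⁻¹ * z * g = 1 from e2))
    · have e2 : g⁻¹ * (⁅a, b⁆ : ↥(centralizer ({z} : Set G))) * g = z := by
        have := congrArg Subtype.val e'
        simp [commutatorElement_def, zC] at this ⊢
        simpa [mul_assoc] using this
      rw [e] at e2
      refine hgz ?_
      have e3 : g⁻¹ * z * g = z := e2
      calc g * z * g⁻¹ = g * (g⁻¹ * z * g) * g⁻¹ := by rw [e3]
        _ = z := by group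
  · have : Fact (Nat.Prime 2) := ⟨Nat.prime_two⟩
    have hCT : centralizer ({z} : Set G) ≤ T := fun x hx => by
      have : (⟨x, hx⟩ : ↥(centralizer ({z} : Set G))) ∈ T.subgroupOf (centralizer ({z} : Set G)) := by rw [hX]; exact mem_top _
      exact this
    obtain ⟨P, hP⟩ : ∃ P : Sylow 2 ↥(centralizer ({z} : Set G)), Q ≤ P := (pgroup h).exists_le_sylow
    obtain ⟨R, hR⟩ : ∃ R : Sylow 2 G, (P : Subgroup ↥(centralizer ({z} : Set G))).map (centralizer ({z} : Set G)).subtype ≤ R :=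
      (P.2.map _).exists_le_sylow
    have hcR : ∀ u : (R : Subgroup G), u ∈ center (R : Subgroup G) → (u : G) = 1 ∨ (u : G) = z := by
      intro u hu
      have hcomm : ∀ y : ↥(centralizer ({z} : Set G)), y ∈ (P : Subgroup ↥(centralizer ({z} : Set G))) → (y : G) * u = u * y := fun y hy =>
        congrArg Subtype.val (mem_center_iff.1 hu ⟨y, hR ⟨y, hy, rfl⟩⟩)
      have huC : (u : G) ∈ centralizer ({z} : Set G) := mem_centralizer_singleton_iff.2 (hcomm (zC z) (hP (zC_mem h))).symm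
      have huQ : (⟨u, huC⟩ : ↥(centralizer ({z} : Set G))) ∈ Q := h.cent fun y hy => Subtype.ext (hcomm y (hP hy))
      rcases center_cases h huQ (fun y hy => Subtype.ext (hcomm y (hP hy))) with e | e
      · exact Or.inl (congrArg Subtype.val e)
      · exact Or.inr (congrArg Subtype.val e)
    have hzR : z ∈ (R : Subgroup G) := hR ⟨zC z, hP (zC_mem h), rfl⟩
    have hRn : Nontrivial (R : Subgroup G) := ⟨⟨z, hzR⟩, 1, fun e => z_ne h (congrArg Subtype.val e)⟩
    obtain ⟨u, hu, hu1⟩ : ∃ u : (R : Subgroup G), u ∈ center (R : Subgroup G) ∧ u ≠ 1 := by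
      have := R.2.center_nontrivial
      obtain ⟨v, hv⟩ := exists_ne (1 : center (R : Subgroup G))
      exact ⟨v.1, v.2, fun e => hv (Subtype.ext e)⟩
    have huz : (u : G) = z := (hcR u hu).resolve_left fun e => hu1 (Subtype.ext e)
    have hRC : (R : Subgroup G) ≤ centralizer ({z} : Set G) := fun x hx => by
      rw [mem_centralizer_singleton_iff, ← huz]
      exact congrArg Subtype.val (mem_center_iff.1 hu ⟨x, hx⟩)
    have hfr := Sylow.normalizer_sup_eq_top' R (hRC.trans hCT)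
    rw [← top_le_iff, ← hfr]
    refine sup_le (fun n hn => hCT ?_) le_rfl
    rw [mem_centralizer_singleton_iff]
    have hmemn : ∀ x, x ∈ (R : Subgroup G) ↔ n * x * n⁻¹ ∈ (R : Subgroup G) := mem_normalizer_iff.1 hn
    have hv : n * z * n⁻¹ ∈ (R : Subgroup G) := (hmemn z).1 hzR
    have hvc : (⟨_, hv⟩ : (R : Subgroup G)) ∈ center (R : Subgroup G) := mem_center_iff.2 fun y => by
      apply Subtype.ext
      show (y : G) * (n * z * n⁻¹) = n * z * n⁻¹ * y
      have hy : n⁻¹ * (y : G) * n ∈ (R : Subgroup G) := (hmemn _).2 (by simpa [mul_assoc] using y.2)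
      have e : n⁻¹ * (y : G) * n * z = z * (n⁻¹ * (y : G) * n) := mem_centralizer_singleton_iff.1 (hRC hy)
      calc (y : G) * (n * z * n⁻¹) = n * (n⁻¹ * (y : G) * n * z) * n⁻¹ := by group
        _ = n * (z * (n⁻¹ * (y : G) * n)) * n⁻¹ := by rw [e]
        _ = _ := by group
    rcases hcR _ hvc with e | e
    · exact absurd (conj_eq_one_iff.1 e) (z_ne h)
    · exact mul_inv_eq_iff_eq_mul.1 e

omit [Finite G] in
theorem not_comm [Finite G] (h : Data z Q) : ¬ IsMulCommutative G := by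
  intro hc
  obtain ⟨g, hq, -, hgz, -⟩ := h.fuse
  exact hgz (by rw [hc.is_comm.comm g z, mul_inv_cancel_right])

theorem pCore_eq (h : Data z Q) (h2 : ¬ IsPGroup 2 ↥(centralizer ({z} : Set G))) : Cfsg.pCore 2 ↥(centralizer ({z} : Set G)) = Q := by
  have hn := h.normal
  have hle : Q ≤ Cfsg.pCore 2 ↥(centralizer ({z} : Set G)) := Cfsg.Agent.CharP.le_pCore hn (pgroup h)
  rcases h.max _ inferInstance hle with e | e
  · exact e
  · exact absurd ((e ▸ Cfsg.Agent.CharP.isPGroup_pCore 2 ↥(centralizer ({z} : Set G))).of_equiv Subgroup.topEquiv) h2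

theorem genFitting_eq (h : Data z Q) (h2 : ¬ IsPGroup 2 ↥(centralizer ({z} : Set G))) :
    Cfsg.generalizedFittingSubgroup ↥(centralizer ({z} : Set G)) = Q := by
  have : Fact (Nat.Prime 2) := ⟨Nat.prime_two⟩
  rw [← pCore_eq h h2]
  exact Cfsg.Agent.CharP.genFitting_eq_pCore_iff.2 (by rw [pCore_eq h h2]; exact h.cent)

end Cfsg.Agent.LargeExtra.SimpleCrit
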