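import Cfsg.Agent.Lib.LargeExtra.AffineLinear
import Cfsg.Agent.Lib.LargeExtra.Centralizer
import Cfsg.Agent.S5420

/-!
The centralizer of a non-trivial translation in the affine group over the field with two elements.
-/

set_option autoImplicit false

namespace Cfsg.Agent.LargeExtra.Affine

open Subgroup AffineLinear
open scoped commutatorElement

/-- A subgroup of exponent four with squares in a centre of order two is extraspecial. -/
theorem isExtraspecial_mk {G : Type*} [Group G] [Finite G] {H : Subgroup G} {z : G}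
    (hp : IsPGroup 2 ↥H) (hzH : z ∈ H) (hz1 : z ≠ 1)
    (hz : ∀ x ∈ H, x * z = z * x) (hsq : ∀ x ∈ H, x * x = 1 ∨ x * x = z)
    (hc : ∀ x ∈ H, (∀ y ∈ H, y * x = x * y) → x = 1 ∨ x = z)
    (hH : ∃ x ∈ H, ∃ y ∈ H, y * x ≠ x * y) :
    Cfsg.IsExtraspecial 2 ↥H := by
  haveI : Fact (Nat.Prime 2) := ⟨Nat.prime_two⟩
  have hzc : ∀ u : ↥H, ((u : G) = 1 ∨ (u : G) = z) → u ∈ center ↥H := by
    intro u hu
    rw [mem_center_iff]
    intro v
    apply Subtype.ext
    show (v : G) * u = u * v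
    rcases hu with e | e <;> rw [e]
    · simp
    · exact hz _ v.2
  have hsq' : ∀ u : ↥H, u * u ∈ center ↥H := fun u => hzc _ (hsq _ u.2)
  have hle : commutator ↥H ≤ center ↥H := by
    rw [_root_.commutator_def, commutator_le]
    intro a _ b _
    have e : ⁅a, b⁆ = (a * b) * (a * b) * (b⁻¹ * (a⁻¹ * a⁻¹) * b⁻¹) := by
      rw [commutatorElement_def]; group
    rw [e]
    refine mul_mem (hsq' _) ?_
    rw [mul_assoc, show (a⁻¹ * a⁻¹) * b⁻¹ = b⁻¹ * (a⁻¹ * a⁻¹) from
      ((mem_center_iff.1 (hsq' a⁻¹)) b⁻¹).symm, ← mul_assoc]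
    exact mul_mem (hsq' _) (hsq' _)
  have hcard : Nat.card ↥(center ↥H) = 2 := by
    rw [Nat.card_eq_two_iff' (1 : ↥(center ↥H))]
    refine ⟨⟨⟨z, hzH⟩, hzc _ (Or.inr rfl)⟩, fun e => hz1 (congrArg (fun w : ↥(center ↥H) => ((w : ↥H) : G)) e), ?_⟩
    rintro ⟨⟨u, hu⟩, huc⟩ hu1
    rcases hc u hu (fun v hv => congrArg Subtype.val (mem_center_iff.1 huc ⟨v, hv⟩)) with e | e
    · subst e; exact absurd rfl hu1
    · subst e; rfl
  have heq : commutator ↥H = center ↥H := by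
    refine eq_of_le_of_card_ge hle ?_
    rw [hcard]
    obtain ⟨x, hx, y, hy, hxy⟩ := hH
    refine (one_lt_card_iff_ne_bot _).2 fun e => hxy ?_
    have h0 : ⁅(⟨y, hy⟩ : ↥H), ⟨x, hx⟩⁆ ∈ commutator ↥H := commutator_mem_commutator (mem_top _) (mem_top _)
    rw [e, mem_bot, commutatorElement_eq_one_iff_mul_comm] at h0
    exact congrArg Subtype.val h0
  refine ⟨⟨hp, le_antisymm ?_ ?_, heq⟩, hcard⟩
  · have := Cfsg.Agent.CharP.frattini_le_ker (p := 2) (QuotientGroup.mk' (center ↥H)) (fun a b => by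
      show (a : ↥H ⧸ center ↥H) * b = b * a
      rw [← QuotientGroup.mk_mul, ← QuotientGroup.mk_mul, QuotientGroup.eq]
      have h0 : ⁅b⁻¹, a⁻¹⁆ ∈ center ↥H := hle (commutator_mem_commutator (mem_top _) (mem_top _))
      convert h0 using 1
      simp [commutatorElement_def, mul_assoc])
      (fun a => by
        rw [QuotientGroup.mk'_apply, ← QuotientGroup.mk_pow, QuotientGroup.eq_one_iff, pow_two]
        exact hsq' a)
    rwa [QuotientGroup.ker_mk'] at this
  · haveI := hp.isNilpotent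
    rw [← heq]
    exact Cfsg.Agent.Coprime.commutator_le_frattini _

abbrev W (n : ℕ) := Fin n → ZMod 2
abbrev V (n : ℕ) := ZMod 2 × W n

/-- The distinguished vector. -/
def e₁ (n : ℕ) : V n := (1, 0)

theorem e₁_ne (n : ℕ) : e₁ n ≠ 0 := fun h => one_ne_zero (congrArg Prod.fst h)

theorem fst_smul_e₁ {n : ℕ} (v : V n) : v = v.1 • e₁ n + (0, v.2) := by
  ext <;> simp [e₁]

/-- The transvection with centre `e₁`. -/
def αLin {n : ℕ} (c : W n) : V n →ₗ[ZMod 2] V n where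
  toFun v := (v.1 + c ⬝ᵥ v.2, v.2)
  map_add' v w := by
    refine Prod.ext ?_ rfl
    show v.1 + w.1 + c ⬝ᵥ (v.2 + w.2) = v.1 + c ⬝ᵥ v.2 + (w.1 + c ⬝ᵥ w.2)
    rw [dotProduct_add]; ring
  map_smul' a v := by
    refine Prod.ext ?_ rfl
    show a * v.1 + c ⬝ᵥ (a • v.2) = a * (v.1 + c ⬝ᵥ v.2)
    rw [dotProduct_smul, smul_eq_mul]; ring

/-- The transvection with centre `e₁`, as an automorphism. -/
def α {n : ℕ} (c : W n) : V n ≃ₗ[ZMod 2] V n :=
  LinearEquiv.ofInvolutive (αLin c) (fun v => by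
    refine Prod.ext ?_ rfl
    show v.1 + c ⬝ᵥ v.2 + c ⬝ᵥ v.2 = v.1
    rw [add_assoc, add_self, add_zero])

theorem α_apply {n : ℕ} (c : W n) (v : V n) : α c v = (v.1 + c ⬝ᵥ v.2, v.2) := rfl

theorem α_mul {n : ℕ} (c d : W n) : α c * α d = α (c + d) := by
  refine LinearEquiv.ext fun v => ?_
  show α c (α d v) = α (c + d) v
  simp only [α_apply, add_dotProduct]
  refine Prod.ext ?_ rfl
  show v.1 + d ⬝ᵥ v.2 + c ⬝ᵥ v.2 = v.1 + (c ⬝ᵥ v.2 + d ⬝ᵥ v.2)
  ring

theorem α_e₁ {n : ℕ} (c : W n) : α c (e₁ n) = e₁ n := by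
  simp [α_apply, e₁]

theorem α_inj {n : ℕ} {c d : W n} (h : α c = α d) : c = d := by
  funext i
  have := congrArg (fun k : V n ≃ₗ[ZMod 2] V n => (k (0, Pi.single i 1)).1) h
  simpa [α_apply] using this

theorem exists_α {n : ℕ} {k : V n ≃ₗ[ZMod 2] V n} (he : k (e₁ n) = e₁ n)
    (hk : ∀ v, (k v).2 = v.2) : ∃ c, k = α c := by
  refine ⟨fun i => (k (0, Pi.single i 1)).1, LinearEquiv.ext fun v => ?_⟩
  rw [α_apply]
  refine Prod.ext ?_ (hk v)
  show (k v).1 = v.1 + _
  conv_lhs => rw [fst_smul_e₁ v, map_add, map_smul, he]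
  let g : W n →ₗ[ZMod 2] ZMod 2 :=
    (LinearMap.fst (ZMod 2) (ZMod 2) (W n)).comp (k.toLinearMap.comp (LinearMap.inr (ZMod 2) (ZMod 2) (W n)))
  have hg : g v.2 = (fun i => g (Pi.single i 1)) ⬝ᵥ v.2 := by
    conv_lhs => rw [pi_eq_sum_univ' v.2, map_sum]
    exact Finset.sum_congr rfl fun i _ => by rw [map_smul, smul_eq_mul, mul_comm]
  show v.1 * 1 + g v.2 = v.1 + _
  rw [mul_one, hg]
  rfl

/-- The stabiliser of the distinguished vector. -/
def S (n : ℕ) : Subgroup (V n ≃ₗ[ZMod 2] V n) where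
  carrier := {k | k (e₁ n) = e₁ n}
  mul_mem' {a b} ha hb := by
    show a (b (e₁ n)) = e₁ n
    rw [hb, ha]
  one_mem' := rfl
  inv_mem' {a} ha := by
    show a.symm (e₁ n) = e₁ n
    rw [LinearEquiv.symm_apply_eq]
    exact (Eq.symm ha)

theorem mem_S {n : ℕ} {k : V n ≃ₗ[ZMod 2] V n} : k ∈ S n ↔ k (e₁ n) = e₁ n := Iff.rfl

theorem snd_eq {n : ℕ} {k : V n ≃ₗ[ZMod 2] V n} (hk : k ∈ S n) (v : V n) :
    (k v).2 = (k (0, v.2)).2 := by
  conv_lhs => rw [fst_smul_e₁ v, map_add, map_smul, mem_S.1 hk]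
  simp [e₁]

/-- The action on the quotient by the distinguished vector, as a linear map. -/
def projEnd (n : ℕ) : ↥(S n) →* Module.End (ZMod 2) (W n) where
  toFun k := (LinearMap.snd (ZMod 2) (ZMod 2) (W n)).comp
    ((k : V n ≃ₗ[ZMod 2] V n).toLinearMap.comp (LinearMap.inr (ZMod 2) (ZMod 2) (W n)))
  map_one' := rfl
  map_mul' a b := LinearMap.ext fun w => snd_eq a.2 _

/-- The action on the quotient by the distinguished vector. -/
def proj (n : ℕ) : ↥(S n) →* (W n ≃ₗ[ZMod 2] W n) :=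
  (LinearMap.GeneralLinearGroup.generalLinearEquiv (ZMod 2) (W n)).toMonoidHom.comp (projEnd n).toHomUnits

theorem proj_apply {n : ℕ} (k : ↥(S n)) (w : W n) :
    proj n k w = ((k : V n ≃ₗ[ZMod 2] V n) (0, w)).2 := rfl

/-- The complement. -/
def β (n : ℕ) : (W n ≃ₗ[ZMod 2] W n) →* ↥(S n) where
  toFun A := ⟨(LinearEquiv.refl (ZMod 2) (ZMod 2)).prodCongr A, Prod.ext rfl (map_zero A)⟩
  map_one' := rfl
  map_mul' A B := rfl

theorem proj_β {n : ℕ} (A : W n ≃ₗ[ZMod 2] W n) : proj n (β n A) = A := LinearEquiv.ext fun _ => rfl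

theorem mem_ker_proj {n : ℕ} (k : ↥(S n)) : proj n k = 1 ↔ ∃ c, (k : V n ≃ₗ[ZMod 2] V n) = α c := by
  constructor
  · intro h
    refine exists_α k.2 fun v => ?_
    rw [snd_eq k.2, ← proj_apply, h]
    rfl
  · rintro ⟨c, hc⟩
    refine LinearEquiv.ext fun w => ?_
    rw [proj_apply, hc, α_apply]
    rfl

variable {G : Type*} [Group G]

/-- Coordinates for a group which is the affine group over the field with two elements. -/
structure Coord (n : ℕ) (G : Type*) [Group G] where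
  ι : V n → G
  Φ : G →* (V n ≃ₗ[ZMod 2] V n)
  μ : (V n ≃ₗ[ZMod 2] V n) →* G
  ι_add : ∀ v w, ι (v + w) = ι v * ι w
  ι_inj : Function.Injective ι
  conj : ∀ g v, g * ι v * g⁻¹ = ι (Φ g v)
  ker : ∀ g, Φ g = 1 → ∃ v, g = ι v
  section_μ : ∀ k, Φ (μ k) = k

namespace Coord

variable {n : ℕ} (D : Coord n G)

theorem ι_zero : D.ι 0 = 1 := by
  have h := D.ι_add 0 0
  rw [add_zero] at h
  exact left_eq_mul.1 h

theorem ι_mul_self (v : V n) : D.ι v * D.ι v = 1 := by rw [← D.ι_add, add_self, D.ι_zero]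

theorem Φ_ι (v : V n) : D.Φ (D.ι v) = 1 := by
  refine LinearEquiv.ext fun w => D.ι_inj ?_
  rw [← D.conj, ← D.ι_add, add_comm v w, D.ι_add, mul_inv_cancel_right]
  rfl

theorem conj_μ (k : V n ≃ₗ[ZMod 2] V n) (v : V n) : D.μ k * D.ι v = D.ι (k v) * D.μ k := by
  have h := D.conj (D.μ k) v
  rw [D.section_μ] at h
  rw [← h, inv_mul_cancel_right]

theorem mem_centralizer {g : G} :
    g ∈ centralizer ({D.ι (e₁ n)} : Set G) ↔ D.Φ g ∈ S n := by
  rw [mem_centralizer_singleton_iff, mem_S]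
  constructor
  · intro h
    refine D.ι_inj ?_
    rw [← D.conj, h, mul_inv_cancel_right]
  · intro h
    have h' := D.conj g (e₁ n)
    rw [h, mul_inv_eq_iff_eq_mul] at h'
    exact h'

/-- The normal subgroup of the centralizer. -/
def core : Subgroup G :=
  ((proj n).comp ((D.Φ.comp (centralizer ({D.ι (e₁ n)} : Set G)).subtype).codRestrict (S n)
    (fun g => D.mem_centralizer.1 g.2))).ker.map (centralizer ({D.ι (e₁ n)} : Set G)).subtype

theorem mem_core {g : G} : g ∈ D.core ↔ ∃ v c, g = D.ι v * D.μ (α c) := by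
  constructor
  · rintro ⟨x, hx, rfl⟩
    obtain ⟨c, hc⟩ := (mem_ker_proj _).1 (MonoidHom.mem_ker.1 hx)
    have hc' : D.Φ (x : G) = α c := hc
    obtain ⟨v, hv⟩ := D.ker ((x : G) * (D.μ (α c))⁻¹)
      (by rw [map_mul, map_inv, D.section_μ, hc', mul_inv_cancel])
    exact ⟨v, c, eq_mul_of_mul_inv_eq hv⟩
  · rintro ⟨v, c, rfl⟩
    have hΦ : D.Φ (D.ι v * D.μ (α c)) = α c := by rw [map_mul, D.Φ_ι, D.section_μ, one_mul]
    have hC : D.ι v * D.μ (α c) ∈ centralizer ({D.ι (e₁ n)} : Set G) := by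
      rw [D.mem_centralizer, hΦ, mem_S, α_e₁]
    exact ⟨⟨_, hC⟩, MonoidHom.mem_ker.2 ((mem_ker_proj _).2 ⟨c, hΦ⟩), rfl⟩

theorem core_mul (v w : V n) (c d : W n) :
    D.ι v * D.μ (α c) * (D.ι w * D.μ (α d)) = D.ι (v + α c w) * D.μ (α (c + d)) := by
  rw [mul_assoc, ← mul_assoc (D.μ (α c)), D.conj_μ, mul_assoc, ← map_mul, α_mul, ← mul_assoc,
    ← D.ι_add]

theorem ι_mem_core (v : V n) : D.ι v ∈ D.core :=
  D.mem_core.2 ⟨v, 0, by
    rw [show α (0 : W n) = 1 from LinearEquiv.ext fun w => by simp [α_apply], map_one, mul_one]⟩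

theorem μ_mem_core (c : W n) : D.μ (α c) ∈ D.core :=
  D.mem_core.2 ⟨0, c, by rw [D.ι_zero, one_mul]⟩

theorem card_core : Nat.card ↥D.core = 2 ^ (2 * n + 1) := by
  let f : V n × W n → ↥D.core := fun p => ⟨_, D.mem_core.2 ⟨p.1, p.2, rfl⟩⟩
  have hf : Function.Bijective f := by
    constructor
    · intro p q h
      have h' : D.ι p.1 * D.μ (α p.2) = D.ι q.1 * D.μ (α q.2) := congrArg Subtype.val h
      have h2 : p.2 = q.2 := α_inj (by
        have := congrArg D.Φ h'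
        simpa [D.Φ_ι, D.section_μ] using this)
      rw [h2] at h'
      exact Prod.ext (D.ι_inj (mul_right_cancel h')) h2
    · rintro ⟨g, hg⟩
      obtain ⟨v, c, rfl⟩ := D.mem_core.1 hg
      exact ⟨(v, c), rfl⟩
  rw [← Nat.card_eq_of_bijective f hf]
  rw [Nat.card_prod, Nat.card_prod, Nat.card_fun, Nat.card_zmod, Nat.card_eq_fintype_card, Fintype.card_fin]
  ring

theorem eq_zero_or_eq_of_fixed {v : V n} (h : ∀ c, α c v = v) : v = 0 ∨ v = e₁ n := by
  have h2 : v.2 = 0 := by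
    funext i
    have := congrArg Prod.fst (h (Pi.single i 1))
    rw [α_apply] at this
    simpa using this
  rcases zmod_two_cases v.1 with h1 | h1
  · left; exact Prod.ext h1 h2
  · right; exact Prod.ext h1 h2

theorem commute_core_cases {g : G} (hg : ∀ y ∈ D.core, y * g = g * y) :
    g = 1 ∨ g = D.ι (e₁ n) := by
  obtain ⟨v, rfl⟩ := D.ker g (LinearEquiv.ext fun w => D.ι_inj (by
    rw [← D.conj, ← hg _ (D.ι_mem_core w), mul_inv_cancel_right]; rfl))
  rcases eq_zero_or_eq_of_fixed (v := v) (fun c => D.ι_inj (by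
    have h1 := hg _ (D.μ_mem_core c)
    rw [D.conj_μ] at h1
    exact mul_right_cancel h1)) with rfl | rfl
  · left; exact D.ι_zero
  · right; rfl

theorem core_le : D.core ≤ centralizer ({D.ι (e₁ n)} : Set G) := map_subtype_le _

theorem core_normalized :
    centralizer ({D.ι (e₁ n)} : Set G) ≤ normalizer (D.core : Set G) := by
  refine le_trans ?_ (le_normalizer_map _)
  rw [normalizer_eq_top, ← MonoidHom.range_eq_map, range_subtype]

/-- The conclusion about the centralizer of an involution `z` of `G`: its 2-core is a large extraspecial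
group of width `n` with an elementary abelian maximal subgroup and a complement `GL n 2`. -/
def Shape (n : ℕ) (z : G) (Q : Subgroup G) : Prop :=
  Cfsg.IsExtraspecial 2 ↥Q ∧ Nat.card ↥Q = 2 ^ (2 * n + 1) ∧
    (∃ E : Subgroup G, E ≤ Q ∧ Cfsg.IsElementaryAbelian 2 E ∧ Nat.card ↥E = 2 ^ (n + 1)) ∧
    Cfsg.IsLargeExtraspecial Q ∧
    ∃ K : Subgroup G, K ≤ centralizer ({z} : Set G) ∧ Q ⊓ K = ⊥ ∧ Q ⊔ K = centralizer ({z} : Set G) ∧
      Nonempty (↥K ≃* Matrix.GeneralLinearGroup (Fin n) (ZMod 2))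

/-- The homomorphism onto the automorphisms of the quotient. -/
def φ : ↥(centralizer ({D.ι (e₁ n)} : Set G)) →* (W n ≃ₗ[ZMod 2] W n) :=
  (proj n).comp ((D.Φ.comp (centralizer ({D.ι (e₁ n)} : Set G)).subtype).codRestrict (S n)
    (fun g => D.mem_centralizer.1 g.2))

/-- The complement in the centralizer. -/
def compl : (W n ≃ₗ[ZMod 2] W n) →* G := D.μ.comp ((S n).subtype.comp (β n))

theorem compl_mem (A : W n ≃ₗ[ZMod 2] W n) : D.compl A ∈ centralizer ({D.ι (e₁ n)} : Set G) := by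
  rw [D.mem_centralizer]
  show D.Φ (D.μ _) ∈ S n
  rw [D.section_μ]
  exact (β n A).2

theorem φ_compl (A : W n ≃ₗ[ZMod 2] W n) : D.φ ⟨D.compl A, D.compl_mem A⟩ = A := by
  refine Eq.trans ?_ (proj_β A)
  show proj n _ = proj n _
  congr 1
  exact Subtype.ext (D.section_μ _)

theorem pCore_centralizer [Finite G] :
    Cfsg.pCore 2 ↥(centralizer ({D.ι (e₁ n)} : Set G)) = D.φ.ker := by
  refine le_antisymm ?_ (Cfsg.Agent.Cores.le_pCore ?_)
  · intro x hx
    have h := Cfsg.Agent.Cores.map_pCore_le (f := D.φ) (fun A => ⟨_, D.φ_compl A⟩) 2 ⟨x, hx, rfl⟩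
    rw [pCore_linearEquiv, mem_bot] at h
    exact MonoidHom.mem_ker.2 h
  · have h : IsPGroup 2 ↥D.core := IsPGroup.of_card D.card_core
    exact h.of_equiv (D.φ.ker.equivMapOfInjective _ (centralizer ({D.ι (e₁ n)} : Set G)).subtype_injective).symm

theorem shape [Finite G] (hn : 1 ≤ n) (Q : Subgroup G)
    (hQ : Q = (Cfsg.pCore 2 ↥(centralizer ({D.ι (e₁ n)} : Set G))).map
      (centralizer ({D.ι (e₁ n)} : Set G)).subtype) :
    Shape n (D.ι (e₁ n)) Q := by
  obtain rfl : Q = D.core := by rw [hQ, D.pCore_centralizer]; rfl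
  set z := D.ι (e₁ n)
  have hz1 : z ≠ 1 := fun h => e₁_ne n (D.ι_inj (h.trans D.ι_zero.symm))
  have hzQ : z ∈ D.core := D.ι_mem_core _
  have hzc : ∀ x ∈ D.core, x * z = z * x := fun x hx =>
    mem_centralizer_singleton_iff.1 (D.core_le hx)
  have hext : Cfsg.IsExtraspecial 2 ↥D.core := by
    refine isExtraspecial_mk (IsPGroup.of_card D.card_core) hzQ hz1 hzc ?_ ?_ ?_
    · intro x hx
      obtain ⟨v, c, rfl⟩ := D.mem_core.1 hx
      rw [D.core_mul, AffineLinear.add_self c,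
        show α (0 : W n) = 1 from LinearEquiv.ext fun w => by simp [α_apply], map_one, mul_one]
      have hv : v + α c v = (c ⬝ᵥ v.2) • e₁ n := by
        refine Prod.ext ?_ ?_
        · show v.1 + (v.1 + c ⬝ᵥ v.2) = (c ⬝ᵥ v.2) * 1
          rw [← add_assoc, AffineLinear.add_self, zero_add, mul_one]
        · show v.2 + v.2 = (c ⬝ᵥ v.2) • 0
          rw [AffineLinear.add_self, smul_zero]
      rw [hv]
      rcases zmod_two_cases (c ⬝ᵥ v.2) with h | h
      · left; rw [h, zero_smul, D.ι_zero]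
      · right; rw [h, one_smul]
    · exact fun x _ hy => D.commute_core_cases hy
    · let i : Fin n := ⟨0, hn⟩
      refine ⟨_, D.ι_mem_core (0, Pi.single i 1), _, D.μ_mem_core (Pi.single i 1), fun h => ?_⟩
      rw [D.conj_μ] at h
      have := congrArg Prod.fst (D.ι_inj (mul_right_cancel h))
      rw [α_apply] at this
      simp at this
  have hctr : (center ↥D.core).map D.core.subtype = zpowers z := by
    refine le_antisymm ?_ (zpowers_le.2 ⟨⟨z, hzQ⟩, mem_center_iff.2 fun g => Subtype.ext (hzc _ g.2), rfl⟩)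
    rintro _ ⟨g, hg, rfl⟩
    rcases D.commute_core_cases (g := (g : G)) (fun y hy => congrArg Subtype.val (mem_center_iff.1 hg ⟨y, hy⟩)) with e | e
    · rw [coe_subtype, e]; exact one_mem _
    · rw [coe_subtype, e]; exact mem_zpowers z
  have hcent : centralizer (D.core : Set G) = zpowers z := by
    refine le_antisymm ?_ (zpowers_le.2 (mem_centralizer_iff.2 fun y hy => hzc y hy))
    intro g hg
    rcases D.commute_core_cases (fun y hy => mem_centralizer_iff.1 hg y hy) with e | e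
    · rw [e]; exact one_mem _
    · rw [e]; exact mem_zpowers z
  let E : Subgroup G :=
    { carrier := Set.range D.ι
      mul_mem' := by rintro _ _ ⟨v, rfl⟩ ⟨w, rfl⟩; exact ⟨v + w, D.ι_add v w⟩
      one_mem' := ⟨0, D.ι_zero⟩
      inv_mem' := by rintro _ ⟨v, rfl⟩; exact ⟨v, eq_inv_of_mul_eq_one_left (D.ι_mul_self v)⟩ }
  have hEQ : E ≤ D.core := by rintro _ ⟨v, rfl⟩; exact D.ι_mem_core v
  have hEN : E.Normal := ⟨by rintro _ ⟨v, rfl⟩ g; exact ⟨_, (D.conj g v).symm⟩⟩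
  have hEp : IsPGroup 2 ↥E := (IsPGroup.of_card D.card_core).to_le hEQ
  refine ⟨hext, D.card_core, ⟨E, hEQ, ⟨⟨⟨?_⟩⟩, ?_⟩, ?_⟩, ?_, ⟨D.compl.range, ?_, ?_, ?_, ?_⟩⟩
  · rintro ⟨_, v, rfl⟩ ⟨_, w, rfl⟩
    exact Subtype.ext (show D.ι v * D.ι w = D.ι w * D.ι v by rw [← D.ι_add, ← D.ι_add, add_comm])
  · rintro _ ⟨v, rfl⟩
    rw [pow_two, D.ι_mul_self]
  · show Nat.card ↥(Set.range D.ι) = _
    rw [← Nat.card_congr (Equiv.ofInjective D.ι D.ι_inj)]
    rw [Nat.card_prod, Nat.card_fun, Nat.card_zmod, Nat.card_eq_fintype_card, Fintype.card_fin]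
    ring
  · refine Cfsg.Agent.S5420.result D.core hext (by rw [hctr, hcent]) ?_ ?_
    · rw [hctr, zpowers_eq_closure, centralizer_closure]
      exact D.core_normalized
    · rw [hctr, zpowers_le]
      haveI := hEN
      exact Cfsg.Agent.Cores.le_pCore hEp ⟨_, rfl⟩
  · rintro _ ⟨A, rfl⟩; exact D.compl_mem A
  · rw [eq_bot_iff]
    rintro _ ⟨hg, A, rfl⟩
    obtain ⟨x, hx, hxe⟩ := hg
    obtain rfl : x = ⟨D.compl A, D.compl_mem A⟩ := Subtype.ext hxe
    have hA : A = 1 := by rw [← D.φ_compl A]; exact MonoidHom.mem_ker.1 hx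
    rw [mem_bot, hA, map_one]
  · refine le_antisymm (sup_le D.core_le (by rintro _ ⟨A, rfl⟩; exact D.compl_mem A)) ?_
    intro g hg
    let x : ↥(centralizer ({z} : Set G)) := ⟨g, hg⟩
    have hk : x * (⟨_, D.compl_mem (D.φ x)⟩ : ↥(centralizer ({z} : Set G)))⁻¹ ∈ D.φ.ker := by
      rw [MonoidHom.mem_ker, map_mul, map_inv, D.φ_compl, mul_inv_cancel]
    have h1 : g * (D.compl (D.φ x))⁻¹ ∈ D.core := ⟨_, hk, rfl⟩
    rw [← inv_mul_cancel_right g (D.compl (D.φ x))]
    exact mul_mem_sup h1 ⟨_, rfl⟩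
  · exact ⟨((MonoidHom.ofInjective (f := D.compl) (fun A B h => by
      rw [← D.φ_compl A, ← D.φ_compl B]; congr 1; exact Subtype.ext h)).symm).trans
        ((Matrix.GeneralLinearGroup.toLin).trans
          (LinearMap.GeneralLinearGroup.generalLinearEquiv (ZMod 2) (W n))).symm⟩

end Coord

/-- A normal elementary abelian subgroup of order `2 ^ (n + 1)` with a complement inducing its whole
automorphism group gives coordinates, with any chosen involution as the distinguished vector. -/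
theorem exists_coord {G : Type*} [Group G] [Finite G] {n : ℕ} (U M : Subgroup G) [U.Normal]
    (hU : Cfsg.IsElementaryAbelian 2 U) (hUcard : Nat.card ↥U = 2 ^ (n + 1)) (hUM' : U ⊔ M = ⊤)
    (hfaith : ∀ m ∈ M, (∀ u ∈ U, m * u * m⁻¹ = u) → m = 1)
    (hfull : ∀ φ : ↥U ≃* ↥U, ∃ m ∈ M, ∀ u : ↥U, ((φ u : ↥U) : G) = m * u * m⁻¹)
    {z : G} (hzU : z ∈ U) (hz1 : z ≠ 1) : ∃ D : Coord n G, D.ι (e₁ n) = z := by
  haveI := hU.1
  letI : CommGroup ↥U := { (inferInstance : Group ↥U) with mul_comm := fun a b => mul_comm' a b }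
  have hexp : ∀ b : Additive ↥U, 2 • b = 0 := fun b =>
    congrArg Additive.ofMul (Subtype.ext (hU.2 _ b.toMul.2) : b.toMul ^ 2 = 1)
  letI : Module (ZMod 2) (Additive ↥U) := AddCommGroup.zmodModule hexp
  haveI : Module.Finite (ZMod 2) (Additive ↥U) := Module.Finite.of_finite
  have hrank : Module.finrank (ZMod 2) (Additive ↥U) = n + 1 := by
    have h := Module.natCard_eq_pow_finrank (K := ZMod 2) (V := Additive ↥U)
    rw [Nat.card_zmod, show Nat.card (Additive ↥U) = Nat.card ↥U from Nat.card_congr Additive.toMul, hUcard] at h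
    exact (Nat.pow_right_injective le_rfl h).symm
  let T₀ : Additive ↥U ≃ₗ[ZMod 2] V n := LinearEquiv.ofFinrankEq _ _ (by
    rw [hrank, Module.finrank_prod, Module.finrank_self, Module.finrank_pi, Fintype.card_fin, add_comm])
  have hz0 : T₀ (Additive.ofMul ⟨z, hzU⟩) ≠ 0 := fun h =>
    hz1 (congrArg (fun a : Additive ↥U => ((a.toMul : ↥U) : G)) ((LinearEquiv.map_eq_zero_iff T₀).1 h))
  obtain ⟨k₀, hk₀⟩ := exists_linearEquiv_apply hz0 (e₁_ne n)
  let T : Additive ↥U ≃ₗ[ZMod 2] V n := T₀.trans k₀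
  let ι : V n → G := fun v => (((T.symm v).toMul : ↥U) : G)
  have hιU : ∀ v, ι v ∈ U := fun v => ((T.symm v).toMul).2
  have hadd : ∀ v w, ι (v + w) = ι v * ι w := fun v w => by
    show (((T.symm (v + w)).toMul : ↥U) : G) = _
    rw [map_add]; rfl
  have hinj : Function.Injective ι := fun v w h =>
    T.symm.injective (Additive.toMul.injective (Subtype.ext h))
  have hιT : ∀ u : ↥U, ι (T (Additive.ofMul u)) = u := fun u => by
    show (((T.symm (T (Additive.ofMul u))).toMul : ↥U) : G) = u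
    rw [T.symm_apply_apply]; rfl
  have hconjU : ∀ g : G, ∀ v, g * ι v * g⁻¹ ∈ U := fun g v =>
    Subgroup.Normal.conj_mem inferInstance _ (hιU v) g
  let c : G → V n → V n := fun g v => T (Additive.ofMul ⟨_, hconjU g v⟩)
  have hc : ∀ g v, ι (c g v) = g * ι v * g⁻¹ := fun g v => hιT _
  have hc_mul : ∀ g h v, c (g * h) v = c g (c h v) := fun g h v => hinj (by
    rw [hc, hc, hc]; group)
  have hc_one : ∀ v, c 1 v = v := fun v => hinj (by rw [hc]; group)
  have hc_add : ∀ g v w, c g (v + w) = c g v + c g w := fun g v w => hinj (by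
    rw [hadd, hc, hc, hc, hadd]; group)
  let Φ₀ : G → (V n ≃ₗ[ZMod 2] V n) := fun g =>
    { ({ toFun := c g
         map_zero' := by
           have h := hc_add g 0 0
           rw [add_zero] at h
           exact left_eq_add.1 h
         map_add' := hc_add g } : V n →+ V n).toZModLinearMap 2 with
      invFun := c g⁻¹
      left_inv := fun v => by
        show c g⁻¹ (c g v) = v
        rw [← hc_mul, inv_mul_cancel, hc_one]
      right_inv := fun v => by
        show c g (c g⁻¹ v) = v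
        rw [← hc_mul, mul_inv_cancel, hc_one] }
  have hΦ₀ : ∀ g v, Φ₀ g v = c g v := fun g v => rfl
  let Φ : G →* (V n ≃ₗ[ZMod 2] V n) :=
    { toFun := Φ₀
      map_one' := LinearEquiv.ext fun v => hc_one v
      map_mul' := fun g h => LinearEquiv.ext fun v => hc_mul g h v }
  have hΦ : ∀ g v, g * ι v * g⁻¹ = ι (Φ g v) := fun g v => (hc g v).symm
  have hΦU : ∀ u ∈ U, Φ u = 1 := fun u hu => LinearEquiv.ext fun v => hinj (by
    rw [← hΦ, show u * ι v = ι v * u from congrArg Subtype.val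
      (mul_comm' (⟨u, hu⟩ : ↥U) ⟨_, hιU v⟩), mul_inv_cancel_right]
    rfl)
  have hΦM : ∀ m ∈ M, Φ m = 1 → m = 1 := fun m hm h => hfaith m hm fun u hu => by
    have h1 := hΦ m (T (Additive.ofMul ⟨u, hu⟩))
    rw [h] at h1
    simpa [hιT] using h1
  have hbij : Function.Bijective (Φ.comp M.subtype) := by
    constructor
    · intro a b h
      have h1 : Φ ((a : G) * (b : G)⁻¹) = 1 := by
        rw [map_mul, map_inv]
        exact mul_inv_eq_one.2 h
      exact Subtype.ext (mul_inv_eq_one.1 (hΦM _ (M.mul_mem a.2 (M.inv_mem b.2)) h1))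
    · intro k
      obtain ⟨m, hm, hmu⟩ := hfull
        { toFun := fun u => (T.symm (k (T (Additive.ofMul u)))).toMul
          invFun := fun u => (T.symm (k.symm (T (Additive.ofMul u)))).toMul
          left_inv := fun u => by simp
          right_inv := fun u => by simp
          map_mul' := fun a b => by simp }
      refine ⟨⟨m, hm⟩, LinearEquiv.ext fun v => hinj ?_⟩
      show ι (Φ m v) = ι (k v)
      have h1 := hmu (T.symm v).toMul
      rw [← hΦ]
      show m * (((T.symm v).toMul : ↥U) : G) * m⁻¹ = _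
      rw [← h1]
      show (((T.symm (k (T (Additive.ofMul (T.symm v).toMul)))).toMul : ↥U) : G) = ι (k v)
      rw [ofMul_toMul, T.apply_symm_apply]
  refine ⟨⟨ι, Φ, M.subtype.comp (MulEquiv.ofBijective _ hbij).symm.toMonoidHom, hadd, hinj, hΦ, ?_, ?_⟩, ?_⟩
  · intro g hg
    have hgU : g ∈ U ⊔ M := by rw [hUM']; exact mem_top g
    obtain ⟨u, hu, m, hm, rfl⟩ := mem_sup_of_normal_left.1 hgU
    rw [map_mul, hΦU u hu, one_mul] at hg
    rw [hΦM m hm hg, mul_one]
    exact ⟨_, (hιT ⟨u, hu⟩).symm⟩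
  · intro k
    exact (MulEquiv.ofBijective _ hbij).apply_symm_apply k
  · show ι (e₁ n) = z
    rw [← hk₀]
    exact hιT ⟨z, hzU⟩

theorem shape_of_data {G : Type*} [Group G] [Finite G] {n : ℕ} (hn : 1 ≤ n) (U M : Subgroup G) [U.Normal]
    (hU : Cfsg.IsElementaryAbelian 2 U) (hUcard : Nat.card ↥U = 2 ^ (n + 1)) (hUM' : U ⊔ M = ⊤)
    (hfaith : ∀ m ∈ M, (∀ u ∈ U, m * u * m⁻¹ = u) → m = 1)
    (hfull : ∀ φ : ↥U ≃* ↥U, ∃ m ∈ M, ∀ u : ↥U, ((φ u : ↥U) : G) = m * u * m⁻¹)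
    {z : G} (hzU : z ∈ U) (hz1 : z ≠ 1) (Q : Subgroup G)
    (hQ : Q = (Cfsg.pCore 2 ↥(centralizer ({z} : Set G))).map (centralizer ({z} : Set G)).subtype) :
    Coord.Shape n z Q := by
  obtain ⟨D, rfl⟩ := exists_coord U M hU hUcard hUM' hfaith hfull hzU hz1
  exact D.shape hn Q hQ

end Cfsg.Agent.LargeExtra.Affine
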