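import Cfsg.Agent.Lib.LargeExtra.Centralizer
import Cfsg.Agent.Lib.Cores.Basic
import Cfsg.Agent.S5421

/-!
The setting `Q_x = O₂(C(x))` with `Q_z` extraspecial and self-centralizing: conjugation, duality.
-/

set_option autoImplicit false

namespace Cfsg.Agent.LargeExtra

open Subgroup
open scoped commutatorElement

variable {G : Type*} [Group G] [Finite G]

/-- A pair with both centres in both subgroups forces largeness. -/
theorem Ctr.large_of_mem {Q Q' : Subgroup G} {z a : G} (h : Ctr Q z) (h' : Ctr Q' a) (ha : a ∈ Q) (hne : a ≠ z)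
    (hz : z ∈ Q') : Cfsg.IsLargeExtraspecial Q := by
  refine Cfsg.Agent.S5421.result Q h.ext (by rw [h.ctr, h.cent]) ?_ a ha ?_ h'.two ?_
  · rw [h.ctr]
    exact (centralizer_le (Set.singleton_subset_iff.2 (mem_zpowers z))).trans h.norm
  · rw [h.ctr]
    intro e
    rcases h.mem_zpowers_cases e with e | e
    · exact h'.ne_one e
    · exact hne e
  · rw [h.ctr, zpowers_le]
    have hle : Q' ≤ centralizer ({a} : Set G) := h'.le_centralizer
    haveI : (Q'.subgroupOf (centralizer ({a} : Set G))).Normal := normal_subgroupOf_of_le_normalizer h'.norm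
    refine ⟨⟨z, hle hz⟩, Cfsg.Agent.Cores.le_pCore ?_ (mem_subgroupOf.2 hz), rfl⟩
    exact h'.pgroup.of_equiv (subgroupOfEquivOfLe hle).symm

/-- An element of `Q` outside a subgroup `W ∋ z` is moved by some element centralizing `W`. -/
theorem Ctr.exists_separate {Q W : Subgroup G} {z x : G} (h : Ctr Q z) (hW : W ≤ Q) (hzW : z ∈ W)
    (hx : x ∈ Q) (hxW : x ∉ W) :
    ∃ q ∈ Q, (∀ y ∈ W, q * y = y * q) ∧ q * x * q⁻¹ = z * x := by
  haveI : Fact (Nat.Prime 2) := ⟨Nat.prime_two⟩
  by_contra hc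
  push Not at hc
  set X := W.subgroupOf Q with hX
  have hcX : center ↥Q ≤ X := by
    intro c hc'
    rw [hX, mem_subgroupOf]
    rcases h.center_cases hc' with e | e <;> rw [e]
    · exact one_mem _
    · exact hzW
  set Y := centralizer (X : Set ↥Q) with hY
  have h1 := Cfsg.Agent.PGroups.Extraspecial.card_mul_card_centralizer h.ext X hcX
  have h2 := Cfsg.Agent.PGroups.Extraspecial.card_mul_card_centralizer h.ext Y (center_le_centralizer _)
  have hle : X ≤ centralizer (Y : Set ↥Q) := by rw [hY, Subgroup.le_centralizer_iff]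
  have heq : X = centralizer (Y : Set ↥Q) := by
    refine eq_of_le_of_card_ge hle (le_of_eq ?_)
    have hpos : 0 < Nat.card ↥Y := Nat.card_pos
    exact Nat.eq_of_mul_eq_mul_right hpos (by rw [mul_comm, h2, ← h1])
  apply hxW
  have hm : (⟨x, hx⟩ : ↥Q) ∈ centralizer (Y : Set ↥Q) := by
    rw [mem_centralizer_iff]
    intro q hq
    apply Subtype.ext
    refine mul_inv_eq_iff_eq_mul.1 ((h.conj_cases q.2 hx).resolve_right (hc q q.2 fun y hy => ?_))
    exact (congrArg Subtype.val (mem_centralizer_iff.1 hq ⟨y, hW hy⟩ (mem_subgroupOf.2 hy))).symm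
  rwa [← heq, hX, mem_subgroupOf] at hm

/-- `O₂(C(x))` is carried by conjugation. -/
theorem pCore_centralizer_conj (x m : G) (w : G) :
    w ∈ (Cfsg.pCore 2 ↥(centralizer ({m * x * m⁻¹} : Set G))).map (centralizer ({m * x * m⁻¹} : Set G)).subtype ↔
      m⁻¹ * w * m ∈ (Cfsg.pCore 2 ↥(centralizer ({x} : Set G))).map (centralizer ({x} : Set G)).subtype := by
  have hC : (centralizer ({x} : Set G)).map (MulAut.conj m).toMonoidHom = centralizer ({m * x * m⁻¹} : Set G) := by
    ext y
    rw [mem_map_equiv, MulAut.conj_symm_apply, mem_centralizer_singleton_iff, mem_centralizer_singleton_iff]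
    constructor <;> intro e
    · calc y * (m * x * m⁻¹) = m * ((m⁻¹ * y * m) * x) * m⁻¹ := by group
        _ = _ := by rw [e]; group
    · calc (m⁻¹ * y * m) * x = m⁻¹ * (y * (m * x * m⁻¹)) * m := by group
        _ = _ := by rw [e]; group
  let e : ↥(centralizer ({x} : Set G)) ≃* ↥(centralizer ({m * x * m⁻¹} : Set G)) :=
    ((MulAut.conj m).subgroupMap _).trans (MulEquiv.subgroupCongr hC)
  have he : ∀ y, ((e y : ↥(centralizer ({m * x * m⁻¹} : Set G))) : G) = m * y * m⁻¹ := fun _ => rfl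
  rw [← Cfsg.Agent.Cores.map_pCore_eq e 2]
  constructor
  · rintro ⟨_, ⟨y, hy, rfl⟩, rfl⟩
    refine ⟨y, hy, ?_⟩
    show (y : G) = m⁻¹ * ((e y : ↥(centralizer ({m * x * m⁻¹} : Set G))) : G) * m
    rw [he]; group
  · rintro ⟨y, hy, hyw⟩
    refine ⟨e y, ⟨y, hy, rfl⟩, ?_⟩
    show ((e y : ↥(centralizer ({m * x * m⁻¹} : Set G))) : G) = w
    rw [he, show (y : G) = m⁻¹ * w * m from hyw]
    group

section Setting

variable (Q : G → Subgroup G)
  (hQ : ∀ x : G, Q x = (Cfsg.pCore 2 ↥(centralizer ({x} : Set G))).map (centralizer ({x} : Set G)).subtype)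

include hQ in
theorem setting_conj (x m w : G) : w ∈ Q (m * x * m⁻¹) ↔ m⁻¹ * w * m ∈ Q x := by
  rw [hQ, hQ]; exact pCore_centralizer_conj x m w

include hQ in
theorem setting_base {z : G} (hz : orderOf z = 2) (hE : Cfsg.IsExtraspecial 2 ↥(Q z))
    (hC : centralizer ((Q z : Subgroup G) : Set G) ≤ Q z) : Ctr (Q z) z := by
  haveI : Fact (Nat.Prime 2) := ⟨Nat.prime_two⟩
  set C := centralizer ({z} : Set G) with hCdef
  have hzC : z ∈ C := mem_centralizer_singleton_iff.2 rfl
  have hQle : Q z ≤ C := by rw [hQ]; exact map_subtype_le _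
  have hzQ : z ∈ Q z := by
    have hn : (zpowers (⟨z, hzC⟩ : ↥C)).Normal := by
      have hzc : (⟨z, hzC⟩ : ↥C) ∈ center ↥C :=
        mem_center_iff.2 fun u => Subtype.ext (mem_centralizer_singleton_iff.1 u.2)
      refine ⟨fun w hw u => ?_⟩
      rw [mem_center_iff.1 ((zpowers_le.2 hzc) hw) u, mul_inv_cancel_right]
      exact hw
    have hp : IsPGroup 2 ↥(zpowers (⟨z, hzC⟩ : ↥C)) :=
      IsPGroup.of_card (n := 1) (by rw [Nat.card_zpowers, orderOf_mk, hz, pow_one])
    rw [hQ]
    exact ⟨_, Cfsg.Agent.Cores.le_pCore hp (mem_zpowers _), rfl⟩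
  have hctr : (center ↥(Q z)).map (Q z).subtype = zpowers z := by
    symm
    refine eq_of_le_of_card_ge ?_ ?_
    · rw [zpowers_le]
      exact ⟨⟨z, hzQ⟩, mem_center_iff.2 fun q => Subtype.ext (mem_centralizer_singleton_iff.1 (hQle q.2)), rfl⟩
    · rw [card_map_of_injective (Q z).subtype_injective, hE.2, Nat.card_zpowers, hz]
  refine ⟨hE, hz, hctr, le_antisymm ?_ ?_, ?_⟩
  · intro x hx
    rw [← hctr]
    exact ⟨⟨x, hC hx⟩, mem_center_iff.2 fun q => Subtype.ext (mem_centralizer_iff.1 hx q q.2), rfl⟩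
  · rw [zpowers_le, mem_centralizer_iff]
    intro q hq
    exact mem_centralizer_singleton_iff.1 (hQle hq)
  · intro c hc
    rw [mem_normalizer_iff]
    intro w
    have e : c⁻¹ * z * c⁻¹⁻¹ = z := by
      rw [inv_inv, mul_assoc, ← mem_centralizer_singleton_iff.1 hc, inv_mul_cancel_left]
    have h1 := setting_conj Q hQ z c⁻¹ w
    rw [e, inv_inv] at h1
    exact h1

include hQ in
theorem setting_ctr {z : G} (hz : orderOf z = 2) (hE : Cfsg.IsExtraspecial 2 ↥(Q z))
    (hC : centralizer ((Q z : Subgroup G) : Set G) ≤ Q z) {u : G} (hu : ∃ g : G, g * z * g⁻¹ = u) :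
    Ctr (Q u) u := by
  obtain ⟨g, rfl⟩ := hu
  exact (setting_base Q hQ hz hE hC).of_conj g (setting_conj Q hQ z g)

end Setting

end Cfsg.Agent.LargeExtra
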