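import Cfsg.Agent.Lib.LargeExtra.Pair
import Cfsg.Agent.Lib.CharP.Basic

/-!
Structure of `R = C_{Q'}(z) C_Q(a)` and `X = ⟨Q, Q'⟩` for a pair of large extraspecial subgroups.
-/

set_option autoImplicit false

namespace Cfsg.Agent.LargeExtra

open Subgroup
open scoped commutatorElement

variable {G : Type*} [Group G]

/-- Symmetrised pair: both centres in both subgroups. -/
structure Pair₂ (Q Q' : Subgroup G) (z a : G) : Prop where
  p : Pair Q Q' z a
  p' : Pair Q' Q a z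

theorem Pair.two [Finite G] {Q Q' : Subgroup G} {z a : G} (P : Pair Q Q' z a)
    (hw : 32 ≤ Nat.card ↥Q) : Pair₂ Q Q' z a := by
  refine ⟨P, P.h', P.h, P.z_mem' hw, P.ne.symm, ?_, ?_⟩
  · obtain ⟨g, hg⟩ := P.ex
    exact ⟨g⁻¹, by rw [← hg]; simp [mul_assoc]⟩
  · intro m hm x
    rw [P.link m⁻¹ (by rw [← hm]; simp [mul_assoc]) (m⁻¹ * x * m)]
    simp [mul_assoc]

theorem Pair₂.symm {Q Q' : Subgroup G} {z a : G} (P : Pair₂ Q Q' z a) : Pair₂ Q' Q a z := ⟨P.p', P.p⟩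

/-- `R = C_{Q'}(z) C_Q(a)`. -/
def core (Q Q' : Subgroup G) (z a : G) : Subgroup G :=
  (Q' ⊓ centralizer ({z} : Set G)) ⊔ (Q ⊓ centralizer ({a} : Set G))

theorem core_comm (Q Q' : Subgroup G) (z a : G) : core Q' Q a z = core Q Q' z a := sup_comm _ _

namespace Pair₂

variable [Finite G] {Q Q' : Subgroup G} {z a : G} (P : Pair₂ Q Q' z a)
include P

theorem mem_cV {x : G} (h1 : x * z = z * x) (h2 : x * a = a * x) :
    x ∈ centralizer ({z, a} : Set G) := by
  rw [mem_centralizer_iff]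
  rintro w (rfl | rfl)
  · exact h1.symm
  · exact h2.symm

theorem cV_iff {x : G} : x ∈ centralizer ({z, a} : Set G) ↔ x * z = z * x ∧ x * a = a * x := by
  refine ⟨fun h => ?_, fun h => P.mem_cV h.1 h.2⟩
  rw [mem_centralizer_iff] at h
  exact ⟨(h z (by simp)).symm, (h a (by simp)).symm⟩

theorem cQ_le_cV : Q ⊓ centralizer ({a} : Set G) ≤ centralizer ({z, a} : Set G) := fun _ hx =>
  P.mem_cV (P.p.h.comm hx.1) (mem_centralizer_singleton_iff.1 hx.2)

theorem cQ'_le_cV : Q' ⊓ centralizer ({z} : Set G) ≤ centralizer ({z, a} : Set G) := fun _ hx =>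
  P.mem_cV (mem_centralizer_singleton_iff.1 hx.2) (P.p.h'.comm hx.1)

theorem core_le_cV : core Q Q' z a ≤ centralizer ({z, a} : Set G) := sup_le P.cQ'_le_cV P.cQ_le_cV

theorem cQ_le_core : Q ⊓ centralizer ({a} : Set G) ≤ core Q Q' z a := le_sup_right

theorem cQ'_le_core : Q' ⊓ centralizer ({z} : Set G) ≤ core Q Q' z a := le_sup_left

theorem inf_le_cQ : Q ⊓ Q' ≤ Q ⊓ centralizer ({a} : Set G) := fun _ hx =>
  ⟨hx.1, mem_centralizer_singleton_iff.2 (P.p.h'.comm hx.2)⟩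

/-- For `c` centralizing `V` and `x ∈ Q`, `[x, c]` lies in `C_Q(a)`. -/
theorem comm_mem_cQ {x c : G} (hx : x ∈ Q) (hc : c ∈ centralizer ({z, a} : Set G)) :
    x * c * x⁻¹ * c⁻¹ ∈ Q ⊓ centralizer ({a} : Set G) := by
  obtain ⟨hcz, hca⟩ := P.cV_iff.1 hc
  refine ⟨?_, ?_⟩
  · have := Q.mul_mem hx (P.p.h.conj_mem hcz (Q.inv_mem hx))
    simpa [mul_assoc] using this
  · have h1 : ∀ w, (w = a ∨ w = z * a) → c⁻¹ * w * c = w := by
      intro w hw
      have hc' : c * w = w * c := by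
        rcases hw with rfl | rfl
        · exact hca
        · rw [← mul_assoc, hcz, mul_assoc, hca, mul_assoc]
      rw [mul_assoc, ← hc', inv_mul_cancel_left]
    have h3 : c⁻¹ * a * c = a := h1 a (Or.inl rfl)
    have h4 : x⁻¹ * a * x = a ∨ x⁻¹ * a * x = z * a := by
      simpa using P.p.conj_a (Q.inv_mem hx)
    have h5 : x * (x⁻¹ * a * x) * x⁻¹ = a := by group
    show x * c * x⁻¹ * c⁻¹ ∈ centralizer ({a} : Set G)
    rw [mem_centralizer_singleton_iff]
    rw [← mul_inv_eq_iff_eq_mul]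
    calc x * c * x⁻¹ * c⁻¹ * a * (x * c * x⁻¹ * c⁻¹)⁻¹
        = x * (c * (x⁻¹ * (c⁻¹ * a * c) * x) * c⁻¹) * x⁻¹ := by group
      _ = x * (c * (x⁻¹ * a * x) * c⁻¹) * x⁻¹ := by rw [h3]
      _ = x * (x⁻¹ * a * x) * x⁻¹ := by
          congr 2
          have := h1 _ h4
          calc c * (x⁻¹ * a * x) * c⁻¹ = c * (c⁻¹ * (x⁻¹ * a * x) * c) * c⁻¹ := by rw [this]
            _ = _ := by group
      _ = a := h5

theorem Q_le_normalizer : Q ≤ normalizer (core Q Q' z a : Set G) := by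
  intro x hx
  refine mem_normalizer_iff_map_conj_eq.2 (eq_of_le_of_card_ge ?_ ?_)
  · rw [core, Subgroup.map_sup, sup_le_iff]
    constructor
    · rintro _ ⟨c, hc, rfl⟩
      show x * c * x⁻¹ ∈ core Q Q' z a
      have : x * c * x⁻¹ = x * c * x⁻¹ * c⁻¹ * c := by group
      rw [this]
      exact mul_mem (P.cQ_le_core (P.comm_mem_cQ hx (P.cQ'_le_cV hc))) (P.cQ'_le_core hc)
    · rintro _ ⟨c, hc, rfl⟩
      show x * c * x⁻¹ ∈ core Q Q' z a
      have : x * c * x⁻¹ = x * c * x⁻¹ * c⁻¹ * c := by group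
      rw [this]
      exact mul_mem (P.cQ_le_core (P.comm_mem_cQ hx (P.cQ_le_cV hc))) (P.cQ_le_core hc)
  · rw [card_map_of_injective (MulAut.conj x).injective]

theorem sup_le_normalizer : Q ⊔ Q' ≤ normalizer (core Q Q' z a : Set G) :=
  sup_le P.Q_le_normalizer (core_comm Q Q' z a ▸ P.symm.Q_le_normalizer)

theorem core_le_sup : core Q Q' z a ≤ Q ⊔ Q' :=
  sup_le (inf_le_left.trans le_sup_right) (inf_le_left.trans le_sup_left)

theorem cQ'_normalizes : Q' ⊓ centralizer ({z} : Set G) ≤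
    normalizer ((Q ⊓ centralizer ({a} : Set G) : Subgroup G) : Set G) := by
  rw [le_normalizer_iff]
  intro c hc u hu
  obtain ⟨hcz, hca⟩ := P.cV_iff.1 (P.cQ'_le_cV hc)
  refine ⟨P.p.h.conj_mem hcz hu.1, mem_centralizer_singleton_iff.2 ?_⟩
  have h := mem_centralizer_singleton_iff.1 hu.2
  calc c * u * c⁻¹ * a = c * u * (c⁻¹ * (a * c)) * c⁻¹ := by group
    _ = c * (u * a) * c⁻¹ := by rw [← hca]; group
    _ = (c * a) * u * c⁻¹ := by rw [h]; group
    _ = _ := by rw [hca]; group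

theorem mem_core_iff {x : G} : x ∈ core Q Q' z a ↔
    ∃ c ∈ Q ⊓ centralizer ({a} : Set G), ∃ c' ∈ Q' ⊓ centralizer ({z} : Set G), x = c * c' := by
  constructor
  · intro hx
    rw [core, sup_comm, Cfsg.Agent.Coprime.mem_sup_of_le_normalizer P.cQ'_normalizes] at hx
    obtain ⟨c, hc, c', hc', rfl⟩ := hx
    exact ⟨c, hc, c', hc', rfl⟩
  · rintro ⟨c, hc, c', hc', rfl⟩
    exact mul_mem (P.cQ_le_core hc) (P.cQ'_le_core hc')

theorem isPGroup_core : IsPGroup 2 ↥(core Q Q' z a) := by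
  rw [core]
  refine IsPGroup.to_sup_of_normal_right' ?_ ?_ P.cQ'_normalizes
  · exact P.p.h'.pgroup.to_le inf_le_left
  · exact P.p.h.pgroup.to_le inf_le_left

end Pair₂

end Cfsg.Agent.LargeExtra
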