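import Cfsg.Agent.Lib.LargeExtra.ExtForm

/-!
The plus and minus type extensions and their elementary abelian rank.
-/

set_option autoImplicit false

namespace Cfsg.Agent.LargeExtra.ExtForm

open Matrix AffineLinear

/-- The cocycle matrix of plus type. -/
def Bplus (n : ℕ) : Matrix (Fin n ⊕ Fin n) (Fin n ⊕ Fin n) (ZMod 2) := fromBlocks 0 1 0 0

/-- The cocycle matrix of minus type. -/
def Bminus (m : ℕ) : Matrix ((Fin m ⊕ Fin m) ⊕ Fin 2) ((Fin m ⊕ Fin m) ⊕ Fin 2) (ZMod 2) :=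
  fromBlocks (Bplus m) 0 0 !![1, 1; 0, 1]

theorem β_plus {n : ℕ} (v w : Fin n ⊕ Fin n → ZMod 2) :
    β (Bplus n) v w = ∑ i, v (.inl i) * w (.inr i) := by
  rw [β, Bplus, fromBlocks_mulVec]
  simp [dotProduct, Fintype.sum_sum_type]

theorem β_minus {m : ℕ} (v w : (Fin m ⊕ Fin m) ⊕ Fin 2 → ZMod 2) :
    β (Bminus m) v w = (∑ i, v (.inl (.inl i)) * w (.inl (.inr i))) +
      (v (.inr 0) * w (.inr 0) + v (.inr 0) * w (.inr 1) + v (.inr 1) * w (.inr 1)) := by
  rw [β, Bminus, fromBlocks_mulVec]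
  simp only [dotProduct, Fintype.sum_sum_type (α₁ := Fin m ⊕ Fin m)]
  congr 1
  · have h := β_plus (fun i => v (.inl i)) (fun i => w (.inl i))
    rw [β, dotProduct] at h
    simp only [Sum.elim_inl, zero_mulVec, add_zero]
    exact h
  · simp [mulVec, dotProduct, Fin.sum_univ_two]
    ring

theorem quadFormPlus_eq (n : ℕ) (v : Fin n ⊕ Fin n → ZMod 2) :
    Cfsg.quadFormPlus n (ZMod 2) v = β (Bplus n) v v := (β_plus v v).symm

theorem quadFormMinus_eq (m : ℕ) (v : (Fin m ⊕ Fin m) ⊕ Fin 2 → ZMod 2) :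
    Cfsg.quadFormMinus m (ZMod 2) 1 1 v = β (Bminus m) v v := by
  rw [β_minus, Cfsg.quadFormMinus]; ring

theorem nondeg_plus (n : ℕ) : Nondeg (Bplus n) := by
  intro v hv
  obtain ⟨j, hj⟩ := Function.ne_iff.1 hv
  rcases j with i | i
  · refine ⟨Pi.single (.inr i) 1, ?_⟩
    rw [β_plus, β_plus]
    simpa [Pi.single_apply] using hj
  · refine ⟨Pi.single (.inl i) 1, ?_⟩
    rw [β_plus, β_plus]
    simpa [Pi.single_apply] using Ne.symm hj

theorem nondeg_minus (m : ℕ) : Nondeg (Bminus m) := by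
  intro v hv
  obtain ⟨j, hj⟩ := Function.ne_iff.1 hv
  rcases j with (i | i) | k
  · refine ⟨Pi.single (.inl (.inr i)) 1, ?_⟩
    rw [β_minus, β_minus]
    simpa [Pi.single_apply] using hj
  · refine ⟨Pi.single (.inl (.inl i)) 1, ?_⟩
    rw [β_minus, β_minus]
    simpa [Pi.single_apply] using Ne.symm hj
  · fin_cases k
    · refine ⟨Pi.single (.inr 1) 1, ?_⟩
      rw [β_minus, β_minus]
      simpa [Pi.single_apply] using hj
    · refine ⟨Pi.single (.inr 0) 1, ?_⟩
      rw [β_minus, β_minus]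
      simp only [Fin.mk_one, Fin.isValue, Pi.zero_apply, ne_eq] at hj
      simp [Pi.single_apply, hj]

theorem plus_rank (n : ℕ) : ¬ Cfsg.PRankLE 2 n (Ext (Bplus n)) := by
  intro h
  let A : Subgroup (Ext (Bplus n)) :=
    { carrier := {x | ∀ i, x.v (.inr i) = 0}
      mul_mem' := fun {x y} hx hy i => by rw [mul_v, Pi.add_apply, hx i, hy i, add_zero]
      one_mem' := fun i => rfl
      inv_mem' := fun {x} hx i => hx i }
  have hβ : ∀ x ∈ A, ∀ y ∈ A, β (Bplus n) x.v y.v = 0 := fun x hx y hy => by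
    rw [β_plus]
    exact Finset.sum_eq_zero fun i _ => by rw [hy i, mul_zero]
  have h1 := h A ⟨⟨fun x y => Subtype.ext (Ext.ext (by
      rw [Subgroup.coe_mul, Subgroup.coe_mul, mul_a, mul_a, hβ _ x.2 _ y.2, hβ _ y.2 _ x.2]; ring)
      (by rw [Subgroup.coe_mul, Subgroup.coe_mul, mul_v, mul_v, add_comm]))⟩⟩
    (fun x hx => Ext.ext (by rw [pow_two, mul_a, hβ _ hx _ hx, AffineLinear.add_self, add_zero]; rfl)
      (by rw [pow_two, mul_v, AffineLinear.add_self]; rfl))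
  have h2 : Nat.card ↥A = 2 ^ (n + 1) := by
    let f : ↥A → ZMod 2 × (Fin n → ZMod 2) := fun x => ((x : Ext (Bplus n)).a, fun i => (x : Ext (Bplus n)).v (.inl i))
    have hf : Function.Bijective f := by
      refine ⟨fun x y e => ?_, fun p => ⟨⟨⟨p.1, Sum.elim p.2 0⟩, fun i => rfl⟩, rfl⟩⟩
      refine Subtype.ext (Ext.ext (congrArg Prod.fst e) (funext fun j => ?_))
      rcases j with i | i
      · exact congrFun (congrArg Prod.snd e) i
      · rw [x.2 i, y.2 i]
    rw [Nat.card_eq_of_bijective f hf, Nat.card_prod, Nat.card_fun, Nat.card_zmod,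
      Nat.card_eq_fintype_card, Fintype.card_fin, pow_succ']
  rw [h2, pow_succ] at h1
  have := Nat.two_pow_pos n
  omega

theorem minus_rank (m : ℕ) : Cfsg.PRankLE 2 (m + 1) (Ext (Bminus m)) := by
  intro A hA hA2
  let W : Submodule (ZMod 2) ((Fin m ⊕ Fin m) ⊕ Fin 2 → ZMod 2) :=
    { carrier := {v | ∃ x ∈ A, x.v = v}
      add_mem' := by rintro _ _ ⟨x, hx, rfl⟩ ⟨y, hy, rfl⟩; exact ⟨x * y, A.mul_mem hx hy, rfl⟩
      zero_mem' := ⟨1, A.one_mem, rfl⟩
      smul_mem' := by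
        rintro c _ ⟨x, hx, rfl⟩
        rcases zmod_two_cases c with rfl | rfl
        · exact ⟨1, A.one_mem, by rw [zero_smul]; rfl⟩
        · exact ⟨x, hx, (one_smul (ZMod 2) x.v).symm⟩ }
  have hcomm : ∀ v ∈ W, ∀ w ∈ W, β (Bminus m) v w = β (Bminus m) w v := by
    rintro _ ⟨x, hx, rfl⟩ _ ⟨y, hy, rfl⟩
    have e := congrArg (fun u : ↥A => (u : Ext (Bminus m)).a) (hA.is_comm.comm ⟨x, hx⟩ ⟨y, hy⟩)
    simp only [Subgroup.coe_mul, mul_a] at e
    rw [add_comm y.a x.a] at e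
    exact add_left_cancel e
  have hsq : ∀ v ∈ W, β (Bminus m) v v = 0 := by
    rintro _ ⟨x, hx, rfl⟩
    have e := congrArg Ext.a (hA2 x hx)
    rw [pow_two, mul_a, AffineLinear.add_self, zero_add] at e
    exact e
  let π : ↥W →ₗ[ZMod 2] (Fin m → ZMod 2) :=
    { toFun := fun v i => v.1 (.inl (.inl i)), map_add' := fun _ _ => rfl, map_smul' := fun _ _ => rfl }
  let ρ : ↥(LinearMap.ker π) →ₗ[ZMod 2] (Fin m → ZMod 2) :=
    { toFun := fun v i => v.1.1 (.inl (.inr i)), map_add' := fun _ _ => rfl, map_smul' := fun _ _ => rfl }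
  have hzero : ∀ z₀ z₁ : ZMod 2, z₀ * z₀ + z₀ * z₁ + z₁ * z₁ = 0 → z₀ = 0 ∧ z₁ = 0 := by decide
  have hz : ∀ v : ↥(LinearMap.ker π), v.1.1 (.inr 0) = 0 ∧ v.1.1 (.inr 1) = 0 := fun v => by
    refine hzero _ _ ?_
    have h := hsq _ v.1.2
    have hx : ∀ i, v.1.1 (.inl (.inl i)) = 0 := fun i => congrFun (LinearMap.mem_ker.1 v.2) i
    rw [β_minus, Finset.sum_eq_zero (fun i _ => by rw [hx i, zero_mul]), zero_add] at h
    exact h
  have hρ : Function.Injective ρ := by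
    intro v w e
    refine Subtype.ext (Subtype.ext (funext fun j => ?_))
    rcases j with (i | i) | k
    · exact (congrFun (LinearMap.mem_ker.1 v.2) i).trans (congrFun (LinearMap.mem_ker.1 w.2) i).symm
    · exact congrFun e i
    · fin_cases k
      · exact (hz v).1.trans (hz w).1.symm
      · exact (hz v).2.trans (hz w).2.symm
  have horth : (LinearMap.range ρ).map (dotProductEquiv (ZMod 2) (Fin m)).toLinearMap ≤
      (LinearMap.range π).dualAnnihilator := by
    rintro _ ⟨_, ⟨v, rfl⟩, rfl⟩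
    rw [Submodule.mem_dualAnnihilator]
    rintro _ ⟨w, rfl⟩
    show ρ v ⬝ᵥ π w = 0
    have h := hcomm _ w.2 _ v.1.2
    rw [β_minus, β_minus, Finset.sum_eq_zero (fun i _ => by
      rw [show v.1.1 (.inl (.inl i)) = 0 from congrFun (LinearMap.mem_ker.1 v.2) i, zero_mul] :
      ∀ i ∈ Finset.univ, v.1.1 (.inl (.inl i)) * w.1 (.inl (.inr i)) = 0)] at h
    simp only [(hz v).1, (hz v).2, mul_zero, zero_mul, add_zero] at h
    rw [← h]
    exact Finset.sum_congr rfl fun i _ => mul_comm _ _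
  have hfin : Module.finrank (ZMod 2) ↥W ≤ m := by
    have h1 := Submodule.finrank_mono horth
    rw [LinearEquiv.finrank_map_eq, LinearMap.finrank_range_of_inj hρ] at h1
    have h2 := Subspace.finrank_add_finrank_dualAnnihilator_eq (LinearMap.range π)
    rw [Module.finrank_pi, Fintype.card_fin] at h2
    have h3 := LinearMap.finrank_range_add_finrank_ker π
    omega
  have hcard : Nat.card ↥A ≤ Nat.card (ZMod 2 × ↥W) := by
    refine Nat.card_le_card_of_injective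
      (fun x : ↥A => ((x : Ext (Bminus m)).a, (⟨(x : Ext (Bminus m)).v, ⟨x, x.2, rfl⟩⟩ : ↥W))) ?_
    intro x y e
    exact Subtype.ext (Ext.ext (congrArg Prod.fst e) (congrArg (fun p : ZMod 2 × ↥W => (p.2 : (Fin m ⊕ Fin m) ⊕ Fin 2 → ZMod 2)) e))
  rw [Nat.card_prod, Nat.card_zmod, Module.natCard_eq_pow_finrank (K := ZMod 2) (V := ↥W), Nat.card_zmod] at hcard
  refine hcard.trans ?_
  rw [pow_succ' 2 m]
  exact Nat.mul_le_mul le_rfl (Nat.pow_le_pow_right (by norm_num) hfin)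

end Cfsg.Agent.LargeExtra.ExtForm
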