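import Mathlib
import Cfsg.Prelude.Def_Transfer
import Cfsg.Prelude.Def_MonsterType
import Cfsg.Agent.Lib.PGroups.Extraspecial
import Cfsg.Agent.Solvable.Basics

/-!
Large extraspecial 2-subgroups: basic vocabulary. `Ctr Q z` records that `Q` is an extraspecial
2-group with centre and centralizer `⟨z⟩` and normal in the centralizer of `z`.
-/

set_option autoImplicit false

namespace Cfsg.Agent.LargeExtra

open Subgroup
open scoped commutatorElement

variable {G : Type*} [Group G]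

structure Ctr (Q : Subgroup G) (z : G) : Prop where
  ext : Cfsg.IsExtraspecial 2 ↥Q
  two : orderOf z = 2
  ctr : (center ↥Q).map Q.subtype = zpowers z
  cent : centralizer (Q : Set G) = zpowers z
  norm : centralizer ({z} : Set G) ≤ normalizer (Q : Set G)

namespace Ctr

variable {Q : Subgroup G} {z : G} (h : Ctr Q z)
include h

theorem zz : z * z = 1 := by
  rw [← pow_two, ← h.two, pow_orderOf_eq_one]

theorem ne_one : z ≠ 1 := fun e => by simpa [e] using h.two

theorem inv_self : z⁻¹ = z := inv_eq_of_mul_eq_one_right h.zz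

theorem mem_zpowers_cases {x : G} (hx : x ∈ zpowers z) : x = 1 ∨ x = z := by
  obtain ⟨k, rfl⟩ := mem_zpowers_iff.1 hx
  obtain ⟨m, rfl⟩ | ⟨m, rfl⟩ := Int.even_or_odd k
  · left
    rw [zpow_add, ← mul_zpow' z m, h.zz, one_zpow]
  · right
    rw [zpow_add, zpow_one, two_mul, zpow_add, ← mul_zpow' z m, h.zz, one_zpow, one_mul]
where
  mul_zpow' (z : G) (m : ℤ) : (z * z) ^ m = z ^ m * z ^ m := (Commute.refl z).mul_zpow m

theorem z_mem : z ∈ Q := by
  have : z ∈ (center ↥Q).map Q.subtype := h.ctr ▸ mem_zpowers z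
  exact map_subtype_le _ this

theorem comm {x : G} (hx : x ∈ Q) : x * z = z * x :=
  mem_centralizer_iff.1 (h.cent.symm ▸ mem_zpowers z : z ∈ centralizer (Q : Set G)) x hx

theorem conj_z {x : G} (hx : x ∈ Q) : x * z * x⁻¹ = z := by rw [h.comm hx, mul_inv_cancel_right]

theorem le_centralizer : Q ≤ centralizer ({z} : Set G) := fun _ hx =>
  mem_centralizer_singleton_iff.2 (h.comm hx)

theorem center_cases {c : ↥Q} (hc : c ∈ center ↥Q) : (c : G) = 1 ∨ (c : G) = z :=
  h.mem_zpowers_cases (h.ctr ▸ ⟨c, hc, rfl⟩)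

theorem comm_cases {x y : G} (hx : x ∈ Q) (hy : y ∈ Q) : ⁅x, y⁆ = 1 ∨ ⁅x, y⁆ = z := by
  have : (⁅(⟨x, hx⟩ : ↥Q), ⟨y, hy⟩⁆) ∈ center ↥Q := by
    rw [← h.ext.1.2.2]; exact commutator_mem_commutator (mem_top _) (mem_top _)
  exact h.center_cases this

theorem pgroup : IsPGroup 2 ↥Q := h.ext.1.1

theorem sq_cases [Finite G] {x : G} (hx : x ∈ Q) : x * x = 1 ∨ x * x = z := by
  haveI : Fact (Nat.Prime 2) := ⟨Nat.prime_two⟩
  have h2 : (⟨x, hx⟩ : ↥Q) ^ 2 ∈ center ↥Q := by
    rw [← h.ext.1.2.1]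
    exact Cfsg.Agent.Solvable.Basics.pow_mem_frattini h.pgroup _
  simpa [pow_two] using h.center_cases h2

theorem conj_mem {x y : G} (hx : x * z = z * x) (hy : y ∈ Q) : x * y * x⁻¹ ∈ Q :=
  (mem_normalizer_iff.1 (h.norm (mem_centralizer_singleton_iff.2 hx)) y).1 hy

theorem of_conj {Q' : Subgroup G} (n : G) (hQ' : ∀ x, x ∈ Q' ↔ n⁻¹ * x * n ∈ Q) :
    Ctr Q' (n * z * n⁻¹) := by
  have hmap : Q' = Q.map (MulAut.conj n).toMonoidHom := by
    ext x
    rw [hQ', mem_map_equiv, MulAut.conj_symm_apply]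
  let e : ↥Q ≃* ↥Q' := ((MulAut.conj n).subgroupMap Q).trans (MulEquiv.subgroupCongr hmap.symm)
  have he : ∀ q : ↥Q, ((e q : ↥Q') : G) = n * q * n⁻¹ := fun q => rfl
  have hcz : ∀ x, x ∈ zpowers (n * z * n⁻¹) ↔ n⁻¹ * x * n ∈ zpowers z := by
    intro x
    have : zpowers (n * z * n⁻¹) = (zpowers z).map (MulAut.conj n).toMonoidHom := by
      rw [MonoidHom.map_zpowers]
      rfl
    rw [this, mem_map_equiv, MulAut.conj_symm_apply]
  have hec : (center ↥Q).map e.toMonoidHom = center ↥Q' := by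
    ext y
    rw [mem_map_equiv, mem_center_iff, mem_center_iff]
    constructor
    · intro hy u
      have := congrArg e (hy (e.symm u))
      simpa using this
    · intro hy u
      have := congrArg e.symm (hy (e u))
      simpa using this
  have hfr : (frattini ↥Q).map e.toMonoidHom = frattini ↥Q' := by
    have h1 := e.mapSubgroup.map_radical
    exact h1
  refine ⟨⟨⟨h.pgroup.of_equiv e, ?_, ?_⟩, ?_⟩, ?_, ?_, ?_, ?_⟩
  · rw [← hfr, h.ext.1.2.1, hec]
  · rw [← hec, ← h.ext.1.2.2, _root_.commutator_def, _root_.commutator_def, map_commutator,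
      map_top_of_surjective e.toMonoidHom e.surjective]
  · rw [← hec, card_map_of_injective e.injective, h.ext.2]
  · rw [← h.two]
    exact orderOf_injective (MulAut.conj n).toMonoidHom (MulAut.conj n).injective z
  · ext x
    rw [hcz, ← h.ctr, mem_map, mem_map]
    constructor
    · rintro ⟨y, hy, rfl⟩
      rw [← hec] at hy
      obtain ⟨q, hq, rfl⟩ := hy
      refine ⟨q, hq, ?_⟩
      simp [he, mul_assoc]
    · rintro ⟨q, hq, hqx⟩
      refine ⟨e q, hec ▸ ⟨q, hq, rfl⟩, ?_⟩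
      show ((e q : ↥Q') : G) = x
      rw [he, show ((q : ↥Q) : G) = n⁻¹ * x * n from hqx]
      simp [mul_assoc]
  · ext x
    rw [hcz, ← h.cent, mem_centralizer_iff, mem_centralizer_iff]
    constructor
    · intro hx u hu
      have := hx (n * u * n⁻¹) ((hQ' _).2 (by simpa [mul_assoc] using hu))
      calc u * (n⁻¹ * x * n) = n⁻¹ * ((n * u * n⁻¹) * x) * n := by simp [mul_assoc]
        _ = _ := by rw [this]; simp [mul_assoc]
    · intro hx u hu
      have := hx _ ((hQ' _).1 hu)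
      calc u * x = n * ((n⁻¹ * u * n) * (n⁻¹ * x * n)) * n⁻¹ := by simp [mul_assoc]
        _ = _ := by rw [this]; simp [mul_assoc]
  · intro y hy
    rw [mem_centralizer_singleton_iff] at hy
    rw [mem_normalizer_iff]
    have hyz : (n⁻¹ * y * n) * z = z * (n⁻¹ * y * n) := by
      calc (n⁻¹ * y * n) * z = n⁻¹ * (y * (n * z * n⁻¹)) * n := by simp [mul_assoc]
        _ = _ := by rw [hy]; simp [mul_assoc]
    intro x
    rw [hQ', hQ', mem_normalizer_iff.1 (h.norm (mem_centralizer_singleton_iff.2 hyz))]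
    constructor <;> intro hh <;> simpa [mul_assoc] using hh

end Ctr

theorem Ctr.of_large [Finite G] {Q : Subgroup G} (hQ : Cfsg.IsLargeExtraspecial Q) {z : G}
    (hz : (center ↥Q).map Q.subtype = zpowers z) (hz2 : orderOf z = 2) : Ctr Q z := by
  refine ⟨hQ.1, hz2, hz, hQ.2.1.trans hz, ?_⟩
  intro x hx
  apply hQ.2.2.1
  rw [mem_centralizer_singleton_iff] at hx
  rw [hz, mem_centralizer_iff]
  intro w hw
  obtain ⟨k, rfl⟩ := mem_zpowers_iff.1 hw
  exact ((Commute.symm hx).zpow_left k).eq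

end Cfsg.Agent.LargeExtra
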