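import Cfsg.Agent.Lib.LargeExtra.Basic
import Cfsg.Agent.Lib.Coprime.Basic

/-!
A conjugate `a ≠ z` of `z` inside a large extraspecial 2-subgroup `Q`: then `z` lies in the
corresponding conjugate `Q'`, and `⟨Q, Q'⟩` induces `S₃` on `{z, a, za}`.
-/

set_option autoImplicit false

namespace Cfsg.Agent.LargeExtra

open Subgroup
open scoped commutatorElement

variable {G : Type*} [Group G]

structure Pair (Q Q' : Subgroup G) (z a : G) : Prop where
  h : Ctr Q z
  h' : Ctr Q' a
  mem : a ∈ Q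
  ne : a ≠ z
  ex : ∃ g : G, g * z * g⁻¹ = a
  link : ∀ n : G, n * z * n⁻¹ = a → ∀ x, x ∈ Q' ↔ n⁻¹ * x * n ∈ Q

theorem Pair.mk' {Q : Subgroup G} {z g : G} (h : Ctr Q z) (hgQ : g * z * g⁻¹ ∈ Q)
    (hgz : g * z * g⁻¹ ≠ z) : Pair Q (Q.map (MulAut.conj g).toMonoidHom) z (g * z * g⁻¹) := by
  have hm : ∀ x, x ∈ Q.map (MulAut.conj g).toMonoidHom ↔ g⁻¹ * x * g ∈ Q := fun x => by
    rw [mem_map_equiv, MulAut.conj_symm_apply]
  refine ⟨h, h.of_conj g hm, hgQ, hgz, ⟨g, rfl⟩, fun n hn x => ?_⟩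
  rw [hm]
  have hc : (g⁻¹ * n) * z = z * (g⁻¹ * n) := by
    calc (g⁻¹ * n) * z = g⁻¹ * (n * z * n⁻¹) * n := by simp [mul_assoc]
      _ = _ := by rw [hn]; simp [mul_assoc]
  rw [mem_normalizer_iff.1 (h.norm (mem_centralizer_singleton_iff.2 hc)) (n⁻¹ * x * n)]
  simp [mul_assoc]

namespace Pair

variable [Finite G] {Q Q' : Subgroup G} {z a : G} (P : Pair Q Q' z a)
include P

theorem az : a * z = z * a := P.h.comm P.mem

theorem za_comm : z * a * z⁻¹ = a := by rw [← P.az, mul_inv_cancel_right]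

theorem za_ne_a : z * a ≠ a := fun e => P.h.ne_one (mul_eq_right.1 e)

theorem za_ne_z : z * a ≠ z := fun e => P.h'.ne_one (mul_eq_left.1 e)

theorem za_ne_one : z * a ≠ 1 := fun e => P.ne (by
  rw [← P.h.inv_self]; exact eq_inv_of_mul_eq_one_right e)

theorem z_za : z * (z * a) = a := by rw [← mul_assoc, P.h.zz, one_mul]

theorem conj_a {x : G} (hx : x ∈ Q) : x * a * x⁻¹ = a ∨ x * a * x⁻¹ = z * a := by
  rcases P.h.comm_cases hx P.mem with e | e
  · left; rwa [commutatorElement_def, mul_inv_eq_one] at e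
  · right; rwa [commutatorElement_def, mul_inv_eq_iff_eq_mul] at e

/-- An element of `Q` moving `a`. -/
theorem exists_swap : ∃ q ∈ Q, q * a * q⁻¹ = z * a := by
  by_contra hc
  push Not at hc
  have : (⟨a, P.mem⟩ : ↥Q) ∈ center ↥Q := by
    rw [mem_center_iff]
    intro x
    rcases P.conj_a x.2 with e | e
    · exact Subtype.ext (mul_inv_eq_iff_eq_mul.1 e)
    · exact absurd e (hc x x.2)
  rcases P.h.center_cases this with e | e
  · exact P.h'.ne_one e
  · exact P.ne e

/-- `C_Q(a)` has index two in `Q`. -/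
theorem mul_mem_centralizer {x y : G} (hx : x ∈ Q) (hy : y ∈ Q) (hxa : x * a ≠ a * x)
    (hya : y * a ≠ a * y) : x⁻¹ * y ∈ Q ⊓ centralizer ({a} : Set G) := by
  refine ⟨Q.mul_mem (Q.inv_mem hx) hy, ?_⟩
  have key : ∀ u ∈ Q, u * a ≠ a * u → u * a * u⁻¹ = z * a := fun u hu hua =>
    (P.conj_a hu).resolve_left fun e => hua (mul_inv_eq_iff_eq_mul.1 e)
  show x⁻¹ * y ∈ centralizer ({a} : Set G)
  rw [mem_centralizer_singleton_iff]
  have e : x * a * x⁻¹ = y * a * y⁻¹ := by rw [key x hx hxa, key y hy hya]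
  calc x⁻¹ * y * a = x⁻¹ * (y * a * y⁻¹) * y := by simp [mul_assoc]
    _ = _ := by rw [← e]; simp [mul_assoc]

/-- `C_Q(a)` is not abelian once the width is at least two. -/
theorem exists_comm (hw : 32 ≤ Nat.card ↥Q) :
    ∃ c ∈ Q ⊓ centralizer ({a} : Set G), ∃ d ∈ Q ⊓ centralizer ({a} : Set G), ⁅c, d⁆ = z := by
  haveI : Fact (Nat.Prime 2) := ⟨Nat.prime_two⟩
  by_contra hc
  push Not at hc
  let C : Subgroup ↥Q := centralizer ({(⟨a, P.mem⟩ : ↥Q)} : Set ↥Q)
  have hab : IsMulCommutative ↥C := ⟨⟨by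
    rintro ⟨x, hx⟩ ⟨y, hy⟩
    rw [mem_centralizer_singleton_iff] at hx hy
    apply Subtype.ext
    apply Subtype.ext
    show (x : G) * y = y * x
    have hx' : (x : G) ∈ Q ⊓ centralizer ({a} : Set G) :=
      ⟨x.2, mem_centralizer_singleton_iff.2 (congrArg Subtype.val hx)⟩
    have hy' : (y : G) ∈ Q ⊓ centralizer ({a} : Set G) :=
      ⟨y.2, mem_centralizer_singleton_iff.2 (congrArg Subtype.val hy)⟩
    rcases P.h.comm_cases x.2 y.2 with e | e
    · exact commutatorElement_eq_one_iff_mul_comm.1 e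
    · exact absurd e (hc _ hx' _ hy')⟩⟩
  have h1 := Cfsg.Agent.PGroups.Extraspecial.card_sq_le_of_abelian P.h.ext C
  have hidx : C.index ≤ 2 := by
    obtain ⟨q, hq, hqa⟩ := P.exists_swap
    have hq' : (q : G) * a ≠ a * q := fun e => P.za_ne_a (by rw [← hqa, e, mul_inv_cancel_right])
    by_cases hall : C = ⊤
    · rw [hall, index_top]; omega
    · refine le_of_eq (index_eq_two_iff_exists_notMem_and.2 ⟨⟨q, hq⟩, ?_, ?_⟩)
      · intro h0
        exact hq' (congrArg Subtype.val (mem_centralizer_singleton_iff.1 h0))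
      · intro b
        by_cases hb : b ∈ C
        · exact Or.inr hb
        · left
          have hbinv : (b : G)⁻¹ * a ≠ a * (b : G)⁻¹ := fun e => hb (by
            rw [mem_centralizer_singleton_iff]
            apply Subtype.ext
            show (b : G) * a = a * b
            calc (b : G) * a = b * (a * (b : G)⁻¹) * b := by simp [mul_assoc]
              _ = _ := by rw [← e]; simp)
          have := P.mul_mem_centralizer (Q.inv_mem b.2) hq hbinv hq'
          rw [inv_inv] at this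
          rw [mem_centralizer_singleton_iff]
          exact Subtype.ext (mem_centralizer_singleton_iff.1 this.2)
  have h2 := C.card_mul_index
  have h3 : 16 ≤ Nat.card ↥C := by nlinarith
  nlinarith

/-- An element of `Q` commuting with `C_Q(a)` is in `{1, z, a, za}`. -/
theorem commutes_cases {x : G} (hx : x ∈ Q)
    (hxC : ∀ u ∈ Q ⊓ centralizer ({a} : Set G), u * x = x * u) :
    x = 1 ∨ x = z ∨ x = a ∨ x = z * a := by
  obtain ⟨q, hq, hqa⟩ := P.exists_swap
  have hqa' : q * a ≠ a * q := fun e => P.za_ne_a (by rw [← hqa, e, mul_inv_cancel_right])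
  have key : ∀ w ∈ Q, (∀ u ∈ Q ⊓ centralizer ({a} : Set G), u * w = w * u) → q * w = w * q →
      w = 1 ∨ w = z := by
    intro w hw hwC hwq
    have hmem : (⟨w, hw⟩ : ↥Q) ∈ center ↥Q := by
      rw [mem_center_iff]
      rintro ⟨u, hu⟩
      apply Subtype.ext
      show u * w = w * u
      by_cases hua : u * a = a * u
      · exact hwC u ⟨hu, mem_centralizer_singleton_iff.2 hua⟩
      · have h1 := hwC _ (P.mul_mem_centralizer hq hu hqa' hua)
        calc u * w = q * ((q⁻¹ * u) * w) := by simp [mul_assoc]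
          _ = _ := by rw [h1, ← mul_assoc, hwq]; simp [mul_assoc]
    exact P.h.center_cases hmem
  rcases P.h.comm_cases hq hx with e | e
  · rcases key x hx hxC (commutatorElement_eq_one_iff_mul_comm.1 e) with e | e
    · exact Or.inl e
    · exact Or.inr (Or.inl e)
  · have ha' : ∀ u ∈ Q ⊓ centralizer ({a} : Set G), u * (x * a) = (x * a) * u := fun u hu => by
      rw [← mul_assoc, hxC u hu, mul_assoc, mem_centralizer_singleton_iff.1 hu.2, mul_assoc]
    have hq' : q * (x * a) = (x * a) * q := by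
      rw [commutatorElement_def, mul_inv_eq_iff_eq_mul, mul_inv_eq_iff_eq_mul] at e
      rw [mul_inv_eq_iff_eq_mul] at hqa
      calc q * (x * a) = (q * x) * a := (mul_assoc _ _ _).symm
        _ = z * x * (q * a) := by rw [e]; simp [mul_assoc]
        _ = z * x * (z * a * q) := by rw [hqa]
        _ = (z * z) * (x * a) * q := by
          simp only [mul_assoc]
          rw [← mul_assoc x z, P.h.comm hx, mul_assoc]
        _ = _ := by rw [P.h.zz, one_mul]
    rcases key _ (Q.mul_mem hx P.mem) ha' hq' with e | e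
    · refine Or.inr (Or.inr (Or.inl ?_))
      rw [eq_inv_of_mul_eq_one_left e, P.h'.inv_self]
    · refine Or.inr (Or.inr (Or.inr ?_))
      rw [← e, mul_assoc, P.h'.zz, mul_one]

/-- The key lemma: `z` lies in `Q'`. -/
theorem z_mem' (hw : 32 ≤ Nat.card ↥Q) : z ∈ Q' := by
  by_cases hsw : ∃ y ∈ Q', y * z * y⁻¹ = z * a
  · obtain ⟨y, hy, hyz⟩ := hsw
    obtain ⟨d, hd, hda⟩ := P.exists_swap
    have hya : y * a * y⁻¹ = a := P.h'.conj_z hy
    have hdz : d * z * d⁻¹ = z := P.h.conj_z hd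
    have hdza : d * (z * a) * d⁻¹ = a := by
      calc d * (z * a) * d⁻¹ = (d * z * d⁻¹) * (d * a * d⁻¹) := by simp [mul_assoc]
        _ = a := by rw [hdz, hda, P.z_za]
    have hyza : y * (z * a) * y⁻¹ = z := by
      calc y * (z * a) * y⁻¹ = (y * z * y⁻¹) * (y * a * y⁻¹) := by simp [mul_assoc]
        _ = z := by rw [hyz, hya, mul_assoc, P.h'.zz, mul_one]
    have e1 : (d * y * d) * z * (d * y * d)⁻¹ = a := by
      calc (d * y * d) * z * (d * y * d)⁻¹ = d * (y * (d * z * d⁻¹) * y⁻¹) * d⁻¹ := by simp [mul_assoc]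
        _ = a := by rw [hdz, hyz, hdza]
    have e2 : (d * y * d) * a * (d * y * d)⁻¹ = z := by
      calc (d * y * d) * a * (d * y * d)⁻¹ = d * (y * (d * a * d⁻¹) * y⁻¹) * d⁻¹ := by simp [mul_assoc]
        _ = z := by rw [hda, hyza, hdz]
    rw [P.link _ e1]
    generalize d * y * d = n at e2
    rw [← e2]
    simpa [mul_assoc] using P.mem
  · push Not at hsw
    by_contra hzn
    obtain ⟨c, hc, d, hd, hcd⟩ := P.exists_comm hw
    have hzC : z * a = a * z := P.az.symm
    have hnq : ∀ {u y : G}, u * a = a * u → y ∈ Q' → u * y * u⁻¹ * y⁻¹ ∈ Q' := fun hu hy =>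
      Q'.mul_mem (P.h'.conj_mem hu hy) (Q'.inv_mem hy)
    -- commutator with z in Z' forces centralizing z
    have hno : ∀ y ∈ Q', (z * y * z⁻¹ * y⁻¹ = 1 ∨ z * y * z⁻¹ * y⁻¹ = a) → y * z = z * y := by
      intro y hy h0
      rcases h0 with e | e
      · exact (mul_inv_eq_iff_eq_mul.1 (mul_inv_eq_one.1 e)).symm
      · exfalso
        apply hsw y hy
        have h1 : y * z⁻¹ * y⁻¹ = z⁻¹ * a := by
          rw [← e]; simp [mul_assoc]
        rwa [P.h.inv_self] at h1
    -- Q ∩ Q' is ⟨a⟩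
    have hEE : ∀ x ∈ Q, x ∈ Q' → x ∈ zpowers a := by
      intro x hx hx'
      have hxC : ∀ u ∈ Q ⊓ centralizer ({a} : Set G), u * x = x * u := by
        intro u hu
        have hmem : ⁅u, x⁆ ∈ Q' := by
          rw [commutatorElement_def]
          exact hnq (mem_centralizer_singleton_iff.1 hu.2) hx'
        rcases P.h.comm_cases hu.1 hx with e | e
        · exact commutatorElement_eq_one_iff_mul_comm.1 e
        · rw [e] at hmem; exact absurd hmem hzn
      rcases P.commutes_cases hx hxC with e | e | e | e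
      · rw [e]; exact one_mem _
      · rw [e] at hx'; exact absurd hx' hzn
      · rw [e]; exact mem_zpowers a
      · exfalso; apply hzn
        rw [e] at hx'
        simpa using Q'.mul_mem hx' (Q'.inv_mem P.h'.z_mem)
    have hA : ∀ s ∈ zpowers a, ∀ x ∈ Q', s * x = x * s := fun s hs x hx =>
      (mem_centralizer_iff.1 (P.h'.cent.symm ▸ hs : s ∈ centralizer (Q' : Set G)) x hx).symm
    have hAQ : ∀ s ∈ zpowers a, s ∈ Q' := fun s hs => (zpowers_le.2 P.h'.z_mem) hs
    have hAz : ∀ s ∈ zpowers a, z * s * z⁻¹ = s := by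
      intro s hs
      rcases P.h'.mem_zpowers_cases hs with e | e <;> subst e
      · group
      · exact P.za_comm
    -- C moves elements of C_{Q'}(z) only inside ⟨a⟩
    have hCC : ∀ u ∈ Q, u * a = a * u → ∀ x ∈ Q', x * z = z * x → u * x * u⁻¹ * x⁻¹ ∈ zpowers a := by
      intro u hu hua x hx hxz
      refine hEE _ ?_ (hnq hua hx)
      have : x * u⁻¹ * x⁻¹ ∈ Q := P.h.conj_mem hxz (Q.inv_mem hu)
      simpa [mul_assoc] using Q.mul_mem hu this
    have hu : ∀ y ∈ Q', (z * y * z⁻¹ * y⁻¹) * z = z * (z * y * z⁻¹ * y⁻¹) := by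
      intro y hy
      have hmem := hnq hzC hy
      apply hno _ hmem
      have h2 := P.h'.sq_cases hmem
      have h1 : z * (z * y * z⁻¹ * y⁻¹) * z⁻¹ = (z * y * z⁻¹ * y⁻¹)⁻¹ := by
        simp only [mul_inv_rev, inv_inv, P.h.inv_self, ← mul_assoc, P.h.zz, one_mul]
      rw [h1, ← mul_inv_rev]
      rcases h2 with e | e
      · left; rw [e, inv_one]
      · right; rw [e, P.h'.inv_self]
    have hv : ∀ u ∈ Q, u * a = a * u → ∀ y ∈ Q', (u * y * u⁻¹ * y⁻¹) * z = z * (u * y * u⁻¹ * y⁻¹) := by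
      intro u hu' hua y hy
      have hvm := hnq hua hy
      apply hno _ hvm
      have hwm := hnq hzC hy
      have hs := hCC u hu' hua _ hwm (hu y hy)
      generalize hw' : z * y * z⁻¹ * y⁻¹ = w at hwm hs
      generalize hs' : u * w * u⁻¹ * w⁻¹ = s at hs
      generalize hv' : u * y * u⁻¹ * y⁻¹ = v at hvm
      have hzu : z * u = u * z := (P.h.comm hu').symm
      have e1 : z * v * z⁻¹ = s * (w * v * w⁻¹) := by
        rw [← hv', ← hs', ← hw']
        have hzuz : z * u * z⁻¹ = u := by rw [hzu, mul_inv_cancel_right]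
        calc z * (u * y * u⁻¹ * y⁻¹) * z⁻¹
            = (z * u * z⁻¹) * (z * y * z⁻¹) * (z * u * z⁻¹)⁻¹ * (z * y⁻¹ * z⁻¹) := by group
          _ = u * (z * y * z⁻¹) * u⁻¹ * (z * y⁻¹ * z⁻¹) := by rw [hzuz]
          _ = _ := by group
      have hcm : w * v * w⁻¹ * v⁻¹ ∈ zpowers a := by
        rcases P.h'.comm_cases hwm hvm with e | e <;> rw [commutatorElement_def] at e <;> rw [e]
        · exact one_mem _
        · exact mem_zpowers a
      have : z * v * z⁻¹ * v⁻¹ ∈ zpowers a := by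
        rw [e1, mul_assoc s]
        exact mul_mem hs hcm
      exact P.h'.mem_zpowers_cases this
    have hca : c * a = a * c := mem_centralizer_singleton_iff.1 hc.2
    have hda : d * a = a * d := mem_centralizer_singleton_iff.1 hd.2
    have hzc : z ∈ centralizer (Q' : Set G) := by
      rw [mem_centralizer_iff]
      intro y hy
      apply hno y hy
      have h1 := hnq hca hy
      have h2 := hnq hda hy
      have z1 := hv c hc.1 hca y hy
      have z2 := hv d hd.1 hda y hy
      have s1 := hCC c hc.1 hca _ h2 z2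
      have s2 := hCC d hd.1 hda _ h1 z1
      generalize hvc : c * y * c⁻¹ * y⁻¹ = vc at h1 z1 s2
      generalize hvd : d * y * d⁻¹ * y⁻¹ = vd at h2 z2 s1
      have ecd : c * d = z * (d * c) := by
        rw [← hcd, commutatorElement_def]; simp [mul_assoc]
      have e1 : (c * d) * y * (c * d)⁻¹ * y⁻¹ = c * vd * c⁻¹ * vd⁻¹ * (vd * vc) := by
        rw [← hvc, ← hvd]; group
      have e2 : (z * (d * c)) * y * (z * (d * c))⁻¹ * y⁻¹ =
          z * (d * vc * d⁻¹ * vc⁻¹) * z⁻¹ * (z * (vc * vd) * z⁻¹) * (z * y * z⁻¹ * y⁻¹) := by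
        rw [← hvc, ← hvd]; group
      have hzz' : z * (vc * vd) * z⁻¹ = vc * vd := by
        rw [← mul_assoc z vc, ← z1, mul_assoc vc z, ← z2, ← mul_assoc, mul_inv_cancel_right]
      rw [hAz _ s2, hzz', ← ecd, e1] at e2
      have h3 : vd * vc * (vc * vd)⁻¹ ∈ zpowers a := by
        have : vd * vc * (vc * vd)⁻¹ = ⁅vd, vc⁆ := by rw [commutatorElement_def]; group
        rw [this]
        rcases P.h'.comm_cases h2 h1 with e | e <;> rw [e]
        · exact one_mem _
        · exact mem_zpowers a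
      apply P.h'.mem_zpowers_cases
      generalize c * vd * c⁻¹ * vd⁻¹ = s at e2 s1
      generalize d * vc * d⁻¹ * vc⁻¹ = t at e2 s2
      generalize z * y * z⁻¹ * y⁻¹ = w at e2 ⊢
      have hm : vc * vd ∈ Q' := Q'.mul_mem h1 h2
      have ew : w = t⁻¹ * s * (vd * vc * (vc * vd)⁻¹) := by
        have hw0 : w = (t * (vc * vd))⁻¹ * (s * (vd * vc)) := by rw [e2]; group
        have hcomm : ∀ r ∈ zpowers a, (vc * vd)⁻¹ * r = r * (vc * vd)⁻¹ := fun r hr =>
          (hA r hr _ (Q'.inv_mem hm)).symm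
        rw [hw0, mul_inv_rev, mul_assoc, ← mul_assoc t⁻¹ s, ← mul_assoc (vc * vd)⁻¹,
          hcomm _ (mul_mem (inv_mem s2) s1), mul_assoc]
        have h4 := hcomm _ h3
        rw [show (vc * vd)⁻¹ * (vd * vc) = (vc * vd)⁻¹ * (vd * vc * (vc * vd)⁻¹) * (vc * vd) by group,
          h4, inv_mul_cancel_right, mul_assoc]
      rw [ew]
      exact mul_mem (mul_mem (inv_mem s2) s1) h3
    exact hzn ((zpowers_le.2 P.h'.z_mem) (P.h'.cent ▸ hzc))

end Pair

end Cfsg.Agent.LargeExtra
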