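import Cfsg.Agent.Lib.LargeExtra.SimpleCrit
import Cfsg.Agent.Lib.Fusion.SimpleCriterion

/-!
The 2-fusion system of a group in which a central involution has centraliser an extraspecial 2-group
extended by the alternating group of degree five, with fusion inside the 2-group.
-/

set_option autoImplicit false

namespace Cfsg.Agent.LargeExtra.FusionSimple

open Subgroup Cfsg.Agent.LargeExtra.SimpleCrit
open scoped commutatorElement

theorem alt5_facts : (∀ a : alternatingGroup (Fin 5), a ^ 4 = 1 → a * a = 1) ∧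
    ∃ t : alternatingGroup (Fin 5), ∀ a : alternatingGroup (Fin 5),
      a * a = 1 → a = 1 ∨ ∃ γ : alternatingGroup (Fin 5), γ * t * γ⁻¹ = a := by
  refine ⟨by decide +kernel, ⟨Equiv.swap 0 1 * Equiv.swap 2 3, by rw [Equiv.Perm.mem_alternatingGroup]; decide⟩, ?_⟩
  decide +kernel

theorem sq_eq_one {a : alternatingGroup (Fin 5)} {k : ℕ} (h : a ^ 2 ^ k = 1) : a * a = 1 := by
  induction k with
  | zero => simp only [pow_zero, pow_one] at h; rw [h, one_mul]
  | succ k ih =>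
    rcases Nat.lt_or_ge k 1 with hk | hk
    · obtain rfl : k = 0 := by omega
      rwa [← pow_two]
    · refine ih ?_
      obtain ⟨j, rfl⟩ : ∃ j, k = j + 1 := ⟨k - 1, by omega⟩
      have h4 : (a ^ 2 ^ j) ^ 4 = 1 := by
        rw [← pow_mul, show 2 ^ j * 4 = 2 ^ (j + 1 + 1) by ring, h]
      have := alt5_facts.1 _ h4
      rwa [← pow_two, ← pow_mul, ← pow_succ] at this

variable {H : Type*} [Group H] [Finite H] {z : H} {Q : Subgroup (centralizer ({z} : Set H))}

/-- The centraliser. -/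
abbrev Cz (z : H) : Subgroup H := centralizer ({z} : Set H)

/-- The normal 2-subgroup, in the group. -/
def QH (Q : Subgroup (centralizer ({z} : Set H))) : Subgroup H := Q.map (centralizer ({z} : Set H)).subtype

theorem mem_QH {x : centralizer ({z} : Set H)} : (x : H) ∈ QH Q ↔ x ∈ Q :=
  Subgroup.mem_map_iff_mem (Subgroup.subtype_injective _)

theorem QH_le_cent : QH Q ≤ centralizer ({z} : Set H) := by
  rintro _ ⟨x, -, rfl⟩
  exact x.2

theorem exists_sylow_le (hodd : ¬ 2 ∣ (centralizer ({z} : Set H)).index) (S : Sylow 2 H) :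
    ∃ c : H, ∀ s ∈ (S : Subgroup H), c * s * c⁻¹ ∈ centralizer ({z} : Set H) := by
  have : Fact (Nat.Prime 2) := ⟨Nat.prime_two⟩
  obtain ⟨P⟩ : Nonempty (Sylow 2 (Cz z)) := inferInstance
  set P' : Subgroup H := (P : Subgroup (Cz z)).map (Cz z).subtype
  have hP' : IsPGroup 2 P' := P.2.map _
  have hi : ¬ 2 ∣ P'.index := by
    rw [Subgroup.index_map_subtype]
    exact Nat.Prime.not_dvd_mul Nat.prime_two P.not_dvd_index hodd
  let PS : Sylow 2 H := hP'.toSylow hi
  obtain ⟨c, hc⟩ := MulAction.exists_smul_eq H S PS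
  refine ⟨c, fun s hs => ?_⟩
  have : c * s * c⁻¹ ∈ ((c • S : Sylow 2 H) : Subgroup H) :=
    Subgroup.smul_mem_pointwise_smul s (MulAut.conj c) (S : Subgroup H) hs
  rw [hc] at this
  obtain ⟨y, -, hy⟩ := this
  rw [← hy]
  exact y.2

variable {S : Sylow 2 H} (hSC : (S : Subgroup H) ≤ centralizer ({z} : Set H))

/-- A Sylow subgroup of the centraliser. -/
noncomputable def SC (hSC : (S : Subgroup H) ≤ centralizer ({z} : Set H)) : Sylow 2 (centralizer ({z} : Set H)) :=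
  S.subtype hSC

theorem mem_SC {x : centralizer ({z} : Set H)} : x ∈ (SC hSC : Subgroup _) ↔ (x : H) ∈ (S : Subgroup H) := Iff.rfl

include hSC in
theorem QH_le (h : Data z Q) : QH Q ≤ (S : Subgroup H) := by
  have : Fact (Nat.Prime 2) := ⟨Nat.prime_two⟩
  have := h.normal
  rintro _ ⟨x, hx, rfl⟩
  have hle : Q ⊔ (SC hSC : Subgroup _) = (SC hSC : Subgroup _) :=
    (SC hSC).is_maximal' ((pgroup h).to_sup_of_normal_left (SC hSC).2) le_sup_right
  exact (mem_SC hSC).1 (hle ▸ Subgroup.mem_sup_left hx)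

include hSC in
theorem central_eq (h : Data z Q) {u : H} (hu : u ∈ (S : Subgroup H)) (hu1 : u ≠ 1)
    (hc : ∀ s ∈ (S : Subgroup H), s * u = u * s) : u = z := by
  have hQ : ∀ y ∈ Q, y * (⟨u, hSC hu⟩ : centralizer ({z} : Set H)) = ⟨u, hSC hu⟩ * y := fun y hy =>
    Subtype.ext (hc _ (QH_le hSC h (mem_QH.2 hy)))
  have hm : (⟨u, hSC hu⟩ : centralizer ({z} : Set H)) ∈ Q :=
    h.cent (Subgroup.mem_centralizer_iff.2 hQ)
  rcases center_cases h hm hQ with e | e
  · exact absurd (congrArg Subtype.val e) hu1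
  · exact congrArg Subtype.val e

include hSC in
theorem sylow_ne_Q (h : Data z Q) [Q.Normal]
    (e : centralizer ({z} : Set H) ⧸ Q ≃* alternatingGroup (Fin 5)) : ¬ (SC hSC : Subgroup _) ≤ Q := by
  intro hle
  have : Fact (Nat.Prime 2) := ⟨Nat.prime_two⟩
  have h60 : Nat.card (alternatingGroup (Fin 5)) = 60 := by rw [Nat.card_eq_fintype_card]; decide +kernel
  have h2 : 2 ∣ Q.index := by
    rw [Subgroup.index, Nat.card_congr e.toEquiv, h60]
    norm_num
  exact (SC hSC).not_dvd_index (h2.trans (Subgroup.index_dvd_of_le hle))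

include hSC in
theorem normalizer_le (h : Data z Q) :
    Subgroup.normalizer ((S : Subgroup H) : Set H) ≤ centralizer ({z} : Set H) := by
  intro n hn
  have hz : z ∈ (S : Subgroup H) := QH_le hSC h ((mem_QH (x := zC z)).2 (zC_mem h))
  have hnz : n * z * n⁻¹ = z := by
    refine central_eq hSC h ((Subgroup.mem_normalizer_iff.1 hn z).1 hz) ?_ fun s hs => ?_
    · rw [Ne, conj_eq_one_iff]; exact z_ne h
    · have hs' := (Subgroup.mem_normalizer_iff.1 (inv_mem hn) s).1 hs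
      rw [inv_inv] at hs'
      have hc := Subgroup.mem_centralizer_singleton_iff.1 (hSC hs')
      calc s * (n * z * n⁻¹) = n * ((n⁻¹ * s * n) * z) * n⁻¹ := by group
        _ = n * (z * (n⁻¹ * s * n)) * n⁻¹ := by rw [hc]
        _ = n * z * n⁻¹ * s := by group
  rw [Subgroup.mem_centralizer_singleton_iff]
  calc n * z = n * z * n⁻¹ * n := by group
    _ = z * n := by rw [hnz]

include hSC in
/-- The normaliser of the Sylow subgroup is generated by local 2-elements. -/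
theorem local_gen (h : Data z Q) [Q.Normal]
    (e : centralizer ({z} : Set H) ⧸ Q ≃* alternatingGroup (Fin 5)) :
    QH Q ≤ (S : Subgroup H) ∧ (S : Subgroup H) ≤ Subgroup.normalizer (QH Q : Set H) ∧
      centralizer (QH Q : Set H) ≤ QH Q ∧
      Subgroup.normalizer ((S : Subgroup H) : Set H) ≤
        Subgroup.closure {x : H | x ∈ Subgroup.normalizer (QH Q : Set H) ∧ ∃ k : ℕ, orderOf x = 2 ^ k} := by
  have : Fact (Nat.Prime 2) := ⟨Nat.prime_two⟩
  have hCN : (Cz z) ≤ Subgroup.normalizer (QH Q : Set H) := fun c hc => by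
    rw [Subgroup.mem_normalizer_iff]
    intro x
    constructor
    · rintro ⟨y, hy, rfl⟩
      exact ⟨_, ‹Q.Normal›.conj_mem y hy ⟨c, hc⟩, rfl⟩
    · rintro ⟨y, hy, ey⟩
      refine ⟨_, ‹Q.Normal›.conj_mem y hy ⟨c, hc⟩⁻¹, ?_⟩
      simp only [Subgroup.coe_subtype, Subgroup.coe_mul, InvMemClass.coe_inv, inv_inv] at ey ⊢
      rw [ey]; group
  refine ⟨QH_le hSC h, hSC.trans hCN, fun x hx => ?_, ?_⟩
  · have hxC : x ∈ (Cz z) := Subgroup.mem_centralizer_singleton_iff.2
      (Subgroup.mem_centralizer_iff.1 hx z ((mem_QH (x := zC z)).2 (zC_mem h))).symm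
    exact (mem_QH (x := ⟨x, hxC⟩)).2 (h.cent (Subgroup.mem_centralizer_iff.2 fun y hy =>
      Subtype.ext (Subgroup.mem_centralizer_iff.1 hx _ (mem_QH.2 hy))))
  · set M : Subgroup (Cz z) := Subgroup.closure {x : (Cz z) | ∃ k : ℕ, orderOf x = 2 ^ k} with hM
    have hp : ∀ x : (Cz z), x ∈ (SC hSC : Subgroup (Cz z)) → x ∈ M := fun x hx => by
      refine Subgroup.subset_closure ?_
      obtain ⟨k, hk⟩ := IsPGroup.iff_orderOf.1 (SC hSC).2 ⟨x, hx⟩
      exact ⟨k, by rw [← hk]; exact Subgroup.orderOf_coe ⟨x, hx⟩⟩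
    have hMn : M.Normal := ⟨fun x hx g => by
      induction hx using Subgroup.closure_induction with
      | mem x hx =>
        refine Subgroup.subset_closure ?_
        obtain ⟨k, hk⟩ := hx
        exact ⟨k, by rw [← hk]; exact orderOf_injective (MulAut.conj g).toMonoidHom (MulAut.conj g).injective x⟩
      | one => simp
      | mul a b _ _ ha hb => simpa [mul_assoc] using M.mul_mem ha hb
      | inv a _ ha => simpa [mul_assoc] using M.inv_mem ha⟩
    have hQM : Q ≤ M := fun x hx => hp x (QH_le hSC h (mem_QH.2 hx))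
    have hMtop : M = ⊤ := (h.max M hMn hQM).resolve_left fun e' =>
      sylow_ne_Q hSC h e fun x hx => e' ▸ hp x hx
    intro n hn
    have hnM : (⟨n, normalizer_le hSC h hn⟩ : (Cz z)) ∈ M := hMtop ▸ Subgroup.mem_top _
    have : M.map (Cz z).subtype ≤
        Subgroup.closure {x : H | x ∈ Subgroup.normalizer (QH Q : Set H) ∧ ∃ k : ℕ, orderOf x = 2 ^ k} := by
      rw [hM, MonoidHom.map_closure]
      refine Subgroup.closure_mono ?_
      rintro _ ⟨x, ⟨k, hk⟩, rfl⟩
      exact ⟨hCN x.2, k, by rw [← hk]; exact Subgroup.orderOf_coe x⟩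
    exact this ⟨_, hnM, rfl⟩

include hSC in
/-- There is no proper nontrivial strongly closed subgroup. -/
theorem eq_of_closed (h : Data z Q) [Q.Normal]
    (e : centralizer ({z} : Set H) ⧸ Q ≃* alternatingGroup (Fin 5)) {T : Subgroup H} (hTS : T ≤ S)
    (hcl : ∀ g x : H, x ∈ T → g * x * g⁻¹ ∈ (S : Subgroup H) → g * x * g⁻¹ ∈ T)
    {u : H} (hu : u ∈ T) (hu1 : u ≠ 1) (huc : ∀ s ∈ (S : Subgroup H), s * u = u * s) :
    T = S := by
  have : Fact (Nat.Prime 2) := ⟨Nat.prime_two⟩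
  have hzT : z ∈ T := central_eq hSC h (hTS hu) hu1 huc ▸ hu
  obtain ⟨g, hq, hmem, hgz, hgen, a, ha, b, hb, hax, hbx, hab⟩ := h.fuse
  set x : (Cz z) := ⟨g * z * g⁻¹, hq⟩ with hx
  have hxT : (x : H) ∈ T := hcl g z hzT (QH_le hSC h (mem_QH.2 hmem))
  have hQT : QH Q ≤ T := by
    set N : Subgroup (Cz z) := Subgroup.normalClosure {x}
    have hQN : Q ≤ N := hgen N Subgroup.normalClosure_normal (Subgroup.subset_normalClosure rfl)
    have hNT : N ≤ T.comap (Cz z).subtype := by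
      refine (Subgroup.closure_le _).2 ?_
      intro y hy
      rw [Group.mem_conjugatesOfSet_iff] at hy
      obtain ⟨x', hx', hconj⟩ := hy
      rw [Set.mem_singleton_iff] at hx'
      subst hx'
      obtain ⟨c, rfl⟩ := isConj_iff.1 hconj
      show (c : H) * x * (c : H)⁻¹ ∈ T
      exact hcl c x hxT (QH_le hSC h ((mem_QH (x := c * x * c⁻¹)).2 (‹Q.Normal›.conj_mem x hmem c)))
    rintro _ ⟨y, hy, rfl⟩
    exact hNT (hQN hy)
  set φ : (Cz z) →* alternatingGroup (Fin 5) := e.toMonoidHom.comp (QuotientGroup.mk' Q)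
  have hφ : ∀ y : (Cz z), φ y = 1 ↔ y ∈ Q := fun y => by
    show e _ = 1 ↔ _
    rw [map_eq_one_iff e e.injective]; exact QuotientGroup.eq_one_iff y
  by_cases hTQ : T ≤ QH Q
  · exfalso
    have key : ∀ w ∈ Q, (w : H) * (g * z * g⁻¹) = g * z * g⁻¹ * w →
        ∀ hw : g⁻¹ * w * g ∈ (Cz z), (⟨g⁻¹ * w * g, hw⟩ : (Cz z)) ∈ Q := by
      intro w hw _ hwC
      set w' : (Cz z) := ⟨g⁻¹ * w * g, hwC⟩
      obtain ⟨k, hk⟩ := IsPGroup.iff_orderOf.1 (pgroup h) ⟨w, hw⟩
      have how : orderOf w' = 2 ^ k := by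
        rw [← hk, ← Subgroup.orderOf_coe, ← Subgroup.orderOf_coe ⟨w, hw⟩, ← Subgroup.orderOf_coe w]
        exact orderOf_injective (MulAut.conj g⁻¹).toMonoidHom (MulAut.conj g⁻¹).injective (w : H) |>.trans
          rfl |> fun r => by simpa [w', mul_assoc] using r
      have hp : IsPGroup 2 (Subgroup.zpowers w') := IsPGroup.of_card (n := k) (by rw [Nat.card_zpowers, how])
      obtain ⟨P, hP⟩ := hp.exists_le_sylow
      obtain ⟨c, hc⟩ := MulAction.exists_smul_eq (Cz z) P (SC hSC)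
      have hcw : c * w' * c⁻¹ ∈ (SC hSC : Subgroup (Cz z)) := by
        rw [← hc]
        exact Subgroup.smul_mem_pointwise_smul w' (MulAut.conj c) (P : Subgroup (Cz z)) (hP (Subgroup.mem_zpowers w'))
      have e1 : (c : H) * g⁻¹ * w * ((c : H) * g⁻¹)⁻¹ = ((c * w' * c⁻¹ : (Cz z)) : H) := by
        simp [w', mul_assoc]
      have h1 : ((c * w' * c⁻¹ : (Cz z)) : H) ∈ T := by
        rw [← e1]
        exact hcl _ _ (hQT (mem_QH.2 hw)) (by rw [e1]; exact hcw)
      have h2 := ‹Q.Normal›.conj_mem _ (mem_QH.1 (hTQ h1)) c⁻¹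
      simpa [mul_assoc] using h2
    have ha' := key a ha hax (centralizer_map h g hax)
    have hb' := key b hb hbx (centralizer_map h g hbx)
    set a' : (Cz z) := ⟨g⁻¹ * a * g, centralizer_map h g hax⟩
    set b' : (Cz z) := ⟨g⁻¹ * b * g, centralizer_map h g hbx⟩
    have cm : ∀ p q : (Cz z), p ∈ Q → q ∈ Q → p * q * p⁻¹ * q⁻¹ = 1 ∨ p * q * p⁻¹ * q⁻¹ = zC z := by
      intro p q hp hq
      have hc : ⁅(⟨p, hp⟩ : Q), (⟨q, hq⟩ : Q)⁆ ∈ Subgroup.center Q := by
        rw [← h.ext.1.2.2]; exact commutator_mem_commutator (mem_top _) (mem_top _)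
      have := center_cases h (SetLike.coe_mem _) (fun v hv => congrArg Subtype.val (mem_center_iff.1 hc ⟨v, hv⟩))
      simpa [commutatorElement_def] using this
    have hne : a * b * a⁻¹ * b⁻¹ ≠ 1 := fun e' => hab (by
      rwa [← commutatorElement_def, commutatorElement_eq_one_iff_mul_comm] at e')
    have hab_z := congrArg Subtype.val ((cm a b ha hb).resolve_left hne)
    simp only [Subgroup.coe_mul, InvMemClass.coe_inv] at hab_z
    rcases cm a' b' ha' hb' with e' | e'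
    · refine hne (Subtype.ext ?_)
      have e'' : g⁻¹ * a * g * (g⁻¹ * b * g) * (g⁻¹ * a * g)⁻¹ * (g⁻¹ * b * g)⁻¹ = 1 := congrArg Subtype.val e'
      simp only [Subgroup.coe_mul, InvMemClass.coe_inv, Subgroup.coe_one]
      calc (a : H) * b * (a : H)⁻¹ * (b : H)⁻¹
          = g * (g⁻¹ * a * g * (g⁻¹ * b * g) * (g⁻¹ * a * g)⁻¹ * (g⁻¹ * b * g)⁻¹) * g⁻¹ := by group
        _ = 1 := by rw [e'']; group
    · refine hgz ?_
      have e'' : g⁻¹ * a * g * (g⁻¹ * b * g) * (g⁻¹ * a * g)⁻¹ * (g⁻¹ * b * g)⁻¹ = z := congrArg Subtype.val e'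
      calc g * z * g⁻¹
          = g * (g⁻¹ * a * g * (g⁻¹ * b * g) * (g⁻¹ * a * g)⁻¹ * (g⁻¹ * b * g)⁻¹) * g⁻¹ := by rw [e'']
        _ = (a : H) * b * (a : H)⁻¹ * (b : H)⁻¹ := by group
        _ = z := hab_z
  · obtain ⟨t, ht, htQ⟩ := SetLike.not_le_iff_exists.1 hTQ
    refine le_antisymm hTS fun s hs => ?_
    by_cases hsQ : s ∈ QH Q
    · exact hQT hsQ
    obtain ⟨τ, hτ⟩ := alt5_facts.2
    have inv2 : ∀ w (hw : w ∈ (S : Subgroup H)), w ∉ QH Q →
        ∃ γ, γ * τ * γ⁻¹ = φ ⟨w, hSC hw⟩ := by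
      intro w hw hwQ
      obtain ⟨k, hk⟩ := IsPGroup.iff_orderOf.1 S.2 ⟨w, hw⟩
      have hpow : (⟨w, hSC hw⟩ : (Cz z)) ^ 2 ^ k = 1 := Subtype.ext (by
        rw [SubmonoidClass.coe_pow, Subgroup.coe_one]
        rw [← Subgroup.orderOf_coe] at hk
        exact hk ▸ pow_orderOf_eq_one w)
      refine (hτ _ (sq_eq_one (k := k) (by rw [← map_pow, hpow, map_one]))).resolve_left fun e' => hwQ ?_
      exact (mem_QH (x := ⟨w, hSC hw⟩)).2 ((hφ _).1 e')
    obtain ⟨γt, hγt⟩ := inv2 t (hTS ht) htQ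
    obtain ⟨γs, hγs⟩ := inv2 s hs hsQ
    obtain ⟨c, hc⟩ : ∃ c, φ c = γs * γt⁻¹ := by
      obtain ⟨c, hc⟩ := QuotientGroup.mk'_surjective Q (e.symm (γs * γt⁻¹))
      exact ⟨c, by show e _ = _; rw [hc, MulEquiv.apply_symm_apply]⟩
    set q : (Cz z) := (⟨s, hSC hs⟩)⁻¹ * (c * ⟨t, hSC (hTS ht)⟩ * c⁻¹) with hq'
    have hqQ : q ∈ Q := (hφ q).1 (by
      rw [hq', map_mul, map_inv, inv_mul_eq_one, map_mul, map_mul, map_inv, hc, ← hγt, ← hγs]
      group)
    have e1 : (c : H) * t * (c : H)⁻¹ = s * (q : H) := by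
      rw [hq']; simp [mul_assoc]
    have h1 : (c : H) * t * (c : H)⁻¹ ∈ T :=
      hcl c t ht (by rw [e1]; exact S.mul_mem hs (QH_le hSC h (mem_QH.2 hqQ)))
    rw [e1] at h1
    have := T.mul_mem h1 (T.inv_mem (hQT (mem_QH.2 hqQ)))
    rwa [mul_inv_cancel_right] at this

variable {G : Type*} [Group G] [Finite G]

/-- The fusion system is simple. -/
theorem isSimple (h : Data z Q) (hodd : ¬ 2 ∣ (centralizer ({z} : Set H)).index) [Q.Normal]
    (e : centralizer ({z} : Set H) ⧸ Q ≃* alternatingGroup (Fin 5)) (ψ₀ : G ≃* H) (P : Sylow 2 G) :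
    (Cfsg.groupFusionSystem (P : Subgroup G)).IsSimple 2 := by
  have : Fact (Nat.Prime 2) := ⟨Nat.prime_two⟩
  obtain ⟨c, hc⟩ := exists_sylow_le hodd (P.mapSurjective (f := ψ₀.toMonoidHom) ψ₀.surjective)
  set ψ : G ≃* H := ψ₀.trans (MulAut.conj c) with hψ
  set S : Sylow 2 H := P.mapSurjective (f := ψ.toMonoidHom) ψ.surjective
  have hcS : (S : Subgroup H) = (P : Subgroup G).map ψ.toMonoidHom := rfl
  have hSC : (S : Subgroup H) ≤ centralizer ({z} : Set H) := by
    rintro _ ⟨x, hx, rfl⟩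
    exact hc _ ⟨x, hx, rfl⟩
  have hmem : ∀ x : G, ψ x ∈ (S : Subgroup H) ↔ x ∈ (P : Subgroup G) := fun x =>
    Subgroup.mem_map_iff_mem (f := ψ.toMonoidHom) ψ.injective
  obtain ⟨hRS, hRn, hRC, hgen⟩ := local_gen hSC h e
  refine Cfsg.Agent.Fusion.SimpleCriterion.isSimple ?_ (fun T hT => ?_) ?_
  · intro e'
    have hzS : z ∈ (S : Subgroup H) := hRS ((mem_QH (x := zC z)).2 (zC_mem h))
    rw [hcS, e', Subgroup.map_bot, Subgroup.mem_bot] at hzS
    exact z_ne h hzS
  · by_cases hne : T = ⊥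
    · exact Or.inl hne
    right
    obtain ⟨u, hu, hu1, huc⟩ := Cfsg.Agent.Fusion.SimpleCriterion.exists_central hT hne
    have := eq_of_closed hSC h e (T := T.map ψ.toMonoidHom) (Subgroup.map_mono hT.1) ?_
      (u := ψ u) ⟨u, hu, rfl⟩ ((map_ne_one_iff ψ ψ.injective).2 hu1) ?_
    · exact Subgroup.map_injective (f := ψ.toMonoidHom) ψ.injective (this.trans hcS)
    · intro g _ hx hgx
      obtain ⟨x, hx, rfl⟩ := hx
      obtain ⟨g, rfl⟩ := ψ.surjective g
      have e1 : ψ g * ψ x * (ψ g)⁻¹ = ψ (g * x * g⁻¹) := by simp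
      change ψ g * ψ x * (ψ g)⁻¹ ∈ _ at hgx
      rw [e1, hmem] at hgx
      exact ⟨_, Cfsg.Agent.Fusion.SimpleCriterion.closed hT hx hgx, e1.symm⟩
    · rintro _ ⟨s, hs, rfl⟩
      show ψ s * ψ u = ψ u * ψ s
      rw [← map_mul, ← map_mul, huc s hs]
  · intro n hn
    refine Subgroup.subset_closure (Or.inr ⟨hn, (QH Q).comap ψ.toMonoidHom, fun x hx => (hmem x).1 (hRS hx), ?_, ?_, ?_⟩)
    · intro x hx
      have hx' := hRn ((hmem x).2 hx)
      rw [Subgroup.mem_normalizer_iff] at hx' ⊢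
      intro y
      simpa using hx' (ψ y)
    · intro x hx
      refine hRC (Subgroup.mem_centralizer_iff.2 fun y hy => ?_)
      obtain ⟨y, rfl⟩ := ψ.surjective y
      show ψ y * ψ x = ψ x * ψ y
      rw [← map_mul, ← map_mul, Subgroup.mem_centralizer_iff.1 hx y hy]
    · have hn' : ψ n ∈ Subgroup.normalizer ((S : Subgroup H) : Set H) := by
        rw [Subgroup.mem_normalizer_iff] at hn ⊢
        intro y
        obtain ⟨y, rfl⟩ := ψ.surjective y
        rw [show ψ n * ψ y * (ψ n)⁻¹ = ψ (n * y * n⁻¹) by simp, hmem, hmem]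
        exact hn y
      have h1 : ψ.symm (ψ n) ∈ (Subgroup.closure {x : H | x ∈ Subgroup.normalizer (QH Q : Set H) ∧
          ∃ k : ℕ, orderOf x = 2 ^ k}).map ψ.symm.toMonoidHom := ⟨_, hgen hn', rfl⟩
      rw [MulEquiv.symm_apply_apply, MonoidHom.map_closure] at h1
      refine Subgroup.closure_mono ?_ h1
      rintro _ ⟨x, ⟨hx, k, hk⟩, rfl⟩
      refine ⟨?_, k, by rw [← hk]; exact orderOf_injective ψ.symm.toMonoidHom ψ.symm.injective x⟩
      rw [Subgroup.mem_normalizer_iff] at hx ⊢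
      intro y
      simpa using hx (ψ y)

end Cfsg.Agent.LargeExtra.FusionSimple
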