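import Mathlib
import Cfsg.Prelude.Def_Solvable
import Cfsg.Agent.Lib.Cores.Basic

/-!
Linear algebra over the field with two elements for the affine group: transitivity on non-zero
vectors, the stabiliser of a vector, and triviality of the 2-core of the general linear group.
-/

set_option autoImplicit false

namespace Cfsg.Agent.LargeExtra.AffineLinear

variable {M : Type*} [AddCommGroup M] [Module (ZMod 2) M]

theorem zmod_two_cases : ∀ a : ZMod 2, a = 0 ∨ a = 1 := by decide

theorem add_self (x : M) : x + x = 0 := by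
  rw [← two_smul (ZMod 2) x, show (2 : ZMod 2) = 0 by decide, zero_smul]

theorem exists_form_eq_one {v w : M} (hv : v ≠ 0) (hw : w ≠ 0) :
    ∃ f : M →ₗ[ZMod 2] ZMod 2, f v = 1 ∧ f w = 1 := by
  let b := Module.Free.chooseBasis (ZMod 2) M
  have h : ∀ x : M, x ≠ 0 → ∃ i, b.coord i x = 1 := by
    intro x hx
    by_contra hc
    push Not at hc
    refine hx (b.forall_coord_eq_zero_iff.1 fun i => ?_)
    exact (zmod_two_cases _).resolve_right (hc i)
  obtain ⟨i, hi⟩ := h v hv
  obtain ⟨j, hj⟩ := h w hw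
  rcases zmod_two_cases (b.coord i w) with hiw | hiw
  · rcases zmod_two_cases (b.coord j v) with hjv | hjv
    · exact ⟨b.coord i + b.coord j, by rw [LinearMap.add_apply, hi, hjv, add_zero],
        by rw [LinearMap.add_apply, hiw, hj, zero_add]⟩
    · exact ⟨b.coord j, hjv, hj⟩
  · exact ⟨b.coord i, hi, hiw⟩

theorem exists_linearEquiv_apply {v w : M} (hv : v ≠ 0) (hw : w ≠ 0) :
    ∃ k : M ≃ₗ[ZMod 2] M, k v = w := by
  obtain ⟨f, hfv, hfw⟩ := exists_form_eq_one hv hw
  let g : M →ₗ[ZMod 2] M := LinearMap.id + f.smulRight (w - v)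
  have hg : ∀ x, g x = x + f x • (w - v) := fun x => rfl
  have hinv : Function.Involutive g := by
    intro x
    have hd : f (w - v) = 0 := by rw [map_sub, hfv, hfw, sub_self]
    rw [hg (g x), hg x, map_add, map_smul, hd, smul_zero, add_zero, add_assoc, add_self, add_zero]
  exact ⟨LinearEquiv.ofInvolutive g hinv, by
    show g v = w
    rw [hg, hfv, one_smul, add_sub_cancel]⟩

theorem finite_linearEquiv [Finite M] : Finite (M ≃ₗ[ZMod 2] M) :=
  Finite.of_injective (fun k : M ≃ₗ[ZMod 2] M => (k : M → M)) DFunLike.coe_injective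

theorem pCore_linearEquiv [Finite M] : Cfsg.pCore 2 (M ≃ₗ[ZMod 2] M) = ⊥ := by
  haveI := finite_linearEquiv (M := M)
  haveI : Fact (Nat.Prime 2) := ⟨Nat.prime_two⟩
  haveI := Cfsg.Agent.Cores.pCore_normal (G := M ≃ₗ[ZMod 2] M) 2
  set P := Cfsg.pCore 2 (M ≃ₗ[ZMod 2] M)
  rw [eq_bot_iff]
  intro k hk
  rw [Subgroup.mem_bot]
  rcases subsingleton_or_nontrivial M with hs | hn
  · exact LinearEquiv.ext fun x => Subsingleton.elim _ _
  · haveI : Module.Finite (ZMod 2) M := Module.Finite.of_finite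
    have hdvd : 2 ∣ Nat.card M := by
      rw [Module.natCard_eq_pow_finrank (K := ZMod 2) (V := M), Nat.card_zmod]
      exact dvd_pow_self 2 (Module.finrank_pos (R := ZMod 2) (M := M)).ne'
    have hP : IsPGroup 2 ↥P := Cfsg.Agent.Cores.pCore_isPGroup 2
    obtain ⟨b, hb, hb0⟩ := hP.exists_fixed_point_of_prime_dvd_card_of_fixed_point M hdvd
      (a := (0 : M)) (fun p => map_zero (p : M ≃ₗ[ZMod 2] M))
    refine LinearEquiv.ext fun x => ?_
    show k x = x
    by_cases hx : x = 0
    · rw [hx, map_zero]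
    obtain ⟨m, hm⟩ := exists_linearEquiv_apply (Ne.symm hb0) hx
    have h1 : (m⁻¹ * k * m) b = b := by
      have hc : m⁻¹ * k * m ∈ P := by
        have := Subgroup.Normal.conj_mem inferInstance k hk m⁻¹
        rwa [inv_inv] at this
      exact hb ⟨_, hc⟩
    have h2 : m.symm (k (m b)) = b := h1
    rw [hm] at h2
    rw [← hm]
    conv_lhs => rw [hm, ← m.apply_symm_apply (k x), h2]

end Cfsg.Agent.LargeExtra.AffineLinear
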