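import Cfsg.Agent.Lib.LargeExtra.Centralizer

/-!
A criterion for largeness: three conjugates of the central involution in a four-subgroup of `Q`,
each of whose own extraspecial groups contains the central involution.
-/

set_option autoImplicit false

namespace Cfsg.Agent.LargeExtra

open Subgroup

variable {G : Type*} [Group G] [Finite G]

theorem eq_one_of_mem_odd {Q K : Subgroup G} {x : G} (hQ : IsPGroup 2 ↥Q)
    (hK : Odd (Nat.card ↥K)) (hx : x ∈ Q) (hxK : x ∈ K) : x = 1 := by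
  haveI : Fact (Nat.Prime 2) := ⟨Nat.prime_two⟩
  obtain ⟨k, hk⟩ := IsPGroup.iff_card.1 hQ
  have h : Q ⊓ K = ⊥ := by
    apply Subgroup.inf_eq_bot_of_coprime
    rw [hk]
    exact (Nat.coprime_two_left.2 hK).pow_left k
  have hm : x ∈ Q ⊓ K := ⟨hx, hxK⟩
  rwa [h, mem_bot] at hm

/-- An element of `K` centralizing a conjugate `g z g⁻¹` in `Q` whose group contains `z` is trivial. -/
theorem eq_one_of_centralizes {Q : Subgroup G} {z : G} (h : Ctr Q z) {K : Subgroup G}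
    (hK : Odd (Nat.card ↥K)) (hQK : Q ≤ normalizer (K : Set G)) {g : G} (hg : g⁻¹ * z * g ∈ Q)
    {x : G} (hx : x ∈ K) (hxg : x * (g * z * g⁻¹) = g * z * g⁻¹ * x) : x = 1 := by
  have hconjK : ∀ q ∈ Q, ∀ y ∈ K, q * y * q⁻¹ ∈ K := fun q hq y hy =>
    (Subgroup.mem_normalizer_iff.1 (hQK hq) y).1 hy
  -- `x` centralizes `z`
  have hxz : x * z = z * x := by
    have hc : g⁻¹ * x * g * z = z * (g⁻¹ * x * g) := by
      calc g⁻¹ * x * g * z = g⁻¹ * (x * (g * z * g⁻¹)) * g := by group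
        _ = g⁻¹ * (g * z * g⁻¹ * x) * g := by rw [hxg]
        _ = z * (g⁻¹ * x * g) := by group
    have h1 : g⁻¹ * (x * z * x⁻¹ * z⁻¹) * g ∈ Q := by
      have e : g⁻¹ * (x * z * x⁻¹ * z⁻¹) * g =
          (g⁻¹ * x * g) * (g⁻¹ * z * g) * (g⁻¹ * x * g)⁻¹ * (g⁻¹ * z * g)⁻¹ := by group
      rw [e]
      exact mul_mem (h.conj_mem hc hg) (inv_mem hg)
    have h2 : x * z * x⁻¹ * z⁻¹ ∈ K := by
      rw [mul_assoc x z, mul_assoc x]
      exact mul_mem hx (hconjK z h.z_mem _ (inv_mem hx))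
    have h3 : x * z * x⁻¹ * z⁻¹ = 1 := by
      have hp : IsPGroup 2 ↥(Q.map (MulAut.conj g).toMonoidHom) := h.pgroup.map _
      exact eq_one_of_mem_odd hp hK ⟨_, h1, by simp [mul_assoc]⟩ h2
    exact mul_inv_eq_iff_eq_mul.1 (mul_inv_eq_one.1 h3)
  -- hence centralizes `Q`, so lies in `⟨z⟩`
  have hxC : x ∈ centralizer (Q : Set G) := by
    rw [mem_centralizer_iff]
    intro q hq
    have h1 : q * x * q⁻¹ * x⁻¹ ∈ Q := by
      rw [mul_assoc q x, mul_assoc q]
      exact mul_mem hq (h.conj_mem hxz (inv_mem hq))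
    have h3 := eq_one_of_mem_odd h.pgroup hK h1 (mul_mem (hconjK q hq x hx) (inv_mem hx))
    exact mul_inv_eq_iff_eq_mul.1 (mul_inv_eq_one.1 h3)
  rw [h.cent] at hxC
  exact eq_one_of_mem_odd h.pgroup hK (zpowers_le.2 h.z_mem hxC) hx

/-- Largeness from conjugates `a = g z g⁻¹` and `z a = k z k⁻¹` of `z` in `Q`. -/
theorem Ctr.large_of_conj {Q : Subgroup G} {z : G} (h : Ctr Q z) (g k : G)
    (hgQ : g * z * g⁻¹ ∈ Q) (hg : g⁻¹ * z * g ∈ Q) (hk : k⁻¹ * z * k ∈ Q)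
    (hprod : k * z * k⁻¹ = z * (g * z * g⁻¹)) :
    Cfsg.IsLargeExtraspecial Q := by
  refine ⟨h.ext, by rw [h.ctr, h.cent], ?_, fun K hK hQK => ?_⟩
  · rw [h.ctr, zpowers_eq_closure, centralizer_closure]
    exact h.norm
  set a := g * z * g⁻¹ with ha
  have haa : a * a = 1 := by
    rw [ha, show g * z * g⁻¹ * (g * z * g⁻¹) = g * (z * z) * g⁻¹ by group, h.zz]; group
  have hza : z * a = a * z := (h.comm hgQ).symm
  -- each of the three involutions inverts `K`
  have key : ∀ (b c : G), b = c * z * c⁻¹ → b ∈ Q → c⁻¹ * z * c ∈ Q → ∀ x ∈ K, b * x * b⁻¹ = x⁻¹ := by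
    intro b c hb hbQ hc x hx
    have hbb : b * b = 1 := by
      rw [hb, show c * z * c⁻¹ * (c * z * c⁻¹) = c * (z * z) * c⁻¹ by group, h.zz]; group
    have hbK : ∀ y ∈ K, b * y * b⁻¹ ∈ K := fun y hy => (Subgroup.mem_normalizer_iff.1 (hQK hbQ) y).1 hy
    let σ : ↥K →* ↥K :=
      { toFun := fun y => ⟨_, hbK _ y.2⟩
        map_one' := Subtype.ext (by simp)
        map_mul' := fun y w => Subtype.ext (by simp [mul_assoc]) }
    have hfix : MonoidHom.FixedPointFree σ := by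
      intro y hy
      refine Subtype.ext (eq_one_of_centralizes h hK hQK hc y.2 ?_)
      have e : b * (y : G) * b⁻¹ = y := congrArg Subtype.val hy
      rw [← hb]
      exact (mul_inv_eq_iff_eq_mul.1 e).symm
    have hsq : σ^[2] = id := by
      funext y
      apply Subtype.ext
      show b * (b * (y : G) * b⁻¹) * b⁻¹ = y
      rw [show b * (b * (y : G) * b⁻¹) * b⁻¹ = (b * b) * y * (b * b)⁻¹ by group, hbb]
      simp
    exact congrArg Subtype.val (congrFun (hfix.coe_eq_inv_of_sq_eq_one hsq) ⟨x, hx⟩)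
  rw [eq_bot_iff]
  intro x hx
  rw [mem_bot]
  have h1 := key a g rfl hgQ hg x hx
  have h2 := key z 1 (by group) h.z_mem (by simpa using h.z_mem) x hx
  have h3 := key (z * a) k hprod.symm (mul_mem h.z_mem hgQ) hk x hx
  have h4 : x = x⁻¹ := by
    calc x = (x⁻¹)⁻¹ := (inv_inv x).symm
      _ = z * (a * x * a⁻¹) * z⁻¹ := by
        rw [h1]
        conv_rhs => rw [show z * x⁻¹ * z⁻¹ = (z * x * z⁻¹)⁻¹ by group, h2]
      _ = z * a * x * (z * a)⁻¹ := by group
      _ = x⁻¹ := h3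
  have h5 : x ^ 2 = 1 := by rw [pow_two]; nth_rewrite 2 [h4]; exact mul_inv_cancel x
  have h6 : orderOf (⟨x, hx⟩ : ↥K) ∣ 2 := orderOf_dvd_of_pow_eq_one (Subtype.ext h5)
  have h7 := orderOf_dvd_natCard (⟨x, hx⟩ : ↥K)
  rcases (Nat.dvd_prime Nat.prime_two).1 h6 with e | e
  · exact congrArg Subtype.val (orderOf_eq_one_iff.1 e)
  · exfalso
    rw [e] at h7
    exact (Nat.not_even_iff_odd.2 hK) (even_iff_two_dvd.2 h7)

end Cfsg.Agent.LargeExtra
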