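import Cfsg.Agent.Lib.LargeExtra.Affine
import Cfsg.Agent.Lib.LargeExtra.Criterion

/-!
The centralizer of a transvection in the special linear group over the field with two elements.
-/

set_option autoImplicit false

namespace Cfsg.Agent.LargeExtra.AffineSL

open Subgroup Matrix AffineLinear

variable {m : ℕ}

local notation "X" => (Fin m → ZMod 2)
local notation "SL" => SpecialLinearGroup (Fin m) (ZMod 2)

theorem det_eq_one (A : Matrix (Fin m) (Fin m) (ZMod 2)) (h : IsUnit A) : A.det = 1 :=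
  (zmod_two_cases A.det).resolve_left fun h0 => by
    have := (Matrix.isUnit_iff_isUnit_det A).1 h
    rw [h0] at this
    exact not_isUnit_zero this

/-- The element of the special linear group of a linear automorphism. -/
def ofEquiv : (X ≃ₗ[ZMod 2] X) →* SL where
  toFun L := ⟨LinearMap.toMatrix' L.toLinearMap, det_eq_one _
    ⟨⟨LinearMap.toMatrix' L.toLinearMap, LinearMap.toMatrix' L.symm.toLinearMap,
      by rw [← LinearMap.toMatrix'_comp, LinearEquiv.comp_symm, LinearMap.toMatrix'_id],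
      by rw [← LinearMap.toMatrix'_comp, LinearEquiv.symm_comp, LinearMap.toMatrix'_id]⟩, rfl⟩⟩
  map_one' := Subtype.ext LinearMap.toMatrix'_id
  map_mul' L L' := Subtype.ext (LinearMap.toMatrix'_comp L.toLinearMap L'.toLinearMap)

theorem ofEquiv_mulVec (L : X ≃ₗ[ZMod 2] X) (x : X) :
    ((ofEquiv L : SL) : Matrix (Fin m) (Fin m) (ZMod 2)) *ᵥ x = L x := by
  show LinearMap.toMatrix' L.toLinearMap *ᵥ x = _
  rw [LinearMap.toMatrix'_mulVec]
  rfl

theorem act_mul (g h : SL) (x : X) :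
    ((g * h : SL) : Matrix (Fin m) (Fin m) (ZMod 2)) *ᵥ x =
      (g : Matrix (Fin m) (Fin m) (ZMod 2)) *ᵥ ((h : Matrix (Fin m) (Fin m) (ZMod 2)) *ᵥ x) :=
  (mulVec_mulVec x _ _).symm

theorem act_one (x : X) : ((1 : SL) : Matrix (Fin m) (Fin m) (ZMod 2)) *ᵥ x = x :=
  one_mulVec x

theorem act_inv (g : SL) (x : X) :
    ((g⁻¹ : SL) : Matrix (Fin m) (Fin m) (ZMod 2)) *ᵥ ((g : Matrix (Fin m) (Fin m) (ZMod 2)) *ᵥ x) = x := by
  rw [← act_mul, inv_mul_cancel, act_one]

theorem act_ext {g h : SL} (e : ∀ x : X, (g : Matrix (Fin m) (Fin m) (ZMod 2)) *ᵥ x =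
    (h : Matrix (Fin m) (Fin m) (ZMod 2)) *ᵥ x) : g = h :=
  Subtype.ext (Matrix.toLin'.injective (LinearMap.ext fun x => by simpa using e x))

variable (i : Fin m)

/-- The stabiliser of the linear functional `x ↦ x i`. -/
def P : Subgroup SL where
  carrier := {g | ∀ x : X, ((g : Matrix (Fin m) (Fin m) (ZMod 2)) *ᵥ x) i = x i}
  mul_mem' {a b} ha hb x := by rw [act_mul, ha, hb]
  one_mem' x := by rw [act_one]
  inv_mem' {a} ha x := by
    have h := ha (((a⁻¹ : SL) : Matrix (Fin m) (Fin m) (ZMod 2)) *ᵥ x)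
    rw [← act_mul, mul_inv_cancel, act_one] at h
    exact h.symm

/-- The translations. -/
def U : Subgroup ↥(P i) where
  carrier := {g | ∀ x : X, x i = 0 → (((g : ↥(P i)) : SL) : Matrix (Fin m) (Fin m) (ZMod 2)) *ᵥ x = x}
  mul_mem' {a b} ha hb x hx := by rw [Subgroup.coe_mul, act_mul, hb x hx, ha x hx]
  one_mem' x _ := by rw [Subgroup.coe_one, act_one]
  inv_mem' {a} ha x hx := by
    conv_lhs => rw [← ha x hx, Subgroup.coe_inv, act_inv]

instance : (U i).Normal := ⟨fun u hu g x hx => by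
  have h1 : ((((g⁻¹ : ↥(P i)) : SL) : Matrix (Fin m) (Fin m) (ZMod 2)) *ᵥ x) i = 0 := by
    rw [(g⁻¹).2 x, hx]
  rw [Subgroup.coe_mul, act_mul, Subgroup.coe_mul, act_mul, hu _ h1, ← act_mul, ← Subgroup.coe_mul,
    mul_inv_cancel, Subgroup.coe_one, act_one]⟩

/-- The point stabiliser complementing the translations. -/
def M : Subgroup ↥(P i) where
  carrier := {g | (((g : ↥(P i)) : SL) : Matrix (Fin m) (Fin m) (ZMod 2)) *ᵥ Pi.single i 1 = Pi.single i 1}
  mul_mem' {a b} ha hb := by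
    show _ *ᵥ _ = _
    rw [Subgroup.coe_mul, act_mul, hb, ha]
  one_mem' := by
    show _ *ᵥ _ = _
    rw [Subgroup.coe_one, act_one]
  inv_mem' {a} ha := by
    show _ *ᵥ _ = _
    conv_lhs => rw [← ha, Subgroup.coe_inv, act_inv]

theorem split (x : X) : x = (x - x i • Pi.single i 1) + x i • Pi.single i 1 := by
  rw [sub_add_cancel]

theorem split_i (x : X) : (x - x i • Pi.single i 1 : X) i = 0 := by simp

/-- The translation along a vector of the hyperplane. -/
def τ (v : X) (hv : v i = 0) : ↥(P i) :=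
  ⟨ofEquiv (LinearEquiv.ofInvolutive
    (LinearMap.id + (LinearMap.proj (φ := fun _ => ZMod 2) i).smulRight v) (fun x => by
      show x + x i • v + (x + x i • v) i • v = x
      rw [Pi.add_apply, Pi.smul_apply, hv, smul_zero, add_zero, add_assoc, AffineLinear.add_self, add_zero])),
   fun x => by
    rw [ofEquiv_mulVec]
    show (x + x i • v) i = x i
    rw [Pi.add_apply, Pi.smul_apply, hv, smul_zero, add_zero]⟩

theorem τ_apply (v : X) (hv : v i = 0) (x : X) :
    (((τ i v hv : ↥(P i)) : SL) : Matrix (Fin m) (Fin m) (ZMod 2)) *ᵥ x = x + x i • v :=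
  ofEquiv_mulVec _ _

theorem τ_mem (v : X) (hv : v i = 0) : τ i v hv ∈ U i := fun x hx => by
  rw [τ_apply, hx, zero_smul, add_zero]

/-- The vector of a translation. -/
def vec (g : ↥(P i)) : X :=
  ((g : SL) : Matrix (Fin m) (Fin m) (ZMod 2)) *ᵥ Pi.single i 1 - Pi.single i 1

theorem vec_i (g : ↥(P i)) : vec i g i = 0 := by
  rw [vec, Pi.sub_apply, g.2, sub_self]

theorem vec_τ (v : X) (hv : v i = 0) : vec i (τ i v hv) = v := by
  rw [vec, τ_apply, Pi.single_eq_same, one_smul, add_sub_cancel_left]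

theorem act_U {u : ↥(P i)} (hu : u ∈ U i) (x : X) :
    ((u : SL) : Matrix (Fin m) (Fin m) (ZMod 2)) *ᵥ x = x + x i • vec i u := by
  conv_lhs => rw [split i x, mulVec_add, mulVec_smul, hu _ (split_i i x)]
  rw [vec, smul_sub]
  abel

theorem U_ext {u w : ↥(P i)} (hu : u ∈ U i) (hw : w ∈ U i) (h : vec i u = vec i w) : u = w :=
  Subtype.ext (act_ext fun x => by rw [act_U i hu, act_U i hw, h])

theorem vec_mul {u : ↥(P i)} (hu : u ∈ U i) (w : ↥(P i)) :
    vec i (u * w) = vec i u + vec i w := by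
  rw [vec, Subgroup.coe_mul, act_mul, act_U i hu, w.2, Pi.single_eq_same, one_smul]
  rw [vec, vec]
  abel

theorem elementary : Cfsg.IsElementaryAbelian 2 (U i) := by
  refine ⟨⟨⟨fun a b => Subtype.ext (U_ext i (mul_mem a.2 b.2) (mul_mem b.2 a.2) (by
    rw [Subgroup.coe_mul, Subgroup.coe_mul, vec_mul i a.2, vec_mul i b.2, add_comm]))⟩⟩, fun a ha => ?_⟩
  rw [pow_two]
  refine U_ext i (mul_mem ha ha) (one_mem _) ?_
  rw [vec_mul i ha, AffineLinear.add_self, vec, Subgroup.coe_one, act_one, sub_self]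

theorem card_U {k : ℕ} (hk : m = k + 1) : Nat.card ↥(U i) = 2 ^ k := by
  subst hk
  let f : (Fin k → ZMod 2) → ↥(U i) := fun w =>
    ⟨τ i (i.insertNth 0 w) (Fin.insertNth_apply_same _ _ _), τ_mem i _ _⟩
  have hf : Function.Bijective f := by
    constructor
    · intro w w' h
      have h1 := congrArg (fun u : ↥(U i) => vec i (u : ↥(P i))) h
      simp only [f, vec_τ] at h1
      exact Fin.insertNth_injective2 h1 |>.2
    · intro u
      refine ⟨fun j => vec i u.1 (i.succAbove j), Subtype.ext (U_ext i (τ_mem i _ (Fin.insertNth_apply_same _ _ _)) u.2 ?_)⟩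
      rw [vec_τ]
      refine funext (Fin.succAboveCases i ?_ fun j => ?_)
      · rw [Fin.insertNth_apply_same, vec_i]
      · rw [Fin.insertNth_apply_succAbove]
  rw [← Nat.card_eq_of_bijective f hf]
  simp

theorem sup_eq : U i ⊔ M i = ⊤ := by
  rw [eq_top_iff]
  intro g _
  set u := τ i (vec i g) (vec_i i g)
  have hm : u⁻¹ * g ∈ M i := by
    show _ *ᵥ _ = _
    have hu : u * u = 1 := by
      have := (elementary i).2 u (τ_mem i _ _)
      rwa [pow_two] at this
    rw [inv_eq_of_mul_eq_one_right hu, Subgroup.coe_mul, act_mul, τ_apply]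
    rw [g.2, Pi.single_eq_same, one_smul, vec, ← add_sub_assoc, AffineLinear.add_self, zero_sub]
    exact (neg_eq_of_add_eq_zero_right (AffineLinear.add_self _))
  rw [← mul_inv_cancel_left u g]
  exact mul_mem_sup (τ_mem i _ _) hm

theorem conj_vec (g : ↥(P i)) {u : ↥(P i)} (hu : u ∈ U i) :
    vec i (g * u * g⁻¹) = ((g : SL) : Matrix (Fin m) (Fin m) (ZMod 2)) *ᵥ vec i u := by
  rw [vec, Subgroup.coe_mul, act_mul, Subgroup.coe_mul, act_mul, act_U i hu, (g⁻¹).2, Pi.single_eq_same,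
    one_smul, mulVec_add, ← act_mul, ← Subgroup.coe_mul, mul_inv_cancel, Subgroup.coe_one, act_one,
    add_sub_cancel_left]

theorem faith : ∀ g ∈ M i, (∀ u ∈ U i, g * u * g⁻¹ = u) → g = 1 := by
  intro g hg h
  refine Subtype.ext (act_ext fun x => ?_)
  rw [Subgroup.coe_one, act_one]
  have h1 := conj_vec i g (τ_mem i _ (split_i i x))
  rw [h _ (τ_mem i _ _), vec_τ] at h1
  conv_lhs => rw [split i x, mulVec_add, mulVec_smul, hg, ← h1]
  exact (split i x).symm

theorem full (φ : ↥(U i) ≃* ↥(U i)) :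
    ∃ g ∈ M i, ∀ u : ↥(U i), ((φ u : ↥(U i)) : ↥(P i)) = g * u * g⁻¹ := by
  let T : X → ↥(U i) := fun x => ⟨τ i _ (split_i i x), τ_mem i _ (split_i i x)⟩
  have hT : ∀ x, vec i (T x : ↥(P i)) = x - x i • Pi.single i 1 := fun x => vec_τ i _ (split_i i x)
  have hTm : ∀ x y, T (x + y) = T x * T y := fun x y => Subtype.ext (U_ext i (T (x + y)).2 (mul_mem (T x).2 (T y).2) (by
    rw [Subgroup.coe_mul, vec_mul i (T x).2, hT, hT, hT, Pi.add_apply, add_smul]; abel))
  let mk : (↥(U i) ≃* ↥(U i)) → X → X := fun ψ x => vec i (ψ (T x) : ↥(P i)) + x i • Pi.single i 1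
  have hadd : ∀ ψ x y, mk ψ (x + y) = mk ψ x + mk ψ y := fun ψ x y => by
    show vec i (ψ (T (x + y)) : ↥(P i)) + _ = _
    rw [hTm, map_mul, Subgroup.coe_mul, vec_mul i (ψ (T x)).2, Pi.add_apply, add_smul]
    simp only [mk]; abel
  have hi : ∀ ψ x, mk ψ x i = x i := fun ψ x => by
    show (vec i (ψ (T x) : ↥(P i)) + x i • Pi.single i 1 : X) i = x i
    rw [Pi.add_apply, vec_i, zero_add, Pi.smul_apply, Pi.single_eq_same, smul_eq_mul, mul_one]
  have hTmk : ∀ ψ x, T (mk ψ x) = ψ (T x) := fun ψ x => Subtype.ext (U_ext i (T _).2 (ψ (T x)).2 (by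
    rw [hT, hi]; show _ + _ - _ = _; rw [add_sub_cancel_right]))
  have hinv : ∀ ψ x, mk ψ.symm (mk ψ x) = x := fun ψ x => by
    show vec i (ψ.symm (T (mk ψ x)) : ↥(P i)) + mk ψ x i • Pi.single i 1 = x
    rw [hTmk, MulEquiv.symm_apply_apply, hi, hT, sub_add_cancel]
  let L₀ : X →ₗ[ZMod 2] X := AddMonoidHom.toZModLinearMap 2 (AddMonoidHom.mk' (mk φ) (hadd φ))
  let L : X ≃ₗ[ZMod 2] X :=
    { L₀ with
      invFun := mk φ.symm
      left_inv := hinv φ
      right_inv := fun x => by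
        have := hinv φ.symm x
        rwa [MulEquiv.symm_symm] at this }
  have hL : ∀ x, ((ofEquiv L : SL) : Matrix (Fin m) (Fin m) (ZMod 2)) *ᵥ x = mk φ x := ofEquiv_mulVec L
  let g : ↥(P i) := ⟨ofEquiv L, fun x => by rw [hL, hi]⟩
  refine ⟨g, ?_, fun u => ?_⟩
  · show _ *ᵥ _ = _
    rw [hL]
    show vec i (φ (T (Pi.single i 1)) : ↥(P i)) + _ = _
    have h1 : T (Pi.single i 1) = 1 := Subtype.ext (U_ext i (T _).2 (one_mem _) (by
      rw [hT, vec, Subgroup.coe_one, Subgroup.coe_one, act_one]; simp))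
    rw [h1, map_one, Subgroup.coe_one, vec, Subgroup.coe_one, act_one, sub_self, zero_add,
      Pi.single_eq_same, one_smul]
  · refine U_ext i (φ u).2 (Subgroup.Normal.conj_mem inferInstance _ u.2 g) ?_
    rw [conj_vec i g u.2, hL]
    have hu : T (vec i (u : ↥(P i))) = u := Subtype.ext (U_ext i (T _).2 u.2 (by
      rw [hT, vec_i, zero_smul, sub_zero]))
    show _ = vec i (φ (T _) : ↥(P i)) + vec i (u : ↥(P i)) i • _
    rw [hu, vec_i, zero_smul, add_zero]

theorem centralizer_le {j : Fin m} (hij : j ≠ i) (z : SL)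
    (hz : (z : Matrix (Fin m) (Fin m) (ZMod 2)) = transvection j i 1) :
    centralizer ({z} : Set SL) ≤ P i ∧ (∀ x : X, (z : Matrix (Fin m) (Fin m) (ZMod 2)) *ᵥ x = x + x i • Pi.single j 1) := by
  have hza : ∀ x : X, (z : Matrix (Fin m) (Fin m) (ZMod 2)) *ᵥ x = x + x i • Pi.single j 1 := fun x => by
    rw [hz, transvection, add_mulVec, one_mulVec]
    congr 1
    funext k
    by_cases hk : k = j
    · subst hk; simp [single_mulVec]
    · simp [single_mulVec, hk]
  refine ⟨fun g hg => ?_, hza⟩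
  rw [mem_centralizer_singleton_iff] at hg
  have key : ∀ x : X, x i • ((g : Matrix (Fin m) (Fin m) (ZMod 2)) *ᵥ Pi.single j 1) =
      ((g : Matrix (Fin m) (Fin m) (ZMod 2)) *ᵥ x) i • Pi.single j 1 := fun x => by
    have h := congrArg (fun y : SL => (y : Matrix (Fin m) (Fin m) (ZMod 2)) *ᵥ x) hg
    simp only [act_mul, hza, mulVec_add, mulVec_smul] at h
    exact add_left_cancel h
  have hne : (g : Matrix (Fin m) (Fin m) (ZMod 2)) *ᵥ Pi.single j 1 ≠ 0 := fun h => by
    have := act_inv g (Pi.single j 1)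
    rw [h, mulVec_zero] at this
    simpa using congrFun this j
  have hfix : (g : Matrix (Fin m) (Fin m) (ZMod 2)) *ᵥ Pi.single j 1 = Pi.single j 1 := by
    have h := key (Pi.single i 1)
    rw [Pi.single_eq_same, one_smul] at h
    rcases zmod_two_cases (((g : Matrix (Fin m) (Fin m) (ZMod 2)) *ᵥ Pi.single i 1) i) with e | e
    · rw [e, zero_smul] at h; exact absurd h hne
    · rwa [e, one_smul] at h
  intro x
  have h := congrFun (key x) j
  rw [hfix] at h
  simpa using h.symm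

theorem pCore_map_eq {G H : Type*} [Group G] [Group H] [Finite G] (f : G →* H)
    (hf : Function.Injective f) (C : Subgroup G) (C' : Subgroup H) (hC : C.map f = C') (p : ℕ) :
    ((Cfsg.pCore p ↥C).map C.subtype).map f = (Cfsg.pCore p ↥C').map C'.subtype := by
  subst hC
  rw [← Cfsg.Agent.Cores.map_pCore_eq (C.equivMapOfInjective f hf) p, Subgroup.map_map, Subgroup.map_map]
  exact congrArg (fun ψ => Subgroup.map ψ (Cfsg.pCore p ↥C)) (MonoidHom.ext fun x => rfl)

/-- Transport along an injection whose image contains the centralizer. -/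
theorem shape_map {G H : Type*} [Group G] [Group H] [Finite G] [Finite H] {n : ℕ} (f : G →* H)
    (hf : Function.Injective f) {z : G} (hz2 : orderOf z = 2)
    (hC : centralizer ({f z} : Set H) ≤ f.range) {Q₀ : Subgroup G}
    (hQ₀ : Q₀ = (Cfsg.pCore 2 ↥(centralizer ({z} : Set G))).map (centralizer ({z} : Set G)).subtype)
    (h : Affine.Coord.Shape n z Q₀) {Q : Subgroup H}
    (hQ : Q = (Cfsg.pCore 2 ↥(centralizer ({f z} : Set H))).map (centralizer ({f z} : Set H)).subtype) :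
    Q = Q₀.map f ∧ Ctr Q (f z) ∧ Cfsg.IsExtraspecial 2 ↥Q ∧ Nat.card ↥Q = 2 ^ (2 * n + 1) ∧
      (∃ E : Subgroup H, E ≤ Q ∧ Cfsg.IsElementaryAbelian 2 E ∧ Nat.card ↥E = 2 ^ (n + 1)) ∧
      ∃ K : Subgroup H, K ≤ centralizer ({f z} : Set H) ∧ Q ⊓ K = ⊥ ∧ Q ⊔ K = centralizer ({f z} : Set H) ∧
        Nonempty (↥K ≃* Matrix.GeneralLinearGroup (Fin n) (ZMod 2)) := by
  obtain ⟨hext, hcard, ⟨E, hEQ, hE, hEcard⟩, hlarge, K, hKC, hQK, hQK', ⟨eK⟩⟩ := h
  have hCmap : (centralizer ({z} : Set G)).map f = centralizer ({f z} : Set H) := by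
    refine le_antisymm ?_ fun y hy => ?_
    · rintro _ ⟨x, hx, rfl⟩
      rw [mem_centralizer_singleton_iff, ← map_mul, ← map_mul]
      exact congrArg f (mem_centralizer_singleton_iff.1 hx)
    · obtain ⟨x, rfl⟩ := hC hy
      refine ⟨x, ?_, rfl⟩
      rw [SetLike.mem_coe, mem_centralizer_singleton_iff]
      rw [mem_centralizer_singleton_iff, ← map_mul, ← map_mul] at hy
      exact hf hy
  obtain rfl : Q = Q₀.map f := by rw [hQ, hQ₀, pCore_map_eq f hf _ _ hCmap]
  have hQC : Q₀ ≤ centralizer ({z} : Set G) := by rw [hQ₀]; exact map_subtype_le _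
  have hzQ : z ∈ Q₀ := by
    rw [hQ₀]
    refine ⟨⟨z, mem_centralizer_singleton_iff.2 rfl⟩, ?_, rfl⟩
    let zc : ↥(centralizer ({z} : Set G)) := ⟨z, mem_centralizer_singleton_iff.2 rfl⟩
    have hzc : zpowers zc ≤ center _ := zpowers_le.2 (mem_center_iff.2
      fun x => Subtype.ext (mem_centralizer_singleton_iff.1 x.2))
    have hn : (zpowers zc).Normal := ⟨fun a ha g => by
      rwa [mem_center_iff.1 (hzc ha) g, mul_inv_cancel_right]⟩
    haveI := hn
    exact Cfsg.Agent.Cores.le_pCore (N := zpowers zc)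
      (IsPGroup.of_card (n := 1) (by rw [Nat.card_zpowers, ← Subgroup.orderOf_coe, hz2, pow_one]))
      (mem_zpowers zc)
  have hctr : (center ↥Q₀).map Q₀.subtype = zpowers z := by
    symm
    refine eq_of_le_of_card_ge (zpowers_le.2 ⟨⟨z, hzQ⟩, mem_center_iff.2 fun g => Subtype.ext
      (mem_centralizer_singleton_iff.1 (hQC g.2)), rfl⟩) ?_
    rw [Nat.card_zpowers, hz2, card_map_of_injective Q₀.subtype_injective, hext.2]
  have hC0 := Ctr.of_large hlarge hctr hz2
  have hext' : Cfsg.IsExtraspecial 2 ↥(Q₀.map f) :=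
    isExtraspecial_of_equiv hext (Q₀.equivMapOfInjective f hf)
  refine ⟨rfl, ⟨hext', (orderOf_injective f hf z).trans hz2, ?_, ?_, ?_⟩, hext', ?_,
    ⟨E.map f, map_mono hEQ, ⟨?_, ?_⟩, ?_⟩, K.map f, ?_, ?_, ?_, ?_⟩
  · symm
    refine eq_of_le_of_card_ge (zpowers_le.2 ⟨⟨f z, ⟨z, hzQ, rfl⟩⟩, mem_center_iff.2 ?_, rfl⟩) ?_
    · rintro ⟨_, x, hx, rfl⟩
      exact Subtype.ext (show f x * f z = f z * f x by
        rw [← map_mul, ← map_mul, mem_centralizer_singleton_iff.1 (hQC hx)])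
    · rw [Nat.card_zpowers, orderOf_injective f hf z, hz2,
        card_map_of_injective (Q₀.map f).subtype_injective, hext'.2]
  · refine le_antisymm ?_ ?_
    · intro y hy
      obtain ⟨x, rfl⟩ := hC (mem_centralizer_singleton_iff.2
        (mem_centralizer_iff.1 hy (f z) ⟨z, hzQ, rfl⟩).symm)
      have hx : x ∈ centralizer (Q₀ : Set G) := mem_centralizer_iff.2 fun q hq => hf (by
        rw [map_mul, map_mul]; exact mem_centralizer_iff.1 hy _ ⟨q, hq, rfl⟩)
      rw [hC0.cent] at hx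
      rw [← MonoidHom.map_zpowers]
      exact ⟨x, hx, rfl⟩
    · rw [zpowers_le, mem_centralizer_iff]
      rintro _ ⟨q, hq, rfl⟩
      rw [← map_mul, ← map_mul, mem_centralizer_singleton_iff.1 (hQC hq)]
  · rw [← hCmap]
    exact (map_mono hC0.norm).trans (le_normalizer_map _)
  · rw [card_map_of_injective hf, hcard]
  · haveI := hE.1
    refine ⟨⟨?_⟩⟩
    rintro ⟨_, a, ha, rfl⟩ ⟨_, b, hb, rfl⟩
    exact Subtype.ext (show f a * f b = f b * f a by
      rw [← map_mul, ← map_mul]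
      exact congrArg f (congrArg Subtype.val (mul_comm' (⟨a, ha⟩ : ↥E) ⟨b, hb⟩)))
  · rintro _ ⟨a, ha, rfl⟩
    rw [← map_pow, hE.2 a ha, map_one]
  · rw [card_map_of_injective hf, hEcard]
  · rw [← hCmap]; exact map_mono hKC
  · rw [← map_inf _ _ f hf, hQK, Subgroup.map_bot]
  · rw [← Subgroup.map_sup, hQK', hCmap]
  · exact ⟨(K.equivMapOfInjective f hf).symm.trans eK⟩

end Cfsg.Agent.LargeExtra.AffineSL
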