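import Cfsg.Agent.Lib.LargeExtra.Quotient

/-!
Centre and central series of `R = C_{Q'}(z) C_Q(a)`.
-/

set_option autoImplicit false

namespace Cfsg.Agent.LargeExtra

open Subgroup
open scoped commutatorElement

variable {G : Type*} [Group G]

theorem comm_sup_mem {A B N : Subgroup G} (S : Set G) (hA : A ≤ normalizer (N : Set G))
    (hB : B ≤ normalizer (N : Set G)) (h1 : ∀ x ∈ A, ∀ c ∈ S, x * c * x⁻¹ * c⁻¹ ∈ N)
    (h2 : ∀ x ∈ B, ∀ c ∈ S, x * c * x⁻¹ * c⁻¹ ∈ N) :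
    ∀ x ∈ A ⊔ B, ∀ c ∈ S, x * c * x⁻¹ * c⁻¹ ∈ N := by
  let T : Subgroup G :=
    { carrier := {x | x ∈ normalizer (N : Set G) ∧ ∀ c ∈ S, x * c * x⁻¹ * c⁻¹ ∈ N}
      one_mem' := ⟨one_mem _, fun c _ => by simp⟩
      mul_mem' := by
        rintro x y ⟨hx, hx'⟩ ⟨hy, hy'⟩
        refine ⟨mul_mem hx hy, fun c hc => ?_⟩
        have : x * y * c * (x * y)⁻¹ * c⁻¹ = (x * (y * c * y⁻¹ * c⁻¹) * x⁻¹) * (x * c * x⁻¹ * c⁻¹) := by
          group
        rw [this]
        exact mul_mem ((mem_normalizer_iff.1 hx _).1 (hy' c hc)) (hx' c hc)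
      inv_mem' := by
        rintro x ⟨hx, hx'⟩
        refine ⟨inv_mem hx, fun c hc => ?_⟩
        have : x⁻¹ * c * x⁻¹⁻¹ * c⁻¹ = x⁻¹ * (x * c * x⁻¹ * c⁻¹)⁻¹ * x⁻¹⁻¹ := by group
        rw [this]
        exact (mem_normalizer_iff.1 (inv_mem hx) _).1 (inv_mem (hx' c hc)) }
  have hle : A ⊔ B ≤ T := sup_le (fun x hx => ⟨hA hx, h1 x hx⟩) (fun x hx => ⟨hB hx, h2 x hx⟩)
  exact fun x hx => (hle hx).2

namespace Pair₂

variable [Finite G] {Q Q' : Subgroup G} {z a : G} (P : Pair₂ Q Q' z a)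
include P

theorem comm_sup_cV : ∀ x ∈ Q ⊔ Q', ∀ c ∈ centralizer ({z, a} : Set G),
    x * c * x⁻¹ * c⁻¹ ∈ core Q Q' z a := by
  refine comm_sup_mem _ P.Q_le_normalizer (core_comm Q Q' z a ▸ P.symm.Q_le_normalizer)
    (fun x hx c hc => P.cQ_le_core (P.comm_mem_cQ hx hc)) (fun x hx c hc => ?_)
  rw [SetLike.mem_coe] at hc
  rw [Set.pair_comm] at hc
  exact P.cQ'_le_core (P.symm.comm_mem_cQ hx hc)

theorem comm_sup_inf : ⁅Q ⊔ Q', Q ⊓ Q'⁆ ≤ Subgroup.closure ({z, a} : Set G) := by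
  rw [commutator_le]
  intro x hx e he
  rw [commutatorElement_def]
  refine comm_sup_mem (Q ⊓ Q' : Subgroup G) (le_sup_left.trans P.sup_le_normalizer_V)
    (le_sup_right.trans P.sup_le_normalizer_V) ?_ ?_ x hx e he
  · intro u hu c hc
    rcases P.p.h.comm_cases hu hc.1 with h | h <;> rw [commutatorElement_def] at h <;> rw [h]
    · exact one_mem _
    · exact subset_closure (by simp)
  · intro u hu c hc
    rcases P.p.h'.comm_cases hu hc.2 with h | h <;> rw [commutatorElement_def] at h <;> rw [h]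
    · exact one_mem _
    · exact subset_closure (by simp)

theorem closure_le_core : Subgroup.closure ({z, a} : Set G) ≤ core Q Q' z a := by
  rw [closure_le]
  rintro w (rfl | rfl)
  · exact P.cQ_le_core ⟨P.p.h.z_mem, mem_centralizer_singleton_iff.2 P.p.az.symm⟩
  · exact P.cQ'_le_core ⟨P.p.h'.z_mem, mem_centralizer_singleton_iff.2 P.p.az⟩

theorem center_core : (center ↥(core Q Q' z a)).map (core Q Q' z a).subtype =
    Subgroup.closure ({z, a} : Set G) := by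
  apply le_antisymm
  · rintro _ ⟨⟨x, hx⟩, hxc, rfl⟩
    show x ∈ Subgroup.closure ({z, a} : Set G)
    obtain ⟨hxz, hxa⟩ := P.cV_iff.1 (P.core_le_cV hx)
    have hC : ∀ u ∈ Q ⊓ centralizer ({a} : Set G), u * x = x * u := fun u hu =>
      congrArg Subtype.val (mem_center_iff.1 hxc ⟨u, P.cQ_le_core hu⟩)
    obtain ⟨q, hq, hqa⟩ := P.p.exists_swap
    have hqn : q * a ≠ a * q := fun e => P.p.za_ne_a (by rw [← hqa, e, mul_inv_cancel_right])
    -- the element moved from q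
    obtain ⟨t, htdef⟩ : ∃ t, t = x * q * x⁻¹ * q⁻¹ := ⟨_, rfl⟩
    have htQ : t ∈ Q := htdef ▸ Q.mul_mem (P.p.h.conj_mem hxz hq) (Q.inv_mem hq)
    have hqC : ∀ u ∈ Q ⊓ centralizer ({a} : Set G), q⁻¹ * u * q ∈ Q ⊓ centralizer ({a} : Set G) := by
      intro u hu
      refine ⟨Q.mul_mem (Q.mul_mem (Q.inv_mem hq) hu.1) hq, mem_centralizer_singleton_iff.2 ?_⟩
      have hu' := mem_centralizer_singleton_iff.1 hu.2
      have huza : u * (z * a) = (z * a) * u := by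
        rw [← mul_assoc, P.p.h.comm hu.1, mul_assoc, hu', mul_assoc]
      rw [mul_inv_eq_iff_eq_mul] at hqa
      calc q⁻¹ * u * q * a = q⁻¹ * u * (q * a) := by simp [mul_assoc]
        _ = q⁻¹ * (u * (z * a)) * q := by rw [hqa]; simp [mul_assoc]
        _ = q⁻¹ * ((z * a) * q) * (q⁻¹ * u * q) := by rw [huza]; group
        _ = _ := by rw [← hqa]; group
    have htC : ∀ u ∈ Q ⊓ centralizer ({a} : Set G), u * t = t * u := by
      intro u hu
      have h1 := hC u hu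
      have h2 := hC _ (hqC u hu)
      have h3 : x * (q⁻¹ * u * q) * x⁻¹ = q⁻¹ * u * q := by rw [← h2, mul_inv_cancel_right]
      have h4 : x⁻¹ * u * x = u := by rw [mul_assoc, h1, inv_mul_cancel_left]
      have key : t * u * t⁻¹ = u := by
        calc t * u * t⁻¹ = x * q * x⁻¹ * (q⁻¹ * u * q) * x * q⁻¹ * x⁻¹ := by rw [htdef]; group
          _ = x * q * x⁻¹ * (x * (q⁻¹ * u * q) * x⁻¹) * x * q⁻¹ * x⁻¹ := by rw [h3]
          _ = x * u * x⁻¹ := by group
          _ = u := by rw [← h1, mul_inv_cancel_right]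
      exact (mul_inv_eq_iff_eq_mul.1 key).symm
    have fin : ∀ y : G, y * z = z * y → (∀ u ∈ Q ⊓ centralizer ({a} : Set G), u * y = y * u) →
        q * y = y * q → y = 1 ∨ y = z := by
      intro y _ hyC hyq
      refine P.p.h.mem_zpowers_cases (P.p.h.cent ▸ mem_centralizer_iff.2 ?_)
      intro u hu
      by_cases hua : u * a = a * u
      · exact hyC u ⟨hu, mem_centralizer_singleton_iff.2 hua⟩
      · have h1 := hyC _ (P.p.mul_mem_centralizer hq hu hqn hua)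
        calc u * y = q * ((q⁻¹ * u) * y) := by simp [mul_assoc]
          _ = _ := by rw [h1, ← mul_assoc, hyq]; simp [mul_assoc]
    have hzV : z ∈ Subgroup.closure ({z, a} : Set G) := subset_closure (by simp)
    have haV : a ∈ Subgroup.closure ({z, a} : Set G) := subset_closure (by simp)
    have hsq : t * q * (t * q) = q * q := by
      have e : t * q = x * q * x⁻¹ := by rw [htdef, inv_mul_cancel_right]
      rw [e]
      rcases P.p.h.sq_cases hq with h | h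
      · calc x * q * x⁻¹ * (x * q * x⁻¹) = x * (q * q) * x⁻¹ := by group
          _ = _ := by rw [h]; simp
      · calc x * q * x⁻¹ * (x * q * x⁻¹) = x * (q * q) * x⁻¹ := by group
          _ = _ := by rw [h, hxz, mul_inv_cancel_right]
    rcases P.p.commutes_cases htQ htC with e | e | e | e
    · rw [htdef, mul_inv_eq_one, mul_inv_eq_iff_eq_mul] at e
      rcases fin x hxz hC e.symm with rfl | rfl
      · exact one_mem _
      · exact hzV
    · rw [htdef, mul_inv_eq_iff_eq_mul, mul_inv_eq_iff_eq_mul] at e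
      have hxaC : ∀ u ∈ Q ⊓ centralizer ({a} : Set G), u * (x * a) = (x * a) * u := fun u hu => by
        rw [← mul_assoc, hC u hu, mul_assoc, mem_centralizer_singleton_iff.1 hu.2, mul_assoc]
      have hq' : q * (x * a) = (x * a) * q := by
        have hqa2 : q * a = z * a * q := mul_inv_eq_iff_eq_mul.1 hqa
        have haq : a * q = z * (q * a) := by
          rw [hqa2, ← mul_assoc, ← mul_assoc, P.p.h.zz, one_mul]
        calc q * (x * a) = q * x * a := (mul_assoc _ _ _).symm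
          _ = (z * (z * q * x)) * a := by simp only [← mul_assoc]; rw [P.p.h.zz, one_mul]
          _ = z * (x * q) * a := by rw [e]
          _ = x * (z * (q * a)) := by simp only [← mul_assoc]; rw [hxz]
          _ = _ := by rw [← haq, mul_assoc]
      rcases fin (x * a) (by rw [mul_assoc, P.p.az, ← mul_assoc, hxz, mul_assoc]) hxaC hq' with e' | e'
      · rw [eq_inv_of_mul_eq_one_left e', P.p.h'.inv_self]; exact haV
      · rw [show x = z * a by rw [← e', mul_assoc, P.p.h'.zz, mul_one]]; exact mul_mem hzV haV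
    · exfalso
      rw [e] at hsq
      have : a * q * a = q := mul_right_cancel (b := q) (by simpa [mul_assoc] using hsq)
      exact hqn (by
        calc q * a = a * q * a * a := by rw [this]
          _ = _ := by rw [mul_assoc, P.p.h'.zz, mul_one])
    · exfalso
      rw [e] at hsq
      have h5 : z * a * q * (z * a) = q := mul_right_cancel (b := q) (by simpa [mul_assoc] using hsq)
      apply hqn
      have h6 : (z * a) * (z * a) = 1 := by
        rw [mul_assoc, ← mul_assoc a z, P.p.az, mul_assoc, P.p.h'.zz, mul_one, P.p.h.zz]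
      have hqa2 : q * a = z * a * q := mul_inv_eq_iff_eq_mul.1 hqa
      have h7 : q * (z * a) = z * a * q := by
        calc q * (z * a) = z * a * q * (z * a) * (z * a) := by rw [h5]
          _ = _ := by rw [mul_assoc, h6, mul_one]
      rw [← mul_assoc, P.p.h.comm hq, mul_assoc, mul_assoc] at h7
      exact mul_left_cancel h7
  · intro x hx
    refine ⟨⟨x, P.closure_le_core hx⟩, mem_center_iff.2 fun r => Subtype.ext ?_, rfl⟩
    have := P.core_le_cV r.2
    rw [← centralizer_closure] at this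
    exact (mem_centralizer_iff.1 this x hx).symm

theorem inf_eq : (Q' ⊓ centralizer ({z} : Set G)) ⊓ (Q ⊓ centralizer ({a} : Set G)) = Q ⊓ Q' := by
  ext x
  constructor
  · rintro ⟨⟨h1, -⟩, h2, -⟩
    exact ⟨h2, h1⟩
  · rintro ⟨h2, h1⟩
    exact ⟨⟨h1, mem_centralizer_singleton_iff.2 (P.p.h.comm h2)⟩, h2,
      mem_centralizer_singleton_iff.2 (P.p.h'.comm h1)⟩

theorem isElementaryAbelian_inf : Cfsg.IsElementaryAbelian 2 (Q ⊓ Q') := by
  refine ⟨⟨⟨fun x y => Subtype.ext ?_⟩⟩, fun x hx => ?_⟩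
  · show (x : G) * y = y * x
    rw [← commutatorElement_eq_one_iff_mul_comm]
    rcases P.p.h.comm_cases x.2.1 y.2.1 with e | e
    · exact e
    · rcases P.p.h'.comm_cases x.2.2 y.2.2 with e' | e'
      · exact e'
      · exact absurd (e'.symm.trans e) P.p.ne
  · rw [pow_two]
    rcases P.p.h.sq_cases hx.1 with e | e
    · exact e
    · rcases P.p.h'.sq_cases hx.2 with e' | e'
      · exact e'
      · exact absurd (e'.symm.trans e) P.p.ne

/-- Commutators and squares of `R` lie in `E`. -/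
theorem comm_sq_mem : ∀ x ∈ core Q Q' z a, ∀ y ∈ core Q Q' z a,
    x * y * x⁻¹ * y⁻¹ ∈ Q ⊓ Q' ∧ x ^ 2 ∈ Q ⊓ Q' := by
  have hzE : z ∈ Q ⊓ Q' := ⟨P.p.h.z_mem, P.p'.mem⟩
  have haE : a ∈ Q ⊓ Q' := ⟨P.p.mem, P.p.h'.z_mem⟩
  have hnE : core Q Q' z a ≤ normalizer ((Q ⊓ Q' : Subgroup G) : Set G) := by
    rw [le_normalizer_iff]
    intro c hc e he
    obtain ⟨hcz, hca⟩ := P.cV_iff.1 (P.core_le_cV hc)
    exact ⟨P.p.h.conj_mem hcz he.1, P.p.h'.conj_mem hca he.2⟩
  let N := normalizer ((Q ⊓ Q' : Subgroup G) : Set G)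
  let π : ↥N →* ↥N ⧸ (Q ⊓ Q').subgroupOf N := QuotientGroup.mk' _
  have hπ : ∀ x : ↥N, π x = 1 ↔ (x : G) ∈ Q ⊓ Q' := fun x => by
    show (x : ↥N ⧸ (Q ⊓ Q').subgroupOf N) = 1 ↔ _
    rw [QuotientGroup.eq_one_iff, mem_subgroupOf]
  have hCN : Q ⊓ centralizer ({a} : Set G) ≤ N := P.cQ_le_core.trans hnE
  have hC'N : Q' ⊓ centralizer ({z} : Set G) ≤ N := P.cQ'_le_core.trans hnE
  have hcomm : ∀ x y : ↥N, ((x : G) * y * (x : G)⁻¹ * (y : G)⁻¹ ∈ Q ⊓ Q') → Commute (π x) (π y) := by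
    intro x y h
    have h1 : π (x * y * x⁻¹ * y⁻¹) = 1 := (hπ _).2 h
    rw [map_mul, map_mul, map_mul, map_inv, map_inv, mul_inv_eq_one, mul_inv_eq_iff_eq_mul] at h1
    exact h1
  have c11 : ∀ x ∈ Q, ∀ y ∈ Q, x * y * x⁻¹ * y⁻¹ ∈ Q ⊓ Q' := fun x hx y hy => by
    rcases P.p.h.comm_cases hx hy with e | e <;> rw [commutatorElement_def] at e <;> rw [e]
    · exact one_mem _
    · exact hzE
  have c22 : ∀ x ∈ Q', ∀ y ∈ Q', x * y * x⁻¹ * y⁻¹ ∈ Q ⊓ Q' := fun x hx y hy => by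
    rcases P.p.h'.comm_cases hx hy with e | e <;> rw [commutatorElement_def] at e <;> rw [e]
    · exact one_mem _
    · exact haE
  have c12 : ∀ x ∈ Q ⊓ centralizer ({a} : Set G), ∀ y ∈ Q' ⊓ centralizer ({z} : Set G),
      x * y * x⁻¹ * y⁻¹ ∈ Q ⊓ Q' := by
    intro x hx y hy
    refine ⟨(P.comm_mem_cQ hx.1 (P.cQ'_le_cV hy)).1, ?_⟩
    exact Q'.mul_mem (P.p.h'.conj_mem (mem_centralizer_singleton_iff.1 hx.2) hy.1) (Q'.inv_mem hy.1)
  intro x hx y hy
  obtain ⟨c, hc, c', hc', rfl⟩ := P.mem_core_iff.1 hx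
  obtain ⟨d, hd, d', hd', rfl⟩ := P.mem_core_iff.1 hy
  have k11 : Commute (π ⟨c, hCN hc⟩) (π ⟨d, hCN hd⟩) := hcomm _ _ (c11 c hc.1 d hd.1)
  have k12 : Commute (π ⟨c, hCN hc⟩) (π ⟨d', hC'N hd'⟩) := hcomm _ _ (c12 c hc d' hd')
  have k21 : Commute (π ⟨c', hC'N hc'⟩) (π ⟨d, hCN hd⟩) := (hcomm _ _ (c12 d hd c' hc')).symm
  have k22 : Commute (π ⟨c', hC'N hc'⟩) (π ⟨d', hC'N hd'⟩) := hcomm _ _ (c22 c' hc'.1 d' hd'.1)
  have kcc : Commute (π ⟨c, hCN hc⟩) (π ⟨c', hC'N hc'⟩) := hcomm _ _ (c12 c hc c' hc')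
  constructor
  · refine (hπ ((⟨c, hCN hc⟩ * ⟨c', hC'N hc'⟩) * (⟨d, hCN hd⟩ * ⟨d', hC'N hd'⟩) *
      (⟨c, hCN hc⟩ * ⟨c', hC'N hc'⟩)⁻¹ * (⟨d, hCN hd⟩ * ⟨d', hC'N hd'⟩)⁻¹)).1 ?_
    rw [map_mul _ _ (_⁻¹), map_mul _ _ (_⁻¹), map_inv, map_inv, map_mul _ (_ * _) (_ * _),
      mul_inv_eq_one, mul_inv_eq_iff_eq_mul, map_mul, map_mul]
    exact ((k11.mul_right k12).mul_left (k21.mul_right k22)).eq
  · refine (hπ ((⟨c, hCN hc⟩ * ⟨c', hC'N hc'⟩) ^ 2)).1 ?_
    rw [map_pow, map_mul, kcc.mul_pow, ← map_pow, ← map_pow]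
    have h1 : π (⟨c, hCN hc⟩ ^ 2) = 1 := (hπ _).2 (by
      rw [SubgroupClass.coe_pow, pow_two]
      rcases P.p.h.sq_cases hc.1 with e | e <;> rw [e]
      · exact one_mem _
      · exact hzE)
    have h2 : π (⟨c', hC'N hc'⟩ ^ 2) = 1 := (hπ _).2 (by
      rw [SubgroupClass.coe_pow, pow_two]
      rcases P.p.h'.sq_cases hc'.1 with e | e <;> rw [e]
      · exact one_mem _
      · exact haE)
    rw [h1, h2, one_mul]

end Pair₂

end Cfsg.Agent.LargeExtra
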