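import Cfsg.Prelude.Def_Classical
import Cfsg.Prelude.Def_KGroupFacts
import Cfsg.Agent.Lib.LargeExtra.Affine
import Cfsg.Agent.Lib.Transfer.Special
import Cfsg.Agent.GenA.ExtraspecialTwo

/-!
The extraspecial 2-group of a non-degenerate quadratic form over the field with two elements, given
by a bilinear cocycle, and its outer automorphism group.
-/

set_option autoImplicit false

namespace Cfsg.Agent.LargeExtra.ExtForm

open Matrix AffineLinear

variable {ι : Type} [Fintype ι] [DecidableEq ι]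

/-- The central extension by the cocycle of a matrix. -/
@[ext] structure Ext (B : Matrix ι ι (ZMod 2)) : Type where
  a : ZMod 2
  v : ι → ZMod 2

variable {B : Matrix ι ι (ZMod 2)}

/-- The cocycle. -/
def β (B : Matrix ι ι (ZMod 2)) (v w : ι → ZMod 2) : ZMod 2 := v ⬝ᵥ B *ᵥ w

theorem β_add_left (u v w : ι → ZMod 2) : β B (u + v) w = β B u w + β B v w := add_dotProduct _ _ _

theorem β_add_right (u v w : ι → ZMod 2) : β B u (v + w) = β B u v + β B u w := by
  rw [β, mulVec_add, dotProduct_add]; rfl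

theorem β_zero_left (w : ι → ZMod 2) : β B 0 w = 0 := zero_dotProduct _

theorem β_zero_right (w : ι → ZMod 2) : β B w 0 = 0 := by rw [β, mulVec_zero, dotProduct_zero]

instance : Group (Ext B) where
  mul x y := ⟨x.a + y.a + β B x.v y.v, x.v + y.v⟩
  one := ⟨0, 0⟩
  inv x := ⟨x.a + β B x.v x.v, x.v⟩
  mul_assoc x y z := by
    refine Ext.ext ?_ (add_assoc x.v y.v z.v)
    show x.a + y.a + β B x.v y.v + z.a + β B (x.v + y.v) z.v =
      x.a + (y.a + z.a + β B y.v z.v) + β B x.v (y.v + z.v)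
    rw [β_add_left, β_add_right]; ring
  one_mul x := by
    refine Ext.ext ?_ (zero_add x.v)
    show 0 + x.a + β B 0 x.v = x.a
    rw [β_zero_left, zero_add, add_zero]
  mul_one x := by
    refine Ext.ext ?_ (add_zero x.v)
    show x.a + 0 + β B x.v 0 = x.a
    rw [β_zero_right, add_zero, add_zero]
  inv_mul_cancel x := by
    refine Ext.ext ?_ (AffineLinear.add_self x.v)
    show x.a + β B x.v x.v + x.a + β B x.v x.v = 0
    rw [add_assoc, AffineLinear.add_self]

theorem mul_a (x y : Ext B) : (x * y).a = x.a + y.a + β B x.v y.v := rfl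

theorem mul_v (x y : Ext B) : (x * y).v = x.v + y.v := rfl

theorem one_v : (1 : Ext B).v = 0 := rfl

theorem one_a : (1 : Ext B).a = 0 := rfl

instance : Finite (Ext B) :=
  Finite.of_injective (fun x : Ext B => (x.a, x.v)) fun x y h =>
    Ext.ext (congrArg Prod.fst h) (congrArg Prod.snd h)

theorem card_ext (B : Matrix ι ι (ZMod 2)) : Nat.card (Ext B) = 2 ^ (Fintype.card ι + 1) := by
  rw [Nat.card_congr (⟨fun x => (x.a, x.v), fun p => ⟨p.1, p.2⟩, fun _ => rfl, fun _ => rfl⟩ :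
    Ext B ≃ ZMod 2 × (ι → ZMod 2))]
  rw [Nat.card_prod, Nat.card_fun, Nat.card_zmod, Nat.card_eq_fintype_card, pow_succ']

/-- Non-degeneracy of the polar form. -/
def Nondeg (B : Matrix ι ι (ZMod 2)) : Prop := ∀ v, v ≠ 0 → ∃ w, β B v w ≠ β B w v

/-- The central involution. -/
def zz (B : Matrix ι ι (ZMod 2)) : Ext B := ⟨1, 0⟩

theorem eq_or_eq_of_v {x : Ext B} (h : x.v = 0) : x = 1 ∨ x = zz B := by
  rcases zmod_two_cases x.a with e | e
  · left; exact Ext.ext e h
  · right; exact Ext.ext e h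

theorem zz_comm (x : Ext B) : x * zz B = zz B * x := by
  refine Ext.ext ?_ (add_comm x.v 0)
  show x.a + 1 + β B x.v 0 = 1 + x.a + β B 0 x.v
  rw [β_zero_left, β_zero_right, add_comm x.a]

theorem zz_ne : zz B ≠ 1 := fun h => one_ne_zero (congrArg Ext.a h)

theorem center_cases (hB : Nondeg B) {x : Ext B} (hx : ∀ y, y * x = x * y) : x = 1 ∨ x = zz B := by
  refine eq_or_eq_of_v (Classical.byContradiction fun hne => ?_)
  obtain ⟨w, hw⟩ := hB x.v hne
  have h := congrArg Ext.a (hx ⟨0, w⟩)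
  simp only [mul_a, zero_add, add_zero] at h
  exact hw (add_left_cancel h).symm

theorem isExtraspecial (hB : Nondeg B) [Nonempty ι] : Cfsg.IsExtraspecial 2 (Ext B) := by
  refine isExtraspecial_of_equiv ?_ (Subgroup.topEquiv : ↥(⊤ : Subgroup (Ext B)) ≃* Ext B)
  refine Affine.isExtraspecial_mk (z := zz B) ?_ (Subgroup.mem_top _) zz_ne (fun x _ => zz_comm x) ?_
    (fun x _ hx => center_cases hB fun y => hx y (Subgroup.mem_top y)) ?_
  · exact IsPGroup.of_card (n := Fintype.card ι + 1) (by rw [Subgroup.card_top, card_ext])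
  · exact fun x _ => eq_or_eq_of_v (by rw [mul_v, AffineLinear.add_self])
  · obtain ⟨i⟩ := ‹Nonempty ι›
    obtain ⟨w, hw⟩ := hB (Pi.single i 1) (fun h => (one_ne_zero : (1 : ZMod 2) ≠ 0) (by simpa using congrFun h i))
    refine ⟨⟨0, Pi.single i 1⟩, Subgroup.mem_top _, ⟨0, w⟩, Subgroup.mem_top _, fun h => hw ?_⟩
    have := congrArg Ext.a h
    simp only [mul_a, zero_add] at this
    exact this.symm

theorem mem_center_iff' (hB : Nondeg B) {x : Ext B} : x ∈ Subgroup.center (Ext B) ↔ x.v = 0 := by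
  rw [Subgroup.mem_center_iff]
  constructor
  · intro h
    rcases center_cases hB h with rfl | rfl <;> rfl
  · intro h y
    rcases eq_or_eq_of_v h with rfl | rfl
    · rw [mul_one, one_mul]
    · exact zz_comm y

/-- The map induced on the quotient by the centre. -/
def ind (φ : MulAut (Ext B)) (v : ι → ZMod 2) : ι → ZMod 2 := (φ ⟨0, v⟩).v

theorem φ_zz (hB : Nondeg B) (φ : MulAut (Ext B)) : φ (zz B) = zz B := by
  rcases center_cases hB (x := φ (zz B)) (fun y => φ.symm.injective (by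
      rw [map_mul, map_mul, MulEquiv.symm_apply_apply]; exact zz_comm _)) with h | h
  · exact absurd (φ.injective (h.trans (map_one φ).symm)) zz_ne
  · exact h

theorem v_apply (hB : Nondeg B) (φ : MulAut (Ext B)) (x : Ext B) : (φ x).v = ind φ x.v := by
  rcases zmod_two_cases x.a with h | h
  · exact congrArg (fun y => (φ y).v) (Ext.ext h rfl : x = ⟨0, x.v⟩)
  · have e : x = zz B * ⟨0, x.v⟩ := Ext.ext (by
      rw [mul_a]; show x.a = 1 + 0 + β B 0 x.v; rw [β_zero_left, h, add_zero, add_zero])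
      (zero_add x.v).symm
    conv_lhs => rw [e, map_mul, φ_zz hB, mul_v]
    exact zero_add _

theorem ind_add (hB : Nondeg B) (φ : MulAut (Ext B)) (v w : ι → ZMod 2) :
    ind φ (v + w) = ind φ v + ind φ w := by
  show ind φ ((⟨0, v⟩ * ⟨0, w⟩ : Ext B)).v = _
  rw [← v_apply hB, map_mul, mul_v]
  rfl

theorem ind_mul (hB : Nondeg B) (φ ψ : MulAut (Ext B)) (v : ι → ZMod 2) :
    ind (φ * ψ) v = ind φ (ind ψ v) := v_apply hB φ _

theorem ind_one (v : ι → ZMod 2) : ind (1 : MulAut (Ext B)) v = v := rfl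

theorem ind_q (hB : Nondeg B) (φ : MulAut (Ext B)) (v : ι → ZMod 2) :
    β B (ind φ v) (ind φ v) = β B v v := by
  have hsq : ∀ x : Ext B, x * x = ⟨β B x.v x.v, 0⟩ := fun x => Ext.ext
    (by rw [mul_a, AffineLinear.add_self, zero_add]) (by rw [mul_v, AffineLinear.add_self])
  have h : φ (⟨0, v⟩ * ⟨0, v⟩) = φ ⟨0, v⟩ * φ ⟨0, v⟩ := map_mul φ _ _
  rw [hsq, hsq] at h
  have hfix : φ ⟨β B v v, 0⟩ = ⟨β B v v, 0⟩ := by
    rcases zmod_two_cases (β B v v) with e | e <;> rw [e]
    · exact map_one φ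
    · exact φ_zz hB φ
  have h2 := congrArg Ext.a (hfix.symm.trans h)
  exact h2.symm

/-- The induced linear map as an element of the general linear group. -/
noncomputable def toGL (hB : Nondeg B) : MulAut (Ext B) →* GL ι (ZMod 2) :=
  MonoidHom.toHomUnits
    { toFun := fun φ => LinearMap.toMatrix'
        ((AddMonoidHom.mk' (ind φ) (ind_add hB φ)).toZModLinearMap 2)
      map_one' := by
        rw [← LinearMap.toMatrix'_id]
        congr 1
      map_mul' := fun φ ψ => by
        rw [← LinearMap.toMatrix'_comp]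
        congr 1
        exact LinearMap.ext fun v => ind_mul hB φ ψ v }

theorem toGL_mulVec (hB : Nondeg B) (φ : MulAut (Ext B)) (v : ι → ZMod 2) :
    ((toGL hB φ : GL ι (ZMod 2)) : Matrix ι ι (ZMod 2)) *ᵥ v = ind φ v :=
  LinearMap.toMatrix'_mulVec _ v

theorem exists_quadratic (G : Matrix ι ι (ZMod 2)) (hd : ∀ i, G i i = 0) (hs : ∀ i j, G i j = G j i) :
    ∃ D : Matrix ι ι (ZMod 2), D + Dᵀ = G := by
  refine ⟨Matrix.of fun i j => if (Fintype.equivFin ι i) < (Fintype.equivFin ι j) then G i j else 0, ?_⟩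
  ext i j
  simp only [Matrix.add_apply, Matrix.transpose_apply, Matrix.of_apply]
  rcases lt_trichotomy (Fintype.equivFin ι i) (Fintype.equivFin ι j) with h | h | h
  · rw [if_pos h, if_neg h.asymm, add_zero]
  · obtain rfl := (Fintype.equivFin ι).injective h
    rw [if_neg (lt_irrefl _), add_zero, hd]
  · rw [if_neg h.asymm, if_pos h, zero_add, hs]

/-- Every isometry of the square map lifts to an automorphism. -/
theorem exists_lift (hB : Nondeg B) (g : GL ι (ZMod 2))
    (hg : ∀ v, β B ((g : Matrix ι ι (ZMod 2)) *ᵥ v) ((g : Matrix ι ι (ZMod 2)) *ᵥ v) = β B v v) :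
    ∃ φ : MulAut (Ext B), toGL hB φ = g := by
  set M : Matrix ι ι (ZMod 2) := (g : Matrix ι ι (ZMod 2))
  set G := Mᵀ * B * M + B with hG
  have hγ : ∀ v w, v ⬝ᵥ G *ᵥ w = β B (M *ᵥ v) (M *ᵥ w) + β B v w := fun v w => by
    rw [hG, add_mulVec, dotProduct_add, ← mulVec_mulVec, ← mulVec_mulVec, dotProduct_mulVec v Mᵀ,
      vecMul_transpose]
    rfl
  have halt : ∀ v, v ⬝ᵥ G *ᵥ v = 0 := fun v => by rw [hγ, hg, AffineLinear.add_self]
  have hentry : ∀ i j, G i j = Pi.single i 1 ⬝ᵥ G *ᵥ Pi.single j 1 := fun i j => by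
    rw [mulVec_single_one, single_one_dotProduct]; rfl
  have hd : ∀ i, G i i = 0 := fun i => by rw [hentry, halt]
  have hsymm : ∀ i j, G i j = G j i := fun i j => by
    have h := halt (Pi.single i 1 + Pi.single j 1)
    rw [mulVec_add, dotProduct_add, add_dotProduct, add_dotProduct, ← hentry, ← hentry, ← hentry,
      ← hentry, hd, hd, zero_add, add_zero] at h
    rw [add_comm] at h
    exact (eq_neg_of_add_eq_zero_left h).trans (by rw [ZMod.neg_eq_self_mod_two])
  obtain ⟨D, hD⟩ := exists_quadratic G hd hsymm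
  have hf : ∀ v w, β D (v + w) (v + w) =
      β D v v + β D w w + (β B (M *ᵥ v) (M *ᵥ w) + β B v w) := fun v w => by
    rw [← hγ, ← hD, add_mulVec, dotProduct_add, β_add_left, β_add_right, β_add_right]
    have : v ⬝ᵥ Dᵀ *ᵥ w = β D w v := by
      rw [dotProduct_mulVec, vecMul_transpose, dotProduct_comm]; rfl
    rw [this]
    show β D v v + β D v w + (β D w v + β D w w) = β D v v + β D w w + (β D v w + β D w v)
    ring
  have hinv : ∀ v, M *ᵥ (((g⁻¹ : GL ι (ZMod 2)) : Matrix ι ι (ZMod 2)) *ᵥ v) = v := fun v => by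
    rw [mulVec_mulVec, show M * ((g⁻¹ : GL ι (ZMod 2)) : Matrix ι ι (ZMod 2)) = 1 from g.mul_inv, one_mulVec]
  have hinv' : ∀ v, ((g⁻¹ : GL ι (ZMod 2)) : Matrix ι ι (ZMod 2)) *ᵥ (M *ᵥ v) = v := fun v => by
    rw [mulVec_mulVec, show ((g⁻¹ : GL ι (ZMod 2)) : Matrix ι ι (ZMod 2)) * M = 1 from g.inv_mul, one_mulVec]
  let φ : MulAut (Ext B) :=
    { toFun := fun x => ⟨x.a + β D x.v x.v, M *ᵥ x.v⟩
      invFun := fun x => ⟨x.a + β D (((g⁻¹ : GL ι (ZMod 2)) : Matrix ι ι (ZMod 2)) *ᵥ x.v)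
        (((g⁻¹ : GL ι (ZMod 2)) : Matrix ι ι (ZMod 2)) *ᵥ x.v),
        ((g⁻¹ : GL ι (ZMod 2)) : Matrix ι ι (ZMod 2)) *ᵥ x.v⟩
      left_inv := fun x => by
        refine Ext.ext ?_ (hinv' x.v)
        show x.a + β D x.v x.v + β D _ _ = x.a
        rw [hinv', add_assoc, AffineLinear.add_self, add_zero]
      right_inv := fun x => by
        refine Ext.ext ?_ (hinv x.v)
        show x.a + β D _ _ + β D _ _ = x.a
        rw [add_assoc, AffineLinear.add_self, add_zero]
      map_mul' := fun x y => by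
        refine Ext.ext ?_ (mulVec_add M x.v y.v)
        show x.a + y.a + β B x.v y.v + β D (x.v + y.v) (x.v + y.v) =
          x.a + β D x.v x.v + (y.a + β D y.v y.v) + β B (M *ᵥ x.v) (M *ᵥ y.v)
        rw [hf]
        have h2 : β B x.v y.v + β B x.v y.v = 0 := AffineLinear.add_self _
        linear_combination h2 }
  refine ⟨φ, Units.ext (Matrix.toLin'.injective (LinearMap.ext fun v => ?_))⟩
  rw [toLin'_apply, toLin'_apply, toGL_mulVec]
  rfl

/-- The outer automorphism group is the isometry group of the square map. -/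
theorem out_equiv (hB : Nondeg B) [Nonempty ι] (q : (ι → ZMod 2) → ZMod 2) (hq : ∀ v, q v = β B v v) :
    Nonempty (Cfsg.Out (Ext B) ≃* Cfsg.isometryGroup (ZMod 2) q) := by
  have hmem : ∀ φ, toGL hB φ ∈ Cfsg.isometryGroup (ZMod 2) q := fun φ u v => by
    show q (((toGL hB φ : GL ι (ZMod 2)) : Matrix ι ι (ZMod 2)) *ᵥ u) = q u
    rw [toGL_mulVec, hq, hq, ind_q hB]
  let Ψ : MulAut (Ext B) →* Cfsg.isometryGroup (ZMod 2) q := (toGL hB).codRestrict _ hmem
  have hsurj : Function.Surjective Ψ := by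
    rintro ⟨g, hg⟩
    obtain ⟨φ, hφ⟩ := exists_lift hB g (fun v => by rw [← hq, ← hq]; exact hg v v)
    exact ⟨φ, Subtype.ext hφ⟩
  have hker : Ψ.ker = Cfsg.Inn (Ext B) := by
    refine le_antisymm (fun φ hφ => ?_) ?_
    · have hind : ∀ v, ind φ v = v := fun v => by
        rw [← toGL_mulVec hB, show toGL hB φ = 1 from congrArg Subtype.val (MonoidHom.mem_ker.1 hφ),
          Units.val_one, one_mulVec]
      haveI : Fact (Nat.Prime 2) := ⟨Nat.prime_two⟩
      obtain ⟨g, hg⟩ := Cfsg.Agent.Transfer.Special.exists_inner_of_trivial_mod_center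
        (isExtraspecial hB) φ (fun x => (mem_center_iff' hB).2 (by
          show (φ x).v + x.v = 0
          rw [v_apply hB, hind, AffineLinear.add_self]))
      exact ⟨g, MulEquiv.ext fun x => (hg x).symm⟩
    · rintro _ ⟨x, rfl⟩
      rw [MonoidHom.mem_ker]
      refine Subtype.ext (Units.ext (Matrix.toLin'.injective (LinearMap.ext fun v => ?_)))
      rw [toLin'_apply, toLin'_apply]
      show ((toGL hB (MulAut.conj x) : GL ι (ZMod 2)) : Matrix ι ι (ZMod 2)) *ᵥ v = (1 : Matrix ι ι (ZMod 2)) *ᵥ v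
      rw [toGL_mulVec, one_mulVec]
      show x.v + v + x.v = v
      rw [add_right_comm, AffineLinear.add_self, zero_add]
  exact ⟨(QuotientGroup.quotientMulEquivOfEq hker.symm).trans
    (QuotientGroup.quotientKerEquivOfSurjective Ψ hsurj)⟩

theorem out_congr {X Y : Type*} [Group X] [Group Y] (e : X ≃* Y) :
    Nonempty (Cfsg.Out X ≃* Cfsg.Out Y) := by
  refine ⟨QuotientGroup.congr _ _ (MulAut.congr e) ?_⟩
  ext φ
  constructor
  · rintro ⟨_, ⟨a, rfl⟩, rfl⟩
    exact ⟨e a, MulEquiv.ext fun b => by simp⟩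
  · rintro ⟨b, rfl⟩
    exact ⟨_, ⟨e.symm b, rfl⟩, MulEquiv.ext fun c => by simp⟩

end Cfsg.Agent.LargeExtra.ExtForm
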