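import Cfsg.Agent.Lib.LargeExtra.Pair
import Cfsg.Agent.Lib.Components.Fitting
import Cfsg.Agent.Lib.Leech.Mod2
import Cfsg.Agent.Lib.LeechAut.Shells

/-!
The orbits of the involution centralizer on the extraspecial group in the Monster-type setting:
they are governed by the classes of the Leech lattice modulo 2.
-/

set_option autoImplicit false
set_option linter.unusedSectionVars false

namespace Cfsg.Agent.MonsterOrbits

open Subgroup Cfsg.Agent.LargeExtra Cfsg.Agent.Leech.Classes Cfsg.Agent.Leech.Mod2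
open scoped commutatorElement

/-- The extraspecial group as a subgroup of the ambient group. -/
abbrev bigQ {G : Type*} [Group G] {z : G} (Q : Subgroup (Subgroup.centralizer ({z} : Set G))) :
    Subgroup G :=
  Q.map (Subgroup.centralizer ({z} : Set G)).subtype

variable {G : Type*} [Group G] [Finite G] {z : G}
  {Q : Subgroup (Subgroup.centralizer ({z} : Set G))} [Q.Normal]
  {e : (Subgroup.centralizer ({z} : Set G)) ⧸ Q ≃* Cfsg.Spor.Co1}
  {ψ : Cfsg.leechLattice → Q ⧸ Subgroup.center Q}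

theorem mem_bigQ {x : G} :
    x ∈ bigQ Q ↔ ∃ hx : x ∈ Subgroup.centralizer ({z} : Set G), (⟨x, hx⟩ : Subgroup.centralizer ({z} : Set G)) ∈ Q := by
  constructor
  · rintro ⟨y, hy, rfl⟩
    exact ⟨y.2, hy⟩
  · rintro ⟨hx, h⟩
    exact ⟨⟨x, hx⟩, h, rfl⟩

theorem card_bigQ : Nat.card (bigQ Q) = Nat.card Q :=
  Subgroup.card_map_of_injective (Subgroup.subtype_injective _)

theorem ctr_bigQ {w : ℕ} (hS : Cfsg.IsExtraspecialCentralizerSetting z Q w) : Ctr (bigQ Q) z := by
  obtain ⟨hz, hF, hE, -, -⟩ := hS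
  have hzC : z ∈ (Subgroup.centralizer ({z} : Set G)) := mem_centralizer_singleton_iff.2 rfl
  have hzc : (⟨z, hzC⟩ : ↥(Subgroup.centralizer ({z} : Set G))) ∈ center ↥(Subgroup.centralizer ({z} : Set G)) :=
    mem_center_iff.2 fun u => Subtype.ext (mem_centralizer_singleton_iff.1 u.2)
  have hcQ : centralizer (Q : Set ↥(Subgroup.centralizer ({z} : Set G))) ≤ Q := by
    rw [← hF]; exact Cfsg.Agent.Components.Fitting.centralizer_genFitting_le
  have hzQ : (⟨z, hzC⟩ : ↥(Subgroup.centralizer ({z} : Set G))) ∈ Q := hcQ (center_le_centralizer _ hzc)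
  let ε : ↥Q ≃* ↥(bigQ Q) := Q.equivMapOfInjective _ (Subgroup.subtype_injective _)
  have hExt : Cfsg.IsExtraspecial 2 ↥(bigQ Q) := by
    have hcen : (center ↥Q).map ε.toMonoidHom = center ↥(bigQ Q) := by
      ext u
      rw [Subgroup.mem_map_equiv, mem_center_iff, mem_center_iff]
      constructor
      · intro h g
        apply ε.symm.injective
        rw [map_mul, map_mul]
        exact h _
      · intro h g
        apply ε.injective
        rw [map_mul, map_mul, ε.apply_symm_apply]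
        exact h _
    obtain ⟨⟨hp, hfr, hco⟩, hcard⟩ := hE
    refine ⟨⟨hp.of_equiv ε, ?_, ?_⟩, ?_⟩
    · rw [← hcen, ← hfr]
      exact ε.mapSubgroup.map_radical.symm
    · rw [← hcen, ← hco, _root_.commutator_def, _root_.commutator_def, Subgroup.map_commutator,
        Subgroup.map_top_of_surjective _ ε.surjective]
    · rw [← hcen, Subgroup.card_map_of_injective ε.injective, hcard]
  have hzB : z ∈ bigQ Q := ⟨_, hzQ, rfl⟩
  have hBC : bigQ Q ≤ (Subgroup.centralizer ({z} : Set G)) := map_subtype_le _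
  have hctr : (center ↥(bigQ Q)).map (bigQ Q).subtype = zpowers z := by
    symm
    refine eq_of_le_of_card_ge ?_ ?_
    · rw [zpowers_le]
      exact ⟨⟨z, hzB⟩, mem_center_iff.2 fun q => Subtype.ext (mem_centralizer_singleton_iff.1 (hBC q.2)), rfl⟩
    · rw [card_map_of_injective (bigQ Q).subtype_injective, hExt.2, Nat.card_zpowers, hz]
  refine ⟨hExt, hz, hctr, le_antisymm ?_ ?_, ?_⟩
  · intro x hx
    have hxC : x ∈ (Subgroup.centralizer ({z} : Set G)) := mem_centralizer_singleton_iff.2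
      ((mem_centralizer_iff.1 hx z hzB).symm)
    have hxQ : (⟨x, hxC⟩ : ↥(Subgroup.centralizer ({z} : Set G))) ∈ Q := hcQ (mem_centralizer_iff.2 fun q hq =>
      Subtype.ext (mem_centralizer_iff.1 hx q ⟨q, hq, rfl⟩))
    rw [← hctr]
    exact ⟨⟨x, ⟨_, hxQ, rfl⟩⟩, mem_center_iff.2 fun q =>
      Subtype.ext (mem_centralizer_iff.1 hx q q.2), rfl⟩
  · rw [zpowers_le, mem_centralizer_iff]
    intro q hq
    exact mem_centralizer_singleton_iff.1 (hBC hq)
  · intro c hc
    rw [mem_normalizer_iff]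
    intro u
    constructor
    · rintro ⟨q, hq, rfl⟩
      exact ⟨⟨c, hc⟩ * q * (⟨c, hc⟩ : ↥(Subgroup.centralizer ({z} : Set G)))⁻¹, Subgroup.Normal.conj_mem inferInstance q hq _, rfl⟩
    · rintro ⟨q, hq, he⟩
      refine ⟨(⟨c, hc⟩ : ↥(Subgroup.centralizer ({z} : Set G)))⁻¹ * q * (⟨c, hc⟩ : ↥(Subgroup.centralizer ({z} : Set G)))⁻¹⁻¹, Subgroup.Normal.conj_mem inferInstance q hq _, ?_⟩
      rw [inv_inv]
      change c⁻¹ * (q : G) * c = u
      rw [show (q : G) = c * u * c⁻¹ from he]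
      group

theorem mem_center_iff' {w : ℕ} (hS : Cfsg.IsExtraspecialCentralizerSetting z Q w) {x : Q} :
    x ∈ Subgroup.center Q ↔ ((x : Subgroup.centralizer ({z} : Set G)) : G) = 1 ∨
      ((x : Subgroup.centralizer ({z} : Set G)) : G) = z := by
  have h := ctr_bigQ hS
  let xg : G := ((x : Subgroup.centralizer ({z} : Set G)) : G)
  constructor
  · intro hx
    refine h.mem_zpowers_cases ?_
    rw [← h.cent, mem_centralizer_iff]
    rintro _ ⟨q, hq, rfl⟩
    exact congrArg (fun t : Q => ((t : Subgroup.centralizer ({z} : Set G)) : G))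
      (Subgroup.mem_center_iff.1 hx ⟨q, hq⟩)
  · intro hx
    refine Subgroup.mem_center_iff.2 fun q => Subtype.ext (Subtype.ext ?_)
    change (q : Subgroup.centralizer ({z} : Set G)).1 * xg = xg * (q : Subgroup.centralizer ({z} : Set G)).1
    rcases hx with e | e
    · rw [show xg = 1 from e, one_mul, mul_one]
    · rw [show xg = z from e]
      exact mem_centralizer_singleton_iff.1 (q : Subgroup.centralizer ({z} : Set G)).2

/-- The class of `x` modulo the centre has a representative of squared length `N`. -/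
def Ty (ψ : Cfsg.leechLattice → Q ⧸ Subgroup.center Q) (x : Q) (N : ℤ) : Prop :=
  ∃ v : Cfsg.leechLattice, Cfsg.sqNorm (v : Cfsg.GolayPt → ℤ) = N ∧ ψ v = QuotientGroup.mk x

theorem sqNorm_double (u : Cfsg.leechLattice) :
    Cfsg.sqNorm ((u + u : Cfsg.leechLattice) : Cfsg.GolayPt → ℤ) =
      4 * Cfsg.sqNorm (u : Cfsg.GolayPt → ℤ) := by
  simp only [Cfsg.sqNorm, AddSubgroup.coe_add, Pi.add_apply, Finset.mul_sum]
  exact Finset.sum_congr rfl fun i _ => by ring

theorem psi_congr (hψ : Cfsg.IsLeechModTwoIso Q e ψ) {v w : Cfsg.leechLattice}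
    (h : cls v = cls w) : ψ v = ψ w := by
  obtain ⟨u, hu⟩ := cls_eq_iff.1 h
  rw [show v = w + (u + u) by rw [← hu]; abel, hψ.1, (hψ.2.2.1 (u + u)).2 ⟨u, rfl⟩, mul_one]

theorem cls_of_psi (hψ : Cfsg.IsLeechModTwoIso Q e ψ) {v w : Cfsg.leechLattice}
    (h : ψ v = ψ w) : cls v = cls w := by
  have h1 : ψ v = ψ (v - w) * ψ w := by rw [← hψ.1, sub_add_cancel]
  rw [h] at h1
  obtain ⟨u, hu⟩ := (hψ.2.2.1 (v - w)).1 (mul_eq_right.1 h1.symm)
  exact cls_eq_iff.2 ⟨u, hu⟩

theorem Ty.notMem_center (hψ : Cfsg.IsLeechModTwoIso Q e ψ) {x : Q} {N : ℤ}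
    (hx : Ty ψ x N) (h0 : 0 < N) (hN : N ≤ 64) : x ∉ Subgroup.center Q := by
  intro hc
  obtain ⟨v, hv, e'⟩ := hx
  rw [(QuotientGroup.eq_one_iff x).2 hc] at e'
  obtain ⟨u, rfl⟩ := (hψ.2.2.1 v).1 e'
  rw [sqNorm_double] at hv
  by_cases hu : (u : Cfsg.GolayPt → ℤ) = 0
  · rw [hu] at hv
    simp [Cfsg.sqNorm] at hv
    omega
  · have := Cfsg.Agent.Leech.Basic.min_norm u.2 hu
    omega

theorem exists_ty (hψ : Cfsg.IsLeechModTwoIso Q e ψ) {x : Q} (hx : x ∉ Subgroup.center Q) :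
    Ty ψ x 32 ∨ Ty ψ x 48 ∨ Ty ψ x 64 := by
  obtain ⟨v, hv⟩ := hψ.2.1 (QuotientGroup.mk x)
  obtain ⟨w, hw, hc⟩ := (class_count leech_shells).1 (cls v)
  rw [lform_self] at hw
  have hpw : ψ w = QuotientGroup.mk x := (psi_congr hψ hc).trans hv
  have hne : (w : Cfsg.GolayPt → ℤ) ≠ 0 := by
    intro h0
    have : w = 0 + 0 := by
      apply Subtype.ext
      rw [h0]; simp
    exact hx ((QuotientGroup.eq_one_iff x).1 (hpw.symm.trans ((hψ.2.2.1 w).2 ⟨0, this⟩)))
  have h16 := Cfsg.Agent.Leech.Basic.sixteen_dvd_sqNorm w.2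
  have h32 := Cfsg.Agent.Leech.Basic.min_norm w.2 hne
  have : Cfsg.sqNorm (w : Cfsg.GolayPt → ℤ) = 32 ∨ Cfsg.sqNorm (w : Cfsg.GolayPt → ℤ) = 48 ∨
      Cfsg.sqNorm (w : Cfsg.GolayPt → ℤ) = 64 := by omega
  rcases this with h | h | h
  · exact Or.inl ⟨w, h, hpw⟩
  · exact Or.inr (Or.inl ⟨w, h, hpw⟩)
  · exact Or.inr (Or.inr ⟨w, h, hpw⟩)

/-- A non-central element is moved to its product with `z`. -/
theorem exists_swap {w : ℕ} (hS : Cfsg.IsExtraspecialCentralizerSetting z Q w) {y : G}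
    (hy : y ∈ bigQ Q) (h1 : y ≠ 1) (h2 : y ≠ z) : ∃ q ∈ bigQ Q, q * y * q⁻¹ = z * y := by
  have h := ctr_bigQ hS
  by_contra hc
  push Not at hc
  have : y ∈ centralizer (bigQ Q : Set G) := by
    rw [mem_centralizer_iff]
    intro q hq
    rcases h.comm_cases hq hy with e' | e'
    · exact commutatorElement_eq_one_iff_mul_comm.1 e'
    · exact absurd (mul_inv_eq_iff_eq_mul.1 e') (hc q hq)
  rw [h.cent] at this
  rcases h.mem_zpowers_cases this with e' | e'
  exacts [h1 e', h2 e']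

/-- Elements of classes of the same length are conjugate under the centralizer of `z`. -/
theorem conj_of_ty {w : ℕ} (hS : Cfsg.IsExtraspecialCentralizerSetting z Q w)
    (hψ : Cfsg.IsLeechModTwoIso Q e ψ) {x y : Q} {N : ℤ} (hN : N = 32 ∨ N = 48 ∨ N = 64)
    (hx : Ty ψ x N) (hy : Ty ψ y N) :
    ∃ h ∈ Subgroup.centralizer ({z} : Set G),
      h * ((x : Subgroup.centralizer ({z} : Set G)) : G) * h⁻¹ =
        ((y : Subgroup.centralizer ({z} : Set G)) : G) := by
  have hyc : y ∉ Subgroup.center Q := hy.notMem_center hψ (by omega) (by omega)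
  obtain ⟨v, hv, ev⟩ := hx
  obtain ⟨u, hu, eu⟩ := hy
  obtain ⟨g, hg⟩ : ∃ g : Cfsg.Co0, g • v = u := by
    rcases hN with rfl | rfl | rfl
    exacts [Cfsg.Agent.LeechAut.Shells.transitive32 v u hv hu,
      Cfsg.Agent.LeechAut.Shells.transitive48 v u hv hu,
      Cfsg.Agent.LeechAut.Shells.transitive64 v u hv hu]
  obtain ⟨h', hh'⟩ := e.surjective (QuotientGroup.mk g)
  obtain ⟨c, rfl⟩ := QuotientGroup.mk_surjective h'
  have h3 := hψ.2.2.2 c g hh'.symm v x ev
  rw [hg, eu, QuotientGroup.eq] at h3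
  rw [mem_center_iff' hS] at h3 hyc
  push Not at hyc
  let yg : G := ((y : Subgroup.centralizer ({z} : Set G)) : G)
  let xg : G := ((x : Subgroup.centralizer ({z} : Set G)) : G)
  have h3' : yg⁻¹ * ((c : G) * xg * (c : G)⁻¹) = 1 ∨ yg⁻¹ * ((c : G) * xg * (c : G)⁻¹) = z := h3
  rw [inv_mul_eq_iff_eq_mul, inv_mul_eq_iff_eq_mul, mul_one] at h3'
  rcases h3' with h4 | h4
  · exact ⟨c, c.2, h4⟩
  · obtain ⟨q, hq, hqy⟩ := exists_swap hS (y := yg) ⟨_, y.2, rfl⟩ hyc.1 hyc.2
    have hyz : yg * z = z * yg := (ctr_bigQ hS).comm ⟨_, y.2, rfl⟩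
    have hqz : q * z * q⁻¹ = z := (ctr_bigQ hS).conj_z hq
    refine ⟨q * c, mul_mem ((map_subtype_le Q) hq) c.2, ?_⟩
    change q * (c : G) * xg * (q * (c : G))⁻¹ = yg
    calc q * (c : G) * xg * (q * (c : G))⁻¹ = q * ((c : G) * xg * (c : G)⁻¹) * q⁻¹ := by group
      _ = (q * yg * q⁻¹) * (q * z * q⁻¹) := by rw [h4]; group
      _ = yg := by rw [hqy, hqz, mul_assoc, hyz, ← mul_assoc, (ctr_bigQ hS).zz, one_mul]

end Cfsg.Agent.MonsterOrbits
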