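import Cfsg.Agent.Lib.LargeExtra.MonsterOrbits
import Cfsg.Agent.Lib.LeechAut.Co1
import Cfsg.Agent.Lib.LeechAut.Conway23

/-!
The Monster-type setting with a conjugate `s ≠ z` of `z` in `Q`: `s` belongs to a class of squared
length 64 and the image of the other extraspecial group is the group of sign changes.
-/

set_option autoImplicit false
set_option linter.unusedSectionVars false

namespace Cfsg.Agent.MonsterPair

open Subgroup Cfsg.Agent.LargeExtra Cfsg.Agent.Leech.Classes Cfsg.Agent.Leech.Mod2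
  Cfsg.Agent.MonsterOrbits Cfsg.Agent.LeechAut.Cross Cfsg.Agent.LeechAut.Maximal Cfsg.Agent.LeechAut.Co1
  Cfsg.Agent.LeechAut.Basic
open scoped commutatorElement Pointwise

/-! ### The action modulo 2 -/

theorem cls_smul (g : Cfsg.Co0) {v w : Cfsg.leechLattice} (h : cls v = cls w) :
    cls (g • v) = cls (g • w) := by
  obtain ⟨u, hu⟩ := cls_eq_iff.1 h
  exact cls_eq_iff.2 ⟨g • u, by rw [← smul_sub', hu, smul_add']⟩

/-- The stabiliser of a class modulo 2. -/
def clsStab (v : Cfsg.leechLattice) : Subgroup Cfsg.Co0 where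
  carrier := {g | cls (g • v) = cls v}
  one_mem' := by simp
  mul_mem' {a b} ha hb := by
    show cls ((a * b) • v) = cls v
    rw [mul_smul, cls_smul a hb]; exact ha
  inv_mem' {a} ha := by
    show cls (a⁻¹ • v) = cls v
    have := cls_smul a⁻¹ ha
    rw [inv_smul_smul] at this
    exact this.symm

/-- The quotient map onto the simple quotient. -/
abbrev toCo1 : Cfsg.Co0 →* Cfsg.Spor.Co1 := QuotientGroup.mk' (Subgroup.center Cfsg.Co0)

theorem permHom_eq_mono (σ : Cfsg.M24) :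
    permHom σ = mono (σ, ⟨∅, Cfsg.Agent.Leech.Basic.empty_mem⟩) := by
  rw [← one_mul (permHom σ)]
  show 1 * perm (σ : Equiv.Perm Cfsg.GolayPt)⁻¹ (M24.inv_mem σ.2)
    = sign ∅ Cfsg.Agent.Leech.Basic.empty_mem * perm (σ : Equiv.Perm Cfsg.GolayPt)⁻¹ (M24.inv_mem σ.2)
  rw [show sign (∅ : Finset Cfsg.GolayPt) Cfsg.Agent.Leech.Basic.empty_mem = 1 from
    ext' fun v => Subtype.ext (funext fun i => by rw [one_smul]; simp [Cfsg.Agent.LeechAut.Basic.flip])]

theorem eq_one_of_mem_signSub {σ : Cfsg.M24} (h : permHom σ ∈ signSub) : σ = 1 := by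
  obtain ⟨c, hc, he⟩ := h
  have h2 : sign c hc = mono (1, ⟨c, hc⟩) := by
    show sign c hc = sign c hc * perm ((1 : Cfsg.M24) : Equiv.Perm Cfsg.GolayPt)⁻¹ _
    have : perm ((1 : Cfsg.M24) : Equiv.Perm Cfsg.GolayPt)⁻¹ (M24.inv_mem (1 : Cfsg.M24).2) = 1 :=
      ext' fun v => Subtype.ext (funext fun i => by rw [one_smul]; simp)
    rw [this, mul_one]
  rw [permHom_eq_mono, h2] at he
  exact congrArg Prod.fst (mono_injective he)

theorem center_le_signSub : Subgroup.center Cfsg.Co0 ≤ signSub := by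
  intro g hg
  rcases center_eq g hg with rfl | rfl
  · exact one_mem _
  · exact sign_mem_signSub _ _

theorem signSub_sq {g : Cfsg.Co0} (hg : g ∈ signSub) : g * g = 1 := by
  obtain ⟨c, hc, rfl⟩ := hg
  have := sign_inv hc
  conv_lhs => arg 1; rw [← this]
  exact inv_mul_cancel _

theorem clsStab_frame : clsStab (frame none) = crossStab := by
  have hcl : ∀ (v : Cfsg.leechLattice), (v : Cfsg.GolayPt → ℤ) ∈ stdCross → cls v = cls (frame none) := by
    have hf : ∀ i, cls (frame i) = cls (frame none) := by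
      intro i
      rw [exists_half_iff]
      refine ⟨_, four_pair_mem i, ?_⟩
      funext j
      rw [frame_coe, frame_coe, Pi.sub_apply, Pi.smul_apply]
      by_cases a : j = i <;> by_cases b : j = none <;> simp [a, b, Pi.single_apply] <;> simp_all
    rintro v ⟨i, s, hs | hs, hv⟩
    · rw [show v = frame i from Subtype.ext (by rw [hv, hs]; rfl)]; exact hf i
    · rw [show v = -frame i from Subtype.ext (by rw [hv, hs, AddSubgroup.coe_neg, frame_coe, Pi.single_neg]),
        cls_neg]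
      exact hf i
  ext g
  constructor
  · intro hg v hv
    have h1 : cls (g • v) = cls (frame none) := (cls_smul g (hcl v hv)).trans hg
    obtain ⟨z, hz, he⟩ := exists_half_iff.1 h1
    have hn : Cfsg.sqNorm ((g • v : Cfsg.leechLattice) : Cfsg.GolayPt → ℤ) = 64 := by
      rw [sqNorm_smul]
      obtain ⟨i, s, hs, hv'⟩ := hv
      rw [hv', sqNorm_single]
      rcases hs with rfl | rfl <;> norm_num
    refine mem_cross_of_congr hn hz ?_
    rw [← frame_coe none, ← he]; abel
  · intro hg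
    exact hcl _ (hg (frame none) ⟨none, 8, Or.inl rfl, rfl⟩)

/-- The only non-trivial normal 2-subgroups of the image of the cross stabiliser lie in the signs. -/
theorem le_signs (A : Subgroup Cfsg.Spor.Co1) (hA : A ≤ crossStab.map toCo1)
    (hn : ∀ x ∈ crossStab, ∀ a ∈ A, toCo1 x * a * (toCo1 x)⁻¹ ∈ A) (h2 : ∀ a ∈ A, a * a = 1) :
    A ≤ signSub.map toCo1 := by
  haveI : IsSimpleGroup Cfsg.M24 := Cfsg.Agent.Golay.Small.isSimple_M24
  let N : Subgroup Cfsg.Co0 := A.comap toCo1 ⊓ crossStab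
  have hN : ∀ x ∈ crossStab, ∀ n ∈ N, x * n * x⁻¹ ∈ N := by
    intro x hx n hn'
    refine ⟨?_, crossStab.mul_mem (crossStab.mul_mem hx hn'.2) (crossStab.inv_mem hx)⟩
    show toCo1 (x * n * x⁻¹) ∈ A
    rw [map_mul, map_mul, map_inv]
    exact hn x hx _ hn'.1
  have hsN : signSub ≤ normalizer (N : Set Cfsg.Co0) := by
    intro x hx
    rw [mem_normalizer_iff]
    intro n
    refine ⟨fun h => hN x (signSub_le hx) n h, fun h => ?_⟩
    have := hN x⁻¹ (inv_mem (signSub_le hx)) _ h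
    simpa [mul_assoc] using this
  have hN4 : ∀ n ∈ N, (n * n) * (n * n) = 1 := by
    intro n hn'
    have : n * n ∈ Subgroup.center Cfsg.Co0 := by
      rw [← QuotientGroup.eq_one_iff]
      exact h2 _ hn'.1
    exact signSub_sq (center_le_signSub this)
  let L : Subgroup Cfsg.M24 := (N ⊔ signSub).comap permHom
  have hLn : L.Normal := by
    refine ⟨fun τ hτ ρ => ?_⟩
    have h : N ⊔ signSub ≤ (N ⊔ signSub).comap (MulAut.conj (permHom ρ)).toMonoidHom := sup_le
      (fun u hu => Subgroup.mem_sup_left (hN _ (permHom_mem ρ) u hu))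
      (fun u hu => Subgroup.mem_sup_right (conj_signSub (permHom_mem ρ) hu))
    show permHom (ρ * τ * ρ⁻¹) ∈ N ⊔ signSub
    rw [map_mul, map_mul, map_inv]
    exact h hτ
  rcases hLn.eq_bot_or_eq_top with hb | ht
  · rintro a ha
    obtain ⟨g, hg, rfl⟩ := hA ha
    obtain ⟨c, hc, σ, rfl⟩ := exists_parts hg
    have hσ : σ ∈ L := by
      show permHom σ ∈ N ⊔ signSub
      rw [show permHom σ = (sign c hc)⁻¹ * (sign c hc * permHom σ) by group]
      exact mul_mem (Subgroup.mem_sup_right (inv_mem (sign_mem_signSub c hc)))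
        (Subgroup.mem_sup_left ⟨ha, hg⟩)
    rw [hb, Subgroup.mem_bot] at hσ
    subst hσ
    exact ⟨_, sign_mem_signSub c hc, by simp⟩
  · exfalso
    haveI : Fact (Nat.Prime 23) := ⟨by norm_num⟩
    obtain ⟨σ, hσ⟩ := exists_prime_orderOf_dvd_card' 23
      (show 23 ∣ Nat.card Cfsg.M24 by rw [Cfsg.Agent.Golay.M24.card_M24]; norm_num)
    have hm : permHom σ ∈ N ⊔ signSub := by
      have : σ ∈ L := ht ▸ Subgroup.mem_top σ
      exact this
    rw [← SetLike.mem_coe, Subgroup.coe_mul_of_right_le_normalizer_left N signSub hsN] at hm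
    obtain ⟨n, hn', t, ht', he⟩ := hm
    have h8 : permHom (σ ^ 8) = 1 := by
      rw [map_pow, ← he]
      have e2 : (n * t) * (n * t) = n * (t * n * t⁻¹) * (t * t) := by group
      have hmem : (n * t) * (n * t) ∈ N := by
        rw [e2, signSub_sq ht', mul_one]
        exact mul_mem hn' (hN t (signSub_le ht') n hn')
      have := hN4 _ hmem
      rw [← this]
      simp [pow_succ, mul_assoc]
    have hσ8 : σ ^ 8 = 1 := eq_one_of_mem_signSub (h8 ▸ one_mem _)
    have := orderOf_dvd_of_pow_eq_one hσ8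
    rw [hσ] at this
    norm_num at this

theorem card_signs : Nat.card (signSub.map toCo1) ≤ 2 ^ 11 := by
  classical
  have h1 : Nat.card signSub ≤ 4096 := by
    rw [← card_codeSets]
    refine Nat.card_le_card_of_surjective
      (fun c => (⟨sign c.1 c.2, sign_mem_signSub _ _⟩ : signSub)) ?_
    rintro ⟨g, c, hc, rfl⟩
    exact ⟨⟨c, hc⟩, rfl⟩
  let f := toCo1.comp signSub.subtype
  have hr : f.range = signSub.map toCo1 := by
    rw [MonoidHom.range_comp, Subgroup.range_subtype]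
  haveI := finite_Co0
  have hk : 2 ≤ Nat.card f.ker := by
    rw [Nat.succ_le_iff, Finite.one_lt_card_iff_nontrivial]
    refine ⟨⟨⟨⟨negOne, sign_mem_signSub _ _⟩, ?_⟩, 1, fun e => negOne_ne_one ?_⟩⟩
    · rw [MonoidHom.mem_ker]
      exact (QuotientGroup.eq_one_iff _).2 negOne_central
    · exact congrArg (fun x : f.ker => ((x : signSub) : Cfsg.Co0)) e
  have h2 := Subgroup.card_mul_index f.ker
  rw [Subgroup.index_ker, hr] at h2
  have : 2 * Nat.card (signSub.map toCo1) ≤ 4096 := by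
    calc 2 * Nat.card (signSub.map toCo1) ≤ Nat.card f.ker * Nat.card (signSub.map toCo1) :=
          Nat.mul_le_mul_right _ hk
      _ = Nat.card signSub := h2
      _ ≤ 4096 := h1
  omega

/-! ### The pair -/

variable {G : Type*} [Group G] [Finite G] {z : G}
  {Q : Subgroup (Subgroup.centralizer ({z} : Set G))} [Q.Normal]
  {e : (Subgroup.centralizer ({z} : Set G)) ⧸ Q ≃* Cfsg.Spor.Co1}
  {ψ : Cfsg.leechLattice → Q ⧸ Subgroup.center Q}

/-- The image of the other extraspecial group. -/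
abbrev imgQ (Q : Subgroup (Subgroup.centralizer ({z} : Set G))) [Q.Normal] (g : G) :
    Subgroup ((Subgroup.centralizer ({z} : Set G)) ⧸ Q) :=
  (((Q.map (Subgroup.centralizer ({z} : Set G)).subtype).map (MulAut.conj g).toMonoidHom ⊓
    Subgroup.centralizer ({z} : Set G)).subgroupOf (Subgroup.centralizer ({z} : Set G))).map (QuotientGroup.mk' Q)

/-- The image of the centralizer of the pair. -/
abbrev imgC (Q : Subgroup (Subgroup.centralizer ({z} : Set G))) [Q.Normal] (s : G) :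
    Subgroup ((Subgroup.centralizer ({z} : Set G)) ⧸ Q) :=
  ((Subgroup.centralizer ({z} : Set G) ⊓ Subgroup.centralizer ({s} : Set G)).subgroupOf
    (Subgroup.centralizer ({z} : Set G))).map (QuotientGroup.mk' Q)

section

variable {w : ℕ} (hS : Cfsg.IsExtraspecialCentralizerSetting z Q w) {g : G}
  (hgQ : g * z * g⁻¹ ∈ bigQ Q) (hgz : g * z * g⁻¹ ≠ z)
include hS hgQ hgz

theorem imgQ_sq : ∀ a ∈ imgQ Q g, a * a = 1 := by
  rintro _ ⟨y, hy, rfl⟩
  rw [← map_mul, QuotientGroup.mk'_apply, QuotientGroup.eq_one_iff]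
  have P := Pair.mk' (ctr_bigQ hS) hgQ hgz
  have hy' : (y : G) ∈ (bigQ Q).map (MulAut.conj g).toMonoidHom := (Subgroup.mem_subgroupOf.1 hy).1
  have hyy : ((y * y : Subgroup.centralizer ({z} : Set G)) : G) ∈ bigQ Q := by
    rcases P.h'.sq_cases hy' with h | h
    · change (y : G) * (y : G) ∈ bigQ Q
      rw [h]; exact one_mem _
    · change (y : G) * (y : G) ∈ bigQ Q
      rw [h]; exact hgQ
  obtain ⟨hx, hm⟩ := mem_bigQ.1 hyy
  exact hm

theorem imgQ_le : imgQ Q g ≤ imgC Q (g * z * g⁻¹) := by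
  refine Subgroup.map_mono fun y hy => ?_
  have P := Pair.mk' (ctr_bigQ hS) hgQ hgz
  exact ⟨y.2, P.h'.le_centralizer (Subgroup.mem_subgroupOf.1 hy).1⟩

theorem imgQ_conj : ∀ x ∈ imgC Q (g * z * g⁻¹), ∀ a ∈ imgQ Q g, x * a * x⁻¹ ∈ imgQ Q g := by
  rintro _ ⟨x, hx, rfl⟩ _ ⟨a, ha, rfl⟩
  refine ⟨x * a * x⁻¹, ?_, by simp⟩
  have P := Pair.mk' (ctr_bigQ hS) hgQ hgz
  obtain ⟨hx1, hx2⟩ := Subgroup.mem_subgroupOf.1 hx
  obtain ⟨ha1, ha2⟩ := Subgroup.mem_subgroupOf.1 ha
  exact Subgroup.mem_subgroupOf.2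
    ⟨P.h'.conj_mem (mem_centralizer_singleton_iff.1 hx2) ha1,
      Subgroup.mul_mem _ (Subgroup.mul_mem _ hx1 ha2) (Subgroup.inv_mem _ hx1)⟩

theorem card_inf_mul (hw : 2 ≤ w) :
    2 ^ (2 * w) ≤ Nat.card ↥(bigQ Q ⊓ (bigQ Q).map (MulAut.conj g).toMonoidHom) * Nat.card (imgQ Q g) ∧
    Nat.card ↥(bigQ Q ⊓ (bigQ Q).map (MulAut.conj g).toMonoidHom) ≤ 2 ^ (w + 1) := by
  classical
  haveI : Fact (Nat.Prime 2) := ⟨Nat.prime_two⟩
  have P := Pair.mk' (ctr_bigQ hS) hgQ hgz
  have hcard : Nat.card (bigQ Q) = 2 ^ (2 * w + 1) := by rw [card_bigQ, hS.2.2.2.1]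
  have h32 : 32 ≤ Nat.card (bigQ Q) := by
    rw [hcard]
    calc (32 : ℕ) = 2 ^ 5 := by norm_num
      _ ≤ 2 ^ (2 * w + 1) := Nat.pow_le_pow_right (by norm_num) (by omega)
  have hzQ' := P.z_mem' h32
  have hcard' : Nat.card ↥((bigQ Q).map (MulAut.conj g).toMonoidHom) = 2 ^ (2 * w + 1) := by
    rw [Subgroup.card_map_of_injective (MulAut.conj g).injective, hcard]
  set Q' := (bigQ Q).map (MulAut.conj g).toMonoidHom with hQ'
  set K := Q' ⊓ Subgroup.centralizer ({z} : Set G) with hK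
  -- `K` has index at most two
  have h2K : Nat.card Q' ≤ 2 * Nat.card K := by
    by_cases hall : Q' ≤ Subgroup.centralizer ({z} : Set G)
    · rw [hK, inf_eq_left.2 hall]; omega
    obtain ⟨a, ha, hna⟩ := SetLike.not_le_iff_exists.1 hall
    have hmove : ∀ y ∈ Q', y ∉ Subgroup.centralizer ({z} : Set G) → y * z * y⁻¹ = g * z * g⁻¹ * z := by
      intro y hy hny
      rcases P.h'.comm_cases hy hzQ' with h | h
      · exact absurd (mem_centralizer_singleton_iff.2 (commutatorElement_eq_one_iff_mul_comm.1 h)) hny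
      · exact mul_inv_eq_iff_eq_mul.1 h
    have hmem : ∀ y : Q', (y : G) ∉ Subgroup.centralizer ({z} : Set G) → a⁻¹ * y ∈ K := by
      intro y hy
      refine Subgroup.mem_inf.2 ⟨Subgroup.mul_mem _ (Subgroup.inv_mem _ ha) y.2, ?_⟩
      rw [mem_centralizer_singleton_iff]
      have e1 := hmove _ y.2 hy
      have e2 := hmove _ ha hna
      calc a⁻¹ * (y : G) * z = a⁻¹ * ((y : G) * z * (y : G)⁻¹) * y := by group
        _ = a⁻¹ * (a * z * a⁻¹) * y := by rw [e1, e2]
        _ = z * (a⁻¹ * (y : G)) := by group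
    let f : Q' → K × Bool := fun y =>
      if hy : (y : G) ∈ Subgroup.centralizer ({z} : Set G) then (⟨y, y.2, hy⟩, false)
      else (⟨a⁻¹ * y, hmem y hy⟩, true)
    have hf : Function.Injective f := by
      intro y y' h
      simp only [f] at h
      split_ifs at h <;> simp at h
      · exact Subtype.ext (congrArg (fun k : K => (k : G)) h)
      · exact h
    have := Nat.card_le_card_of_injective f hf
    rw [Nat.card_prod, Nat.card_eq_fintype_card (α := Bool), Fintype.card_bool] at this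
    omega
  -- the kernel on `K`
  have hI : bigQ Q ⊓ Q' ≤ K := fun x hx => ⟨hx.2, map_subtype_le Q hx.1⟩
  let H := K.subgroupOf (Subgroup.centralizer ({z} : Set G))
  let f := (QuotientGroup.mk' Q).comp H.subtype
  have hr : f.range = imgQ Q g := by rw [MonoidHom.range_comp, Subgroup.range_subtype]
  let κ : H →* G := (Subgroup.centralizer ({z} : Set G)).subtype.comp H.subtype
  have hκ : Function.Injective κ := Subtype.val_injective.comp Subtype.val_injective
  have hker : f.ker.map κ = bigQ Q ⊓ Q' := by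
    ext x
    constructor
    · rintro ⟨y, hy, rfl⟩
      exact ⟨⟨y.1, (QuotientGroup.eq_one_iff _).1 hy, rfl⟩, (Subgroup.mem_subgroupOf.1 y.2).1⟩
    · intro hx
      obtain ⟨hxC, hxQ⟩ := mem_bigQ.1 hx.1
      exact ⟨⟨⟨x, hxC⟩, Subgroup.mem_subgroupOf.2 (hI hx)⟩, (QuotientGroup.eq_one_iff _).2 hxQ, rfl⟩
  have hHK : Nat.card H = Nat.card K :=
    Nat.card_congr (Subgroup.subgroupOfEquivOfLe inf_le_right).toEquiv
  have h3 := Subgroup.card_mul_index f.ker
  rw [Subgroup.index_ker, hr, ← Subgroup.card_map_of_injective (K := f.ker) hκ, hker, hHK] at h3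
  refine ⟨?_, ?_⟩
  · rw [h3]
    have : 2 ^ (2 * w + 1) = 2 * 2 ^ (2 * w) := by ring
    omega
  · haveI : IsMulCommutative ↥((bigQ Q ⊓ Q').subgroupOf (bigQ Q)) := by
      refine ⟨⟨fun x y => Subtype.ext (Subtype.ext ?_)⟩⟩
      show ((x : bigQ Q) : G) * (y : bigQ Q) = (y : bigQ Q) * (x : bigQ Q)
      rw [← commutatorElement_eq_one_iff_mul_comm]
      rcases P.h.comm_cases x.1.2 y.1.2 with h | h
      · exact h
      · rcases P.h'.comm_cases (Subgroup.mem_subgroupOf.1 x.2).2 (Subgroup.mem_subgroupOf.1 y.2).2 with h' | h'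
        · exact h'
        · exact absurd (h'.symm.trans h) P.ne
    have := Cfsg.Agent.PGroups.Extraspecial.card_sq_le_of_abelian (ctr_bigQ hS).ext
      ((bigQ Q ⊓ Q').subgroupOf (bigQ Q))
    rw [Nat.card_congr (Subgroup.subgroupOfEquivOfLe inf_le_left).toEquiv, hcard] at this
    refine Nat.pow_le_pow_iff_left (two_ne_zero) |>.1 (this.trans (le_of_eq ?_))
    ring

end

/-- The image of the centralizer of the pair is the image of a class stabiliser. -/
theorem imgC_eq {w : ℕ} (hS : Cfsg.IsExtraspecialCentralizerSetting z Q w)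
    (hψ : Cfsg.IsLeechModTwoIso Q e ψ) {x : Q}
    (hx : x ∉ Subgroup.center Q) {v : Cfsg.leechLattice} (hv : ψ v = QuotientGroup.mk x) :
    (imgC Q ((x : Subgroup.centralizer ({z} : Set G)) : G)).map e.toMonoidHom = (clsStab v).map toCo1 := by
  let xg : G := ((x : Subgroup.centralizer ({z} : Set G)) : G)
  have hxB : xg ∈ bigQ Q := ⟨_, x.2, rfl⟩
  rw [mem_center_iff' hS] at hx
  push Not at hx
  apply le_antisymm
  · rintro _ ⟨_, ⟨h, hh, rfl⟩, rfl⟩
    obtain ⟨g, hg⟩ := QuotientGroup.mk_surjective (e (QuotientGroup.mk h))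
    refine ⟨g, ?_, hg⟩
    have h3 := hψ.2.2.2 h g hg v x hv
    refine cls_of_psi hψ ?_
    rw [h3, hv]
    congr 1
    refine Subtype.ext (Subtype.ext ?_)
    change (h : G) * xg * (h : G)⁻¹ = xg
    rw [mem_centralizer_singleton_iff.1 (Subgroup.mem_subgroupOf.1 hh).2, mul_inv_cancel_right]
  · rintro _ ⟨g, hg, rfl⟩
    obtain ⟨h', hh'⟩ := e.surjective (QuotientGroup.mk g)
    obtain ⟨c, rfl⟩ := QuotientGroup.mk_surjective h'
    have h3 := hψ.2.2.2 c g hh'.symm v x hv
    rw [psi_congr hψ hg, hv, QuotientGroup.eq] at h3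
    rw [mem_center_iff' hS] at h3
    have h3' : xg⁻¹ * ((c : G) * xg * (c : G)⁻¹) = 1 ∨ xg⁻¹ * ((c : G) * xg * (c : G)⁻¹) = z := h3
    rw [inv_mul_eq_iff_eq_mul, inv_mul_eq_iff_eq_mul, mul_one] at h3'
    obtain ⟨q, hq, hqx⟩ : ∃ q ∈ bigQ Q, q * ((c : G) * xg * (c : G)⁻¹) * q⁻¹ = xg := by
      rcases h3' with h4 | h4
      · exact ⟨1, one_mem _, by rw [h4]; simp⟩
      · obtain ⟨q, hq, hqy⟩ := exists_swap hS hxB hx.1 hx.2
        refine ⟨q, hq, ?_⟩
        calc q * ((c : G) * xg * (c : G)⁻¹) * q⁻¹ = (q * xg * q⁻¹) * (q * z * q⁻¹) := by rw [h4]; group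
          _ = xg := by
            rw [hqy, (ctr_bigQ hS).conj_z hq, mul_assoc, (ctr_bigQ hS).comm hxB, ← mul_assoc,
              (ctr_bigQ hS).zz, one_mul]
    obtain ⟨hqC, hqQ⟩ := mem_bigQ.1 hq
    refine ⟨QuotientGroup.mk ((⟨q, hqC⟩ : Subgroup.centralizer ({z} : Set G)) * c), ⟨_, ?_, rfl⟩, ?_⟩
    · refine Subgroup.mem_subgroupOf.2 (Subgroup.mem_inf.2 ⟨Subgroup.mul_mem _ hqC c.2, ?_⟩)
      rw [mem_centralizer_singleton_iff]
      change q * (c : G) * xg = xg * (q * (c : G))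
      rw [← mul_inv_eq_iff_eq_mul]
      rw [show q * (c : G) * xg * (q * (c : G))⁻¹ = q * ((c : G) * xg * (c : G)⁻¹) * q⁻¹ by group]
      exact hqx
    · show e (QuotientGroup.mk _) = _
      rw [QuotientGroup.mk_mul, (QuotientGroup.eq_one_iff _).2 hqQ, one_mul, hh']
      rfl

/-- A conjugate of `z` in `Q` other than `z` is of length 64. -/
theorem ty_conj (hS : Cfsg.IsExtraspecialCentralizerSetting z Q 12)
    (hψ : Cfsg.IsLeechModTwoIso Q e ψ) {x : Q}
    (hx : IsConj z ((x : Subgroup.centralizer ({z} : Set G)) : G))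
    (hxz : ((x : Subgroup.centralizer ({z} : Set G)) : G) ≠ z) : Ty ψ x 64 := by
  obtain ⟨g, hg⟩ := isConj_iff.1 hx
  have hgQ : g * z * g⁻¹ ∈ bigQ Q := hg ▸ ⟨_, x.2, rfl⟩
  have hgz : g * z * g⁻¹ ≠ z := hg ▸ hxz
  have hxc : x ∉ Subgroup.center Q := by
    rw [mem_center_iff' hS]
    rintro (h | h)
    · refine (ctr_bigQ hS).ne_one ?_
      rw [h, mul_inv_eq_one] at hg
      exact mul_eq_left.1 hg
    · exact hxz h
  have hne : imgQ Q g ≠ ⊥ := by
    intro h
    obtain ⟨h1, h2⟩ := card_inf_mul hS hgQ hgz (by norm_num)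
    rw [h, Subgroup.card_bot, mul_one] at h1
    have := h1.trans h2
    norm_num at this
  have excl : ∀ N : ℤ, (N = 32 ∨ N = 48) → ¬ Ty ψ x N := by
    rintro N hN ⟨v, hv, hvx⟩
    have hX := imgC_eq hS hψ hxc hvx
    rw [← hg] at hX
    let S := MulAction.stabilizer Cfsg.Co0 v
    have hvne : negOne • v ≠ v := by
      rw [negOne_smul]
      intro h
      have h0 : (v : Cfsg.GolayPt → ℤ) = 0 := by
        funext i
        have := congrFun (congrArg Subtype.val h) i
        simp at this ⊢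
        omega
      rw [h0] at hv
      simp [Cfsg.sqNorm] at hv
      omega
    have hcl : (clsStab v).map toCo1 ≤ S.map toCo1 := by
      rintro _ ⟨k, hk, rfl⟩
      rcases short_eq_of_cls leech_shells (x := v) (y := k • v) (by rw [lform_self]; omega)
        (by rw [lform_self, sqNorm_smul]; omega) hk with h | h
      · exact ⟨k, h, rfl⟩
      · refine ⟨negOne * k, ?_, ?_⟩
        · show (negOne * k) • v = v
          rw [mul_smul, h, negOne_smul, neg_neg]
        · rw [map_mul, show toCo1 negOne = 1 from (QuotientGroup.eq_one_iff _).2 negOne_central, one_mul]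
    have hcl' : S.map toCo1 ≤ (clsStab v).map toCo1 :=
      Subgroup.map_mono fun k hk => congrArg cls (hk : k • v = v)
    let f : S →* Cfsg.Spor.Co1 := toCo1.comp S.subtype
    have hf : Function.Injective f := by
      rw [injective_iff_map_eq_one]
      intro k hk
      rcases center_eq k ((QuotientGroup.eq_one_iff _).1 hk) with h | h
      · exact Subtype.ext h
      · exact absurd (h ▸ k.2 : negOne • v = v) hvne
    have hrange : f.range = (clsStab v).map toCo1 := by
      rw [MonoidHom.range_comp, Subgroup.range_subtype]; exact le_antisymm hcl' hcl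
    let A := (imgQ Q g).map e.toMonoidHom
    have hA : A ≤ f.range := by rw [hrange, ← hX]; exact Subgroup.map_mono (imgQ_le hS hgQ hgz)
    let M := A.comap f
    have hM : M.Normal := by
      refine ⟨fun a ha k => ?_⟩
      obtain ⟨b, hb, hbe⟩ := ha
      have hk : f k ∈ (imgC Q (g * z * g⁻¹)).map e.toMonoidHom := by
        rw [hX, ← hrange]; exact ⟨k, rfl⟩
      obtain ⟨c, hc, hce⟩ := hk
      refine ⟨c * b * c⁻¹, imgQ_conj hS hgQ hgz c hc b hb, ?_⟩
      rw [map_mul, map_mul, map_inv, hbe, hce, map_mul, map_mul, map_inv]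
    have hsimple : IsSimpleGroup S := by
      rcases hN with rfl | rfl
      · exact (Cfsg.Agent.LeechAut.Conway23.isCo2 v hv).1
      · exact (Cfsg.Agent.LeechAut.Conway23.isCo3 v hv).1
    have h23 : 23 ∣ Nat.card S := by
      rcases hN with rfl | rfl
      · rw [Cfsg.Agent.LeechAut.Conway23.card_stab32 hv]; norm_num
      · rw [Cfsg.Agent.LeechAut.Conway23.card_stab48 hv]; norm_num
    rcases hM.eq_bot_or_eq_top with hb | ht
    · apply hne
      rw [eq_bot_iff]
      intro a ha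
      obtain ⟨k, hk⟩ := hA ⟨a, ha, rfl⟩
      have : k ∈ M := by
        show f k ∈ A
        rw [hk]
        exact ⟨a, ha, rfl⟩
      rw [hb, Subgroup.mem_bot] at this
      rw [Subgroup.mem_bot]
      apply e.injective
      rw [map_one]
      exact hk.symm.trans (by rw [this, map_one])
    · haveI : Finite S := Nat.finite_of_card_ne_zero (by
        rcases hN with rfl | rfl
        · rw [Cfsg.Agent.LeechAut.Conway23.card_stab32 hv]; norm_num
        · rw [Cfsg.Agent.LeechAut.Conway23.card_stab48 hv]; norm_num)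
      haveI : Fact (Nat.Prime 23) := ⟨by norm_num⟩
      obtain ⟨k, hk⟩ := exists_prime_orderOf_dvd_card' 23 h23
      obtain ⟨b, hb, hbe⟩ := (ht ▸ Subgroup.mem_top k : k ∈ M)
      have h2 : k * k = 1 := hf (by rw [map_mul, ← hbe, ← map_mul, imgQ_sq hS hgQ hgz b hb, map_one, map_one])
      have := orderOf_dvd_of_pow_eq_one ((pow_two k).trans h2)
      rw [hk] at this
      norm_num at this
  rcases exists_ty hψ hxc with h | h | h
  · exact absurd h (excl _ (Or.inl rfl))
  · exact absurd h (excl _ (Or.inr rfl))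
  · exact h

/-- The identifications can be chosen so that the conjugate lies over the standard frame; then the
image of the other extraspecial group is the group of sign changes. -/
theorem standard (hS : Cfsg.IsExtraspecialCentralizerSetting z Q 12)
    (hψ : Cfsg.IsLeechModTwoIso Q e ψ) {g : G} (hgQ : g * z * g⁻¹ ∈ bigQ Q) (hgz : g * z * g⁻¹ ≠ z) :
    Nat.card ↥(bigQ Q ⊓ (bigQ Q).map (MulAut.conj g).toMonoidHom) = 2 ^ 13 ∧
    Nat.card (imgQ Q g) = 2 ^ 11 ∧
    ∃ e' : (Subgroup.centralizer ({z} : Set G)) ⧸ Q ≃* Cfsg.Spor.Co1,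
      (imgC Q (g * z * g⁻¹)).map e'.toMonoidHom = crossStab.map toCo1 ∧
      (imgQ Q g).map e'.toMonoidHom = signSub.map toCo1 := by
  obtain ⟨hC, hxQ⟩ := mem_bigQ.1 hgQ
  set x : Q := ⟨⟨g * z * g⁻¹, hC⟩, hxQ⟩
  obtain ⟨v, hv, hvx⟩ := ty_conj hS hψ (x := x) (isConj_iff.2 ⟨g, rfl⟩) hgz
  obtain ⟨g₀, hg₀⟩ := Cfsg.Agent.LeechAut.Shells.transitive64 v (frame none) hv (sqNorm_frame none)
  let e' := e.trans (MulAut.conj (toCo1 g₀))
  let ψ' : Cfsg.leechLattice → Q ⧸ Subgroup.center Q := fun u => ψ (g₀⁻¹ • u)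
  have hψ' : Cfsg.IsLeechModTwoIso Q e' ψ' := by
    refine ⟨fun a b => ?_, fun q => ?_, fun a => ?_, fun h k hk u q hq => ?_⟩
    · show ψ (g₀⁻¹ • (a + b)) = _
      rw [smul_add', hψ.1]
    · obtain ⟨u, hu⟩ := hψ.2.1 q
      exact ⟨g₀ • u, by show ψ (g₀⁻¹ • (g₀ • u)) = q; rw [inv_smul_smul, hu]⟩
    · show ψ (g₀⁻¹ • a) = 1 ↔ _
      rw [hψ.2.2.1]
      constructor
      · rintro ⟨u, hu⟩
        exact ⟨g₀ • u, by rw [← smul_add', ← hu, smul_inv_smul]⟩
      · rintro ⟨u, rfl⟩
        exact ⟨g₀⁻¹ • u, smul_add' _ _ _⟩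
    · have hk' : (QuotientGroup.mk (g₀⁻¹ * k * g₀) : Cfsg.Spor.Co1) = e (QuotientGroup.mk h) := by
        rw [QuotientGroup.mk_mul, QuotientGroup.mk_mul, hk, QuotientGroup.mk_inv]
        show _ * (toCo1 g₀ * e (QuotientGroup.mk h) * (toCo1 g₀)⁻¹) * _ = _
        simp [mul_assoc]
      have := hψ.2.2.2 h (g₀⁻¹ * k * g₀) hk' (g₀⁻¹ • u) q hq
      show ψ (g₀⁻¹ • (k • u)) = _
      rw [← this, mul_smul, mul_smul, smul_inv_smul]
  have hvx' : ψ' (frame none) = QuotientGroup.mk x := by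
    show ψ (g₀⁻¹ • frame none) = _
    rw [← hg₀, inv_smul_smul, hvx]
  have hxc : x ∉ Subgroup.center Q :=
    Ty.notMem_center hψ ⟨v, hv, hvx⟩ (by norm_num) le_rfl
  have hX : (imgC Q (g * z * g⁻¹)).map e'.toMonoidHom = crossStab.map toCo1 := by
    rw [← clsStab_frame]; exact imgC_eq hS hψ' hxc hvx'
  set A := (imgQ Q g).map e'.toMonoidHom with hA
  have hle : A ≤ signSub.map toCo1 := by
    refine le_signs A (hX ▸ Subgroup.map_mono (imgQ_le hS hgQ hgz)) ?_ ?_
    · intro k hk a ha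
      obtain ⟨b, hb, rfl⟩ := ha
      obtain ⟨c, hc, hce⟩ : toCo1 k ∈ (imgC Q (g * z * g⁻¹)).map e'.toMonoidHom :=
        hX ▸ Subgroup.mem_map_of_mem toCo1 hk
      refine ⟨c * b * c⁻¹, imgQ_conj hS hgQ hgz c hc b hb, ?_⟩
      rw [map_mul, map_mul, map_inv, hce]
    · rintro _ ⟨b, hb, rfl⟩
      rw [← map_mul, imgQ_sq hS hgQ hgz b hb, map_one]
  obtain ⟨h1, h2⟩ := card_inf_mul hS hgQ hgz (by norm_num)
  have hcA : Nat.card A = Nat.card (imgQ Q g) := Subgroup.card_map_of_injective e'.injective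
  have hfin : Finite (signSub.map toCo1 : Subgroup Cfsg.Spor.Co1) := by
    haveI := finite_Co0
    infer_instance
  have h3 : Nat.card A ≤ Nat.card (signSub.map toCo1) := Subgroup.card_le_of_le hle
  have h4 := card_signs
  rw [← hcA] at h1
  set a := Nat.card ↥(bigQ Q ⊓ (bigQ Q).map (MulAut.conj g).toMonoidHom)
  set c := Nat.card A
  have hc11 : c ≤ 2 ^ 11 := h3.trans h4
  have hA11 : c = 2 ^ 11 := by
    by_contra hne
    have : a * c ≤ 2 ^ (12 + 1) * (2 ^ 11 - 1) := Nat.mul_le_mul h2 (by omega)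
    norm_num at this h1
    omega
  have ha13 : a = 2 ^ 13 := by
    by_contra hne
    rw [hA11] at h1
    have : a * 2 ^ 11 ≤ (2 ^ 13 - 1) * 2 ^ 11 := Nat.mul_le_mul_right _ (by norm_num at h2 ⊢; omega)
    norm_num at this h1
    omega
  refine ⟨ha13, hcA ▸ hA11, e', hX, ?_⟩
  exact Subgroup.eq_of_le_of_card_ge hle (h4.trans hA11.ge)

end Cfsg.Agent.MonsterPair
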