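import Cfsg.Agent.Lib.Golay.SylowTwoGroups
import Cfsg.Agent.Lib.Golay.SylowSelfNorm
import Cfsg.Agent.Lib.LeechAut.McL
import Cfsg.Agent.GroupStructure3.McLOut.Main

/-!
The 2-fusion system of the McLaughlin group is simple: a Sylow 2-subgroup lies in a point stabiliser
isomorphic to the Mathieu group on 22 points, of odd index 2025, and fixes no other of the 2025 points.
-/

set_option autoImplicit false
set_option maxRecDepth 20000

namespace Cfsg.Agent.LargeExtra.McLFusion

open Cfsg Cfsg.Agent.Golay.Basic Cfsg.Agent.Golay.Cert Cfsg.Agent.Golay.TabList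
  Cfsg.Agent.Golay.SylowTwoData Cfsg.Agent.Golay.SylowTwo Cfsg.Agent.Golay.M24
  Cfsg.Agent.Golay.Perm Cfsg.Agent.Golay.Trans Cfsg.Agent.LeechAut

local notation "pG" => Equiv.Perm GolayPt
local notation "GG" => McL.G
local notation "lp" => leechLattice

theorem heq22 : Spor.M22 = fixers Cfsg.M24 [none, some 0] := by
  ext g
  simp [Spor.M22, Spor.M23, mem_fixers, Equiv.Perm.smul_def, and_assoc]

theorem tab_mem22 (t : ℕ) (ht : tabOK t = true) (h : (tabAt t 23 == 23 && tabAt t 0 == 0) = true) :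
    tabPerm t ∈ Spor.M22 := by
  rw [heq22]
  simp only [Bool.and_eq_true, beq_iff_eq] at h
  refine ⟨tabPerm_mem ht, fun x hx => ?_⟩
  rcases List.mem_cons.1 hx with rfl | hx
  · rw [show (none : GolayPt) = pt 23 by decide +kernel]
    exact fix_of_tab (by norm_num) ht h.1
  · obtain rfl := List.mem_singleton.1 hx
    rw [show (some 0 : GolayPt) = pt 0 by decide +kernel]
    exact fix_of_tab (by norm_num) ht h.2

theorem card22 : Nat.card Spor.M22 = 443520 := by
  rw [heq22, card_fixers (by decide) (by simp)]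
  decide +kernel

theorem center_cases22 {c : pG} (hc : c ∈ tabGroup s22Pc) (hcomm : ∀ a ∈ s22Pc, tabPerm a * c = c * tabPerm a) :
    c = 1 ∨ c = tabPerm s22Z := by
  obtain ⟨hTabL, hmemL, -⟩ := spec s22_list
  have hok : ∀ g ∈ s22Pc, tabOK g = true := by
    have h := s22_list
    simp only [listOK, Bool.and_eq_true, List.all_eq_true] at h
    exact h.1.1.1.1
  obtain ⟨t, ht, et⟩ := (hmemL _).1 hc
  have h3 := List.all_eq_true.1 s22_center t ht
  simp only [Bool.or_eq_true, beq_iff_eq, List.any_eq_true, Bool.not_eq_eq_eq_not, Bool.not_true,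
    beq_eq_false_iff_ne, ne_eq] at h3
  rcases h3 with (h3 | h3) | ⟨a, ha, h3⟩
  · exact Or.inl (by rw [et, h3, tabPerm_idTab])
  · exact Or.inr (by rw [et, h3])
  · exfalso
    apply h3
    have h5 := isTab_mul (isTab_tabPerm (hok a ha)) (hTabL t ht).1
    rw [show tabPerm a * tabPerm t = tabPerm t * tabPerm a by rw [← et]; exact hcomm a ha] at h5
    exact eq_of_isTab (canon_mulTab _ _) (canon_mulTab _ _) h5
      (isTab_mul (hTabL t ht).1 (isTab_tabPerm (hok a ha)))

theorem closed_top {U : Subgroup pG}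
    (hU : ∀ k ∈ Spor.M22, ∀ x ∈ U, k * x * k⁻¹ ∈ tabGroup s22Pc → k * x * k⁻¹ ∈ U)
    {c : pG} (hcU : c ∈ U) (hc1 : c ≠ 1) (hcP : c ∈ tabGroup s22Pc)
    (hcomm : ∀ a ∈ s22Pc, tabPerm a * c = c * tabPerm a) : tabGroup s22Pc ≤ U := by
  have hz : tabPerm s22Z ∈ U := (center_cases22 hcP hcomm).resolve_left hc1 ▸ hcU
  have hX := gen_mem tab_mem22 s22_list U hU _ [s22Z] s22_gen (fun x hx => by
    rw [List.mem_singleton.1 hx]; exact hz)
  exact tabGroup_le s22_list s22_words (T := U) (by simpa using hX)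

theorem normalizer22 (S : Sylow 2 Spor.M22) :
    Subgroup.normalizer ((S : Subgroup Spor.M22) : Set Spor.M22) = (S : Subgroup Spor.M22) :=
  Golay.SylowSelfNorm.normalizer_eq tab_mem22 s22_list s22_inG s22_rows s22_prop s22_top s22_levels
    s22_tree (m := 3465) (by rw [card22]; decide +kernel) (by norm_num) S

theorem pc_len : s22Pc.length = 7 := by decide +kernel

theorem tabGroup_le22 : tabGroup s22Pc ≤ Spor.M22 := tabGroup_le_of fun g hg => by
  have h := s22_list
  simp only [listOK, Bool.and_eq_true, List.all_eq_true] at h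
  exact tab_mem22 g (h.1.1.1.1 g hg) (List.all_eq_true.1 s22_inG g hg)

theorem mem_M22s_of {g : pG} (hg : g ∈ Spor.M22) :
    ∃ h : g ∈ Cfsg.M24, (⟨g, h⟩ : Cfsg.M24) ∈ McL.M22s := by
  rw [heq22, mem_fixers] at hg
  obtain ⟨h, hfix⟩ := hg
  refine ⟨h, McL.mem_M22s.2 ⟨hfix none (by simp), ?_⟩⟩
  have := hfix (some 0) (by simp)
  rwa [show (pt 0 : GolayPt) = some 0 by decide +kernel]

/-- The two-point stabiliser of the definitions into that of the library. -/
def toM22s : Spor.M22 →* McL.M22s :=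
  MonoidHom.mk' (fun g => ⟨⟨g.1, (mem_M22s_of g.2).1⟩, (mem_M22s_of g.2).2⟩) fun _ _ => rfl

/-- The point stabiliser. -/
def emb : Spor.M22 →* GG := (Subgroup.inclusion McL.S_le_G).comp (McL.liftHom.comp toM22s)

theorem emb_injective : Function.Injective emb := fun a b e => by
  have e' := McL.liftHom_bijective.1 (Subgroup.inclusion_injective McL.S_le_G e)
  exact Subtype.ext (congrArg (fun s : McL.M22s => ((s : Cfsg.M24) : pG)) e')

theorem emb_fixes (g : Spor.M22) : emb g • McL.x0 = McL.x0 :=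
  Subtype.ext (McL.mem_S.1 (McL.liftHom (toM22s g)).2).2

theorem fix_x0_iff {g : GG} : g • McL.x0 = McL.x0 ↔ g ∈ emb.range := by
  refine ⟨fun h => ?_, fun ⟨a, ha⟩ => ha ▸ emb_fixes a⟩
  have hle : emb.range ≤ MulAction.stabilizer GG McL.x0 := fun _ ⟨a, ha⟩ => ha ▸ emb_fixes a
  haveI : Finite GG := Nat.finite_of_card_ne_zero (by rw [McL.card_G]; norm_num)
  have e := Subgroup.eq_of_le_of_card_ge hle (by
    rw [McL.stab_x0, Nat.card_congr (Subgroup.subgroupOfEquivOfLe McL.S_le_G).toEquiv, McL.card_S,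
      ← Nat.card_congr (MonoidHom.ofInjective emb_injective).toEquiv, card22])
  rw [e]
  exact h

theorem finite_G : Finite GG := Nat.finite_of_card_ne_zero (by rw [McL.card_G]; norm_num)

/-- The Sylow subgroup. -/
noncomputable def SS : Subgroup GG := ((tabGroup s22Pc).subgroupOf Spor.M22).map emb

theorem card_SS : Nat.card SS = 128 := by
  rw [SS, Subgroup.card_map_of_injective emb_injective,
    Nat.card_congr (Subgroup.subgroupOfEquivOfLe tabGroup_le22).toEquiv, card_tabGroup s22_list, pc_len]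
  norm_num

theorem fix_unique {y : McL.X} (hy : ∀ s ∈ SS, s • y = y) : y = McL.x0 := by
  classical
  haveI := finite_G
  haveI : Finite McL.X := Nat.finite_of_card_ne_zero (by rw [McL.card_X]; norm_num)
  by_contra hne
  have hne' : y.1 ≠ McL.x0.1 := fun e => hne (Subtype.ext e)
  set O := MulAction.orbit (emb.range : Subgroup GG) y with hO
  have hx : McL.x0 ∉ O := by
    rintro ⟨⟨g, hg⟩, e⟩
    refine hne ?_
    have e' : g • y = McL.x0 := e
    calc y = g⁻¹ • McL.x0 := by rw [← e', inv_smul_smul]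
      _ = McL.x0 := by rw [inv_smul_eq_iff]; exact (fix_x0_iff.2 hg).symm
  have h1 := McL.invariant_card (O := insert McL.x0 O) (fun g hg z hz => by
    have hg' : g ∈ emb.range := fix_x0_iff.1 hg
    rcases hz with rfl | ⟨k, rfl⟩
    · exact Or.inl hg
    · exact Or.inr ⟨⟨g, hg'⟩ * k, mul_smul (⟨g, hg'⟩ : (emb.range : Subgroup GG)) k y⟩) (Set.mem_insert _ _)
  rw [Set.ncard_insert_of_notMem hx (Set.toFinite _)] at h1
  have hdvd : Nat.card SS ∣ Nat.card (MulAction.stabilizer (emb.range : Subgroup GG) y) := by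
    have hle : SS ≤ emb.range := by
      rintro _ ⟨a, -, rfl⟩
      exact ⟨a, rfl⟩
    rw [← Nat.card_congr (Subgroup.subgroupOfEquivOfLe hle).toEquiv]
    exact Subgroup.card_dvd_of_le fun s hs => hy s.1 hs
  have h2 := Subgroup.index_mul_card (MulAction.stabilizer (emb.range : Subgroup GG) y)
  rw [MulAction.index_stabilizer, ← hO, ← Nat.card_congr (MonoidHom.ofInjective emb_injective).toEquiv,
    card22] at h2
  rw [card_SS] at hdvd
  obtain ⟨m, hm⟩ := hdvd
  rw [hm] at h2
  have h3 : O.ncard * m = 3465 := by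
    have : 128 * (O.ncard * m) = 128 * 3465 := by rw [← mul_left_comm]; omega
    omega
  have hodd : O.ncard % 2 = 1 := by
    rcases Nat.mod_two_eq_zero_or_one O.ncard with h | h
    · exfalso
      have : (O.ncard * m) % 2 = 0 := by rw [Nat.mul_mod, h]; simp
      omega
    · exact h
  simp only [List.mem_cons, List.not_mem_nil, or_false] at h1
  have hpos : 0 < O.ncard := (Set.ncard_pos (Set.toFinite _)).2 ⟨y, MulAction.mem_orbit_self y⟩
  omega

theorem normalizer_SS : Subgroup.normalizer (SS : Set GG) ≤ SS := by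
  haveI := finite_G
  haveI : Fact (Nat.Prime 2) := ⟨Nat.prime_two⟩
  intro n hn
  have hfix : n • McL.x0 = McL.x0 := fix_unique fun s hs => by
    have hs' : n⁻¹ * s * n ∈ SS := by
      have := (Subgroup.mem_normalizer_iff.1 (inv_mem hn) s).1 hs
      simpa using this
    obtain ⟨a, -, ha⟩ := hs'
    have h := emb_fixes a
    rw [ha, mul_smul, mul_smul, inv_smul_eq_iff] at h
    exact h
  obtain ⟨a, rfl⟩ := fix_x0_iff.1 hfix
  have hfac : (Nat.card Spor.M22).factorization 2 = 7 := by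
    rw [card22, show (443520 : ℕ) = 2 ^ 7 * 3465 by norm_num, Nat.factorization_mul (by norm_num) (by norm_num),
      Finsupp.add_apply, Nat.Prime.factorization_pow Nat.prime_two, Finsupp.single_eq_same,
      Nat.factorization_eq_zero_of_not_dvd (by norm_num : ¬ 2 ∣ 3465)]
  let P : Sylow 2 Spor.M22 := Sylow.ofCard ((tabGroup s22Pc).subgroupOf Spor.M22) (by
    rw [Nat.card_congr (Subgroup.subgroupOfEquivOfLe tabGroup_le22).toEquiv, card_tabGroup s22_list, pc_len, hfac])
  have hP : ∀ x, emb x ∈ SS ↔ x ∈ (P : Subgroup Spor.M22) := fun x => Subgroup.mem_map_iff_mem emb_injective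
  have ha : a ∈ Subgroup.normalizer ((P : Subgroup Spor.M22) : Set Spor.M22) := by
    rw [Subgroup.mem_normalizer_iff] at hn ⊢
    intro x
    rw [← hP, ← hP, map_mul, map_mul, map_inv]
    exact hn _
  rw [normalizer22 P] at ha
  exact (hP a).2 ha

theorem SS_top {T : Subgroup GG} (hTS : T ≤ SS)
    (hcl : ∀ g x : GG, x ∈ T → g * x * g⁻¹ ∈ SS → g * x * g⁻¹ ∈ T)
    {u : GG} (hu : u ∈ T) (hu1 : u ≠ 1) (huc : ∀ s ∈ SS, s * u = u * s) : T = SS := by
  refine le_antisymm hTS ?_
  set U : Subgroup pG := (T.comap emb).map Spor.M22.subtype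
  obtain ⟨c, hc, rfl⟩ := hTS hu
  have htop := closed_top (U := U) (c := (c : pG)) ?_ ⟨c, hu, rfl⟩ ?_ hc ?_
  · rintro _ ⟨x, hx, rfl⟩
    obtain ⟨y, hy, e⟩ := htop hx
    rw [← Subtype.ext e]
    exact hy
  · rintro k hk _ ⟨x, hx, rfl⟩ hP
    refine ⟨⟨k, hk⟩ * x * ⟨k, hk⟩⁻¹, ?_, rfl⟩
    show emb _ ∈ T
    rw [map_mul, map_mul, map_inv]
    refine hcl _ _ hx ?_
    rw [← map_inv, ← map_mul, ← map_mul]
    exact ⟨_, hP, rfl⟩
  · intro e
    refine hu1 ?_
    rw [show c = 1 from Subtype.ext e, map_one]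
  · intro a ha
    have haP : tabPerm a ∈ tabGroup s22Pc := Subgroup.subset_closure ⟨a, ha, rfl⟩
    have h := huc (emb ⟨tabPerm a, tabGroup_le22 haP⟩) ⟨_, haP, rfl⟩
    rw [← map_mul, ← map_mul] at h
    exact congrArg Subtype.val (emb_injective h)

variable {G : Type*} [Group G] [Finite G]

/-- The fusion system is simple. -/
theorem isSimple (hG : Cfsg.Spor.IsoMcL G) (P : Sylow 2 G) :
    (groupFusionSystem (P : Subgroup G)).IsSimple 2 := by
  haveI : Fact (Nat.Prime 2) := ⟨Nat.prime_two⟩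
  haveI := finite_G
  obtain ⟨e1⟩ := hG
  obtain ⟨e2⟩ := GroupStructure3.McLOut.nonempty_equiv
  set ψ₀ : G ≃* GG := e1.trans e2
  have hidx : ¬ 2 ∣ SS.index := by
    have h := SS.card_mul_index
    rw [card_SS, McL.card_G] at h
    omega
  let S1 : Sylow 2 GG := (IsPGroup.of_card (p := 2) (n := 7) (by rw [card_SS]; norm_num) : IsPGroup 2 SS).toSylow hidx
  obtain ⟨c, hc⟩ := MulAction.exists_smul_eq GG (P.mapSurjective (f := ψ₀.toMonoidHom) ψ₀.surjective) S1
  set ψ : G ≃* GG := ψ₀.trans (MulAut.conj c)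
  have hmap : (P : Subgroup G).map ψ.toMonoidHom = SS := by
    have h := congrArg (fun R : Sylow 2 GG => (R : Subgroup GG)) hc
    rw [show SS = (S1 : Subgroup GG) from rfl, ← hc]
    show _ = ((P : Subgroup G).map ψ₀.toMonoidHom).map (MulAut.conj c).toMonoidHom
    rw [Subgroup.map_map]
    rfl
  have hmem : ∀ x : G, ψ x ∈ SS ↔ x ∈ (P : Subgroup G) := fun x => by
    rw [← hmap]; exact Subgroup.mem_map_iff_mem (f := ψ.toMonoidHom) ψ.injective
  refine Fusion.SimpleCriterion.isSimple ?_ (fun T hT => ?_) ?_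
  · intro e'
    have h := card_SS
    rw [← hmap, e', Subgroup.map_bot, Subgroup.card_bot] at h
    omega
  · by_cases hne : T = ⊥
    · exact Or.inl hne
    right
    obtain ⟨u, hu, hu1, huc⟩ := Fusion.SimpleCriterion.exists_central hT hne
    have := SS_top (T := T.map ψ.toMonoidHom) ?_ ?_ (u := ψ u) ⟨u, hu, rfl⟩
      ((map_ne_one_iff ψ ψ.injective).2 hu1) ?_
    · exact Subgroup.map_injective (f := ψ.toMonoidHom) ψ.injective (this.trans hmap.symm)
    · exact hmap ▸ Subgroup.map_mono hT.1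
    · intro g _ hx hgx
      obtain ⟨x, hx, rfl⟩ := hx
      obtain ⟨g, rfl⟩ := ψ.surjective g
      have e' : ψ g * ψ x * (ψ g)⁻¹ = ψ (g * x * g⁻¹) := by simp
      change ψ g * ψ x * (ψ g)⁻¹ ∈ _ at hgx
      rw [e', hmem] at hgx
      exact ⟨_, Fusion.SimpleCriterion.closed hT hx hgx, e'.symm⟩
    · intro s hs
      rw [← hmap] at hs
      obtain ⟨s, hs, rfl⟩ := hs
      show ψ s * ψ u = ψ u * ψ s
      rw [← map_mul, ← map_mul, huc s hs]
  · intro n hn
    refine Subgroup.subset_closure (Or.inl (Or.inr ?_))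
    refine (hmem n).1 (normalizer_SS ?_)
    rw [Subgroup.mem_normalizer_iff] at hn ⊢
    intro y
    obtain ⟨y, rfl⟩ := ψ.surjective y
    rw [show ψ n * ψ y * (ψ n)⁻¹ = ψ (n * y * n⁻¹) by simp, hmem, hmem]
    exact hn y

end Cfsg.Agent.LargeExtra.McLFusion
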