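import Cfsg.Agent.Lib.LargeExtra.Centralizer
import Cfsg.Agent.Lib.Cores.Nilpotent

/-!
A non-trivial normal subgroup contains the central involution of a large extraspecial subgroup.
-/

set_option autoImplicit false

namespace Cfsg.Agent.LargeExtra

open Subgroup

variable {G : Type*} [Group G] [Finite G]

theorem mem_of_normal {Q : Subgroup G} {z : G} (h : Ctr Q z) (hQ : Cfsg.IsLargeExtraspecial Q)
    (N : Subgroup G) [hN : N.Normal] (hN1 : N ≠ ⊥) : z ∈ N := by
  haveI : Fact (Nat.Prime 2) := ⟨Nat.prime_two⟩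
  obtain ⟨S, hS⟩ := h.pgroup.exists_le_sylow
  have heven : ¬ Odd (Nat.card ↥N) := fun ho => hN1 (hQ.2.2.2 N ho (by rw [normalizer_eq_top]; exact le_top))
  obtain ⟨x, hx⟩ := exists_prime_orderOf_dvd_card' (G := ↥N) 2 (Nat.not_odd_iff_even.1 heven).two_dvd
  have hxp : IsPGroup 2 ↥(zpowers (x : G)) := IsPGroup.of_card (n := 1) (by
    rw [Nat.card_zpowers, orderOf_coe, hx, pow_one])
  obtain ⟨T, hT⟩ := hxp.exists_le_sylow
  obtain ⟨g, hg⟩ := MulAction.exists_smul_eq G T S
  have hy : g * (x : G) * g⁻¹ ∈ (S : Subgroup G) := by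
    rw [← hg]
    exact smul_mem_pointwise_smul _ (MulAut.conj g) _ (hT (mem_zpowers _))
  haveI := S.isPGroup'.isNilpotent
  have hne : N.subgroupOf (S : Subgroup G) ≠ ⊥ := by
    intro e
    have hm : (⟨_, hy⟩ : ↥(S : Subgroup G)) ∈ N.subgroupOf (S : Subgroup G) :=
      mem_subgroupOf.2 (hN.conj_mem _ x.2 g)
    rw [e, mem_bot] at hm
    have h1 : (x : G) = 1 := conj_eq_one_iff.1 (congrArg Subtype.val hm)
    have h2 : orderOf (x : G) = 2 := by rw [orderOf_coe, hx]
    rw [h1, orderOf_one] at h2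
    exact absurd h2 (by norm_num)
  obtain ⟨w, hw, hw1⟩ : ∃ w ∈ N.subgroupOf (S : Subgroup G) ⊓ center ↥(S : Subgroup G), w ≠ 1 := by
    by_contra hc
    push Not at hc
    exact Cfsg.Agent.Cores.inf_center_ne_bot hne (eq_bot_iff.2 fun w hw => mem_bot.2 (hc w hw))
  have hwz : (w : G) ∈ zpowers z := by
    rw [← h.cent, mem_centralizer_iff]
    intro q hq
    exact congrArg Subtype.val (mem_center_iff.1 hw.2 ⟨q, hS hq⟩)
  rcases h.mem_zpowers_cases hwz with e | e
  · exact absurd (Subtype.ext e) hw1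
  · exact e ▸ mem_subgroupOf.1 hw.1

/-- If `⊤` is the only normal subgroup containing `z` then the group is simple. -/
theorem isSimpleGroup_of {Q : Subgroup G} {z : G} (h : Ctr Q z) (hQ : Cfsg.IsLargeExtraspecial Q)
    (htop : ∀ N : Subgroup G, N.Normal → z ∈ N → N = ⊤) : IsSimpleGroup G := by
  haveI : Nontrivial G := ⟨⟨z, 1, h.ne_one⟩⟩
  refine ⟨fun N hN => ?_⟩
  by_cases hN1 : N = ⊥
  · exact Or.inl hN1
  · exact Or.inr (htop N hN (mem_of_normal h hQ N hN1))

end Cfsg.Agent.LargeExtra
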