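import Cfsg.Agent.Lib.LargeExtra.Centralizer
import Cfsg.Agent.Lib.Transfer.NormalPComplement
import Cfsg.Agent.Lib.Cores.Basic

/-!
Passing to a quotient by a subgroup of odd order; groups of order twice odd with a central involution.
-/

set_option autoImplicit false

namespace Cfsg.Agent.LargeExtra

open Subgroup

variable {G : Type*} [Group G]

/-- Two elements of 2-power order congruent modulo an odd subgroup commuting with one of them are equal. -/
theorem eq_of_mod [Finite G] {A : Subgroup G} (hA : Odd (Nat.card ↥A)) {x y : G} {N : ℕ}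
    (hx : x ^ 2 ^ N = 1) (hy : y ^ 2 ^ N = 1) (hd : x * y⁻¹ ∈ A) (hc : ∀ b ∈ A, b * y = y * b) : x = y := by
  have hpow : (x * y⁻¹) ^ 2 ^ N = 1 := by
    have hcom : Commute (x * y⁻¹) y := hc _ hd
    calc (x * y⁻¹) ^ 2 ^ N = (x * y⁻¹) ^ 2 ^ N * y ^ 2 ^ N := by rw [hy, mul_one]
      _ = 1 := by rw [← hcom.mul_pow, inv_mul_cancel_right, hx]
  have h1 : orderOf (x * y⁻¹) ∣ 2 ^ N := orderOf_dvd_of_pow_eq_one hpow
  have h2 : orderOf (x * y⁻¹) ∣ Nat.card ↥A := Subgroup.orderOf_dvd_natCard _ hd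
  have h3 : orderOf (x * y⁻¹) = 1 :=
    Nat.eq_one_of_dvd_coprimes ((Nat.coprime_two_left.2 hA).pow_left N) h1 h2
  exact mul_inv_eq_one.1 (orderOf_eq_one_iff.1 h3)

/-- A group of order twice odd with a central involution is the odd core times that involution. -/
theorem mem_oddCore_mul {H : Type*} [Group H] [Finite H] {z : H} (hzc : z ∈ center H) (hz : orderOf z = 2)
    (h4 : ¬ 4 ∣ Nat.card H) (x : H) : x ∈ Cfsg.oddCore H ∨ x * z ∈ Cfsg.oddCore H := by
  haveI : Fact (Nat.Prime 2) := ⟨Nat.prime_two⟩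
  have hp : IsPGroup 2 ↥(zpowers z) := IsPGroup.of_card (n := 1) (by rw [Nat.card_zpowers, hz, pow_one])
  obtain ⟨P, hP⟩ := hp.exists_le_sylow
  have hPz : (P : Subgroup H) = zpowers z := by
    refine (eq_of_le_of_card_ge hP ?_).symm
    rw [Nat.card_zpowers, hz]
    obtain ⟨k, hk⟩ := IsPGroup.iff_card.1 P.isPGroup'
    have hd : 2 ^ k ∣ Nat.card H := hk ▸ card_subgroup_dvd_card _
    rw [hk]
    rcases k with _ | _ | k
    · norm_num
    · norm_num
    · exact absurd ((pow_dvd_pow 2 (show 2 ≤ k + 1 + 1 by omega)).trans hd) h4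
  have hN : normalizer (P : Set H) ≤ centralizer (P : Set H) := by
    intro n _
    rw [mem_centralizer_iff]
    intro w hw
    have hw' : w ∈ center H := (zpowers_le.2 hzc) (hPz ▸ hw)
    exact (mem_center_iff.1 hw' n).symm
  obtain ⟨P', N, hNn, hc⟩ :=
    Cfsg.Agent.Transfer.NormalPComplement.hasNormalPComplement_of_normalizer_le_centralizer P hN
  have hP' : Nat.card ↥(P' : Subgroup H) = 2 := by
    rw [P'.card_eq_multiplicity, ← P.card_eq_multiplicity, hPz, Nat.card_zpowers, hz]
  have hcard : Nat.card ↥N * 2 = Nat.card H := by rw [← hP']; exact hc.card_mul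
  have hodd : Odd (Nat.card ↥N) := by
    rw [Nat.odd_iff]
    by_contra h
    obtain ⟨m, hm⟩ : 2 ∣ Nat.card ↥N := Nat.dvd_of_mod_eq_zero (by omega)
    exact h4 ⟨m, by rw [← hcard, hm]; ring⟩
  have hle := Cfsg.Agent.Cores.le_oddCore hodd
  have hidx : N.index = 2 := by
    have h0 := N.card_mul_index
    rw [← hcard] at h0
    exact mul_left_cancel₀ (Nat.card_pos.ne') h0
  have hzN : z ∉ N := fun h => by
    have := Subgroup.orderOf_dvd_natCard N h
    rw [hz] at this
    exact hodd.not_two_dvd_nat this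
  by_cases hx : x ∈ N
  · exact Or.inl (hle hx)
  · refine Or.inr (hle ?_)
    rw [mul_mem_iff_of_index_two hidx]
    exact iff_of_false hx hzN

end Cfsg.Agent.LargeExtra
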