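import Cfsg.Agent.Lib.LargeExtra.Structure

/-!
`⟨Q, Q'⟩ / R ≅ S₃`, acting on `{z, a, za}`.
-/

set_option autoImplicit false

namespace Cfsg.Agent.LargeExtra

open Subgroup
open scoped commutatorElement

variable {G : Type*} [Group G]

/-- The three involutions of `⟨z, a⟩`. -/
abbrev Tri (z a : G) : Type _ := {x : G // x = z ∨ x = a ∨ x = z * a}

/-- The permutations of the three involutions induced by a subgroup stabilising them. -/
def triHom (N : Subgroup G) (z a : G)
    (hN : ∀ n ∈ N, ∀ x : Tri z a, n * (x : G) * n⁻¹ = z ∨ n * (x : G) * n⁻¹ = a ∨ n * (x : G) * n⁻¹ = z * a) :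
    ↥N →* Equiv.Perm (Tri z a) where
  toFun n :=
    { toFun := fun x => ⟨(n : G) * x * (n : G)⁻¹, hN n n.2 x⟩
      invFun := fun x => ⟨(n : G)⁻¹ * x * n, by simpa using hN _ (N.inv_mem n.2) x⟩
      left_inv := fun x => Subtype.ext (by simp [mul_assoc])
      right_inv := fun x => Subtype.ext (by simp [mul_assoc]) }
  map_one' := Equiv.ext fun x => Subtype.ext (by simp)
  map_mul' n m := Equiv.ext fun x => Subtype.ext (by
    simp only [Equiv.coe_fn_mk, Equiv.Perm.coe_mul, Function.comp_apply, Subgroup.coe_mul, mul_inv_rev]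
    simp [mul_assoc])

theorem triHom_apply (N : Subgroup G) (z a : G) (hN) (n : ↥N) (x : Tri z a) :
    ((triHom N z a hN n x : Tri z a) : G) = (n : G) * x * (n : G)⁻¹ := rfl

namespace Pair₂

variable [Finite G] {Q Q' : Subgroup G} {z a : G} (P : Pair₂ Q Q' z a)
include P

theorem mem_closure_cases {x : G} (hx : x ∈ Subgroup.closure ({z, a} : Set G)) :
    x = 1 ∨ x = z ∨ x = a ∨ x = z * a := by
  let S : Subgroup G :=
    { carrier := {x | ∃ u ∈ zpowers z, ∃ v ∈ zpowers a, x = u * v}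
      one_mem' := ⟨1, one_mem _, 1, one_mem _, by simp⟩
      mul_mem' := by
        rintro _ _ ⟨u, hu, v, hv, rfl⟩ ⟨u', hu', v', hv', rfl⟩
        refine ⟨u * u', mul_mem hu hu', v * v', mul_mem hv hv', ?_⟩
        have : v * u' = u' * v := by
          rcases P.p.h'.mem_zpowers_cases hv with rfl | rfl
          · simp
          · rcases P.p.h.mem_zpowers_cases hu' with rfl | rfl
            · simp
            · exact P.p.az
        calc u * v * (u' * v') = u * (v * u') * v' := by simp [mul_assoc]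
          _ = _ := by rw [this]; simp [mul_assoc]
      inv_mem' := by
        rintro _ ⟨u, hu, v, hv, rfl⟩
        refine ⟨u⁻¹, inv_mem hu, v⁻¹, inv_mem hv, ?_⟩
        rw [mul_inv_rev]
        rcases P.p.h'.mem_zpowers_cases hv with rfl | rfl
        · simp
        · rcases P.p.h.mem_zpowers_cases hu with rfl | rfl
          · simp
          · rw [P.p.h.inv_self, P.p.h'.inv_self]; exact P.p.az }
  have hle : Subgroup.closure ({z, a} : Set G) ≤ S := by
    rw [closure_le]
    rintro w (rfl | rfl)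
    · exact ⟨w, mem_zpowers w, 1, one_mem _, (mul_one _).symm⟩
    · exact ⟨1, one_mem _, w, mem_zpowers w, (one_mul _).symm⟩
  obtain ⟨u, hu, v, hv, rfl⟩ := hle hx
  rcases P.p.h.mem_zpowers_cases hu with rfl | rfl <;> rcases P.p.h'.mem_zpowers_cases hv with rfl | rfl <;>
    simp

theorem sup_le_normalizer_V : Q ⊔ Q' ≤ normalizer (Subgroup.closure ({z, a} : Set G) : Set G) := by
  have key : ∀ {R R' : Subgroup G} {u v : G}, Pair₂ R R' u v →
      R ≤ normalizer (Subgroup.closure ({u, v} : Set G) : Set G) := by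
    intro R R' u v P'
    rw [le_normalizer_iff]
    intro x hx w hw
    have hu : u ∈ Subgroup.closure ({u, v} : Set G) := subset_closure (by simp)
    have hv : v ∈ Subgroup.closure ({u, v} : Set G) := subset_closure (by simp)
    have h1 : x * u * x⁻¹ = u := P'.p.h.conj_z hx
    have h2 : x * v * x⁻¹ ∈ Subgroup.closure ({u, v} : Set G) := by
      rcases P'.p.conj_a hx with e | e <;> rw [e]
      · exact hv
      · exact mul_mem hu hv
    rcases P'.mem_closure_cases hw with rfl | rfl | rfl | rfl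
    · simp
    · rw [h1]; exact hu
    · exact h2
    · have : x * (u * v) * x⁻¹ = (x * u * x⁻¹) * (x * v * x⁻¹) := by simp [mul_assoc]
      rw [this, h1]; exact mul_mem hu h2
  refine sup_le (key P) ?_
  rw [Set.pair_comm]
  exact key P.symm

theorem tri_stable {n : G} (hn : n ∈ normalizer (Subgroup.closure ({z, a} : Set G) : Set G))
    (x : Tri z a) : n * (x : G) * n⁻¹ = z ∨ n * (x : G) * n⁻¹ = a ∨ n * (x : G) * n⁻¹ = z * a := by
  have hz : z ∈ Subgroup.closure ({z, a} : Set G) := subset_closure (by simp)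
  have ha : a ∈ Subgroup.closure ({z, a} : Set G) := subset_closure (by simp)
  have hx : (x : G) ∈ Subgroup.closure ({z, a} : Set G) := by
    rcases x.2 with e | e | e <;> rw [e]
    · exact hz
    · exact ha
    · exact mul_mem hz ha
  rcases P.mem_closure_cases ((mem_normalizer_iff.1 hn x).1 hx) with e | e | e | e
  · exfalso
    rw [conj_eq_one_iff] at e
    rcases x.2 with e' | e' | e' <;> rw [e] at e'
    · exact P.p.h.ne_one e'.symm
    · exact P.p.h'.ne_one e'.symm
    · exact P.p.za_ne_one e'.symm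
  · exact Or.inl e
  · exact Or.inr (Or.inl e)
  · exact Or.inr (Or.inr e)

theorem card_tri : Nat.card (Tri z a) = 3 := by
  show Nat.card ↥({z, a, z * a} : Set G) = 3
  rw [Nat.card_coe_set_eq, Set.ncard_eq_three]
  exact ⟨z, a, z * a, P.p.ne.symm, P.p.za_ne_z.symm, P.p.za_ne_a.symm, rfl⟩

/-- The main structure statement on `X = ⟨Q, Q'⟩`. -/
theorem quotient_data :
    core Q Q' z a = (Q ⊔ Q') ⊓ centralizer ({z, a} : Set G) ∧
    (∃ _ : ((core Q Q' z a).subgroupOf (Q ⊔ Q')).Normal,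
      Nonempty (↥(Q ⊔ Q') ⧸ (core Q Q' z a).subgroupOf (Q ⊔ Q') ≃* Equiv.Perm (Fin 3))) ∧
    normalizer (Subgroup.closure ({z, a} : Set G) : Set G) =
      (Q ⊔ Q') ⊔ centralizer ({z, a} : Set G) := by
  classical
  set X := Q ⊔ Q' with hX
  set R := core Q Q' z a with hR
  set N := normalizer (Subgroup.closure ({z, a} : Set G) : Set G) with hNdef
  haveI hn : (R.subgroupOf X).Normal := normal_subgroupOf_of_le_normalizer P.sup_le_normalizer
  have hXN : X ≤ N := P.sup_le_normalizer_V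
  let f : ↥N →* Equiv.Perm (Tri z a) := triHom N z a (fun n hn x => P.tri_stable hn x)
  have hfker : ∀ n : ↥N, f n = 1 ↔ (n : G) ∈ centralizer ({z, a} : Set G) := by
    intro n
    constructor
    · intro h
      have hzf := congrArg Subtype.val (Equiv.Perm.ext_iff.1 h ⟨z, Or.inl rfl⟩)
      have haf := congrArg Subtype.val (Equiv.Perm.ext_iff.1 h ⟨a, Or.inr (Or.inl rfl)⟩)
      rw [triHom_apply] at hzf haf
      exact P.mem_cV (mul_inv_eq_iff_eq_mul.1 hzf) (mul_inv_eq_iff_eq_mul.1 haf)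
    · intro h
      obtain ⟨h1, h2⟩ := P.cV_iff.1 h
      ext ⟨x, hx⟩
      show (n : G) * x * (n : G)⁻¹ = x
      rw [mul_inv_eq_iff_eq_mul]
      rcases hx with rfl | rfl | rfl
      · exact h1
      · exact h2
      · rw [← mul_assoc, h1, mul_assoc, h2, mul_assoc]
  let fX : ↥X →* Equiv.Perm (Tri z a) := f.comp (Subgroup.inclusion hXN)
  have hRker : R.subgroupOf X ≤ fX.ker := fun x hx => (hfker _).2 (P.core_le_cV hx)
  let F := QuotientGroup.lift (R.subgroupOf X) fX hRker
  let π : ↥X →* ↥X ⧸ R.subgroupOf X := QuotientGroup.mk' _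
  obtain ⟨q, hq, hqa⟩ := P.p.exists_swap
  obtain ⟨q', hq', hqz'⟩ := P.p'.exists_swap
  have hqz : q * z * q⁻¹ = z := P.p.h.conj_z hq
  have hqa' : q' * a * q'⁻¹ = a := P.p.h'.conj_z hq'
  have hqz'' : q' * z * q'⁻¹ = z * a := by rw [hqz', P.p.az]
  have hqn : q * a ≠ a * q := fun e => P.p.za_ne_a (by rw [← hqa, e, mul_inv_cancel_right])
  have hqn' : q' * z ≠ z * q' := fun e => P.p'.za_ne_a (by rw [← hqz', e, mul_inv_cancel_right])
  set s := π ⟨q, (le_sup_left : Q ≤ X) hq⟩ with hs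
  set t := π ⟨q', (le_sup_right : Q' ≤ X) hq'⟩ with ht
  have hπ : ∀ x : ↥X, π x = 1 ↔ (x : G) ∈ R := fun x => by
    show (x : ↥X ⧸ R.subgroupOf X) = 1 ↔ _
    rw [QuotientGroup.eq_one_iff, mem_subgroupOf]
  have hπe : ∀ x y : ↥X, (x : G)⁻¹ * y ∈ R → π x = π y := fun x y h => by
    show (x : ↥X ⧸ R.subgroupOf X) = y
    rw [QuotientGroup.eq, mem_subgroupOf]
    exact h
  have hQim : ∀ x : ↥X, (x : G) ∈ Q → π x = 1 ∨ π x = s := by
    intro x hx
    by_cases hxa : (x : G) * a = a * x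
    · exact Or.inl ((hπ x).2 (P.cQ_le_core ⟨hx, mem_centralizer_singleton_iff.2 hxa⟩))
    · exact Or.inr (hπe _ ⟨q, _⟩ (P.cQ_le_core (P.p.mul_mem_centralizer hx hq hxa hqn)))
  have hQ'im : ∀ x : ↥X, (x : G) ∈ Q' → π x = 1 ∨ π x = t := by
    intro x hx
    by_cases hxa : (x : G) * z = z * x
    · exact Or.inl ((hπ x).2 (P.cQ'_le_core ⟨hx, mem_centralizer_singleton_iff.2 hxa⟩))
    · exact Or.inr (hπe _ ⟨q', _⟩ (P.cQ'_le_core (P.p'.mul_mem_centralizer hx hq' hxa hqn')))
  have hs2 : s * s = 1 := by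
    rw [hs, ← map_mul, hπ]
    show q * q ∈ R
    rcases P.p.h.sq_cases hq with e | e <;> rw [e]
    · exact one_mem _
    · exact P.cQ_le_core ⟨P.p.h.z_mem, mem_centralizer_singleton_iff.2 P.p.az.symm⟩
  have ht2 : t * t = 1 := by
    rw [ht, ← map_mul, hπ]
    show q' * q' ∈ R
    rcases P.p.h'.sq_cases hq' with e | e <;> rw [e]
    · exact one_mem _
    · exact P.cQ'_le_core ⟨P.p.h'.z_mem, mem_centralizer_singleton_iff.2 P.p.az⟩
  have Fz : ∀ x : ↥X, ((F (π x) ⟨z, Or.inl rfl⟩ : Tri z a) : G) = x * z * (x : G)⁻¹ := fun _ => rfl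
  have Fa : ∀ x : ↥X, ((F (π x) ⟨a, Or.inr (Or.inl rfl)⟩ : Tri z a) : G) = x * a * (x : G)⁻¹ := fun _ => rfl
  have hsne : s ≠ 1 := fun e => hqn (mem_centralizer_singleton_iff.1 (by
    have := P.core_le_cV ((hπ _).1 e)
    exact mem_centralizer_singleton_iff.2 (P.cV_iff.1 this).2))
  have htne : t ≠ 1 := fun e => hqn' (P.cV_iff.1 (P.core_le_cV ((hπ _).1 e))).1
  -- the braid relation
  have hbraid : s * t * s = t * s * t := by
    have hn1 : (q⁻¹ * q') * z * (q⁻¹ * q')⁻¹ = a := by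
      calc (q⁻¹ * q') * z * (q⁻¹ * q')⁻¹ = q⁻¹ * (q' * z * q'⁻¹) * q := by group
        _ = q⁻¹ * (q * a * q⁻¹) * q := by rw [hqz'', hqa]
        _ = a := by group
    have hp : q'⁻¹ * (q * q' * q⁻¹) * q' ∈ Q := by
      have := (P.p.link _ hn1 q').1 hq'
      simpa [mul_assoc] using this
    obtain ⟨p, hpdef⟩ : ∃ p : ↥X, (p : G) = q'⁻¹ * (q * q' * q⁻¹) * q' :=
      ⟨⟨_, (le_sup_left : Q ≤ X) hp⟩, rfl⟩
    have e : π p = t⁻¹ * (s * t * s⁻¹) * t := by
      rw [hs, ht, ← map_inv, ← map_inv, ← map_mul, ← map_mul, ← map_mul, ← map_mul]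
      exact congrArg π (Subtype.ext hpdef)
    have ti : t⁻¹ = t := inv_eq_of_mul_eq_one_right ht2
    have si : s⁻¹ = s := inv_eq_of_mul_eq_one_right hs2
    rcases hQim p (hpdef ▸ hp) with h1 | h1
    · exfalso
      apply htne
      rw [h1] at e
      calc t = s⁻¹ * (t * (t⁻¹ * (s * t * s⁻¹) * t) * t⁻¹) * s := by group
        _ = 1 := by rw [← e]; group
    · rw [h1, si] at e
      calc s * t * s = t * (t⁻¹ * (s * t * s) * t) * t⁻¹ := by group
        _ = _ := by rw [← e, ti]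
  let W : Set (↥X ⧸ R.subgroupOf X) := {1, s, t, s * t, t * s, s * t * s}
  have hclS : ∀ w ∈ W, s * w ∈ W := by
    intro w hw
    simp only [W, Set.mem_insert_iff, Set.mem_singleton_iff] at hw ⊢
    rcases hw with rfl | rfl | rfl | rfl | rfl | rfl
    · simp
    · simp [hs2]
    · simp
    · simp [← mul_assoc, hs2]
    · simp [← mul_assoc]
    · simp [← mul_assoc, hs2]
  have hclT : ∀ w ∈ W, t * w ∈ W := by
    intro w hw
    simp only [W, Set.mem_insert_iff, Set.mem_singleton_iff] at hw ⊢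
    rcases hw with rfl | rfl | rfl | rfl | rfl | rfl
    · simp
    · simp
    · simp [ht2]
    · rw [← mul_assoc, ← hbraid]; simp
    · rw [← mul_assoc, ht2, one_mul]; simp
    · rw [hbraid, ← mul_assoc, ← mul_assoc, ht2, one_mul]; simp
  have hcl : ∀ x : G, ∀ hx : x ∈ X, ∀ w ∈ W, π ⟨x, hx⟩ * w ∈ W := by
    intro x hx
    have hx' : x ∈ Subgroup.closure ((Q : Set G) ∪ Q') := by rwa [← sup_eq_closure]
    have hXc : X = Subgroup.closure ((Q : Set G) ∪ Q') := sup_eq_closure _ _
    have : ∃ hx : x ∈ X, ∀ w ∈ W, π ⟨x, hx⟩ * w ∈ W := by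
      induction hx' using Subgroup.closure_induction with
      | mem y hy =>
        rcases hy with hy | hy
        · refine ⟨(le_sup_left : Q ≤ X) hy, fun w hw => ?_⟩
          rcases hQim ⟨y, (le_sup_left : Q ≤ X) hy⟩ hy with e | e <;> rw [e]
          · rwa [one_mul]
          · exact hclS w hw
        · refine ⟨(le_sup_right : Q' ≤ X) hy, fun w hw => ?_⟩
          rcases hQ'im ⟨y, (le_sup_right : Q' ≤ X) hy⟩ hy with e | e <;> rw [e]
          · rwa [one_mul]
          · exact hclT w hw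
      | one =>
        refine ⟨one_mem _, fun w hw => ?_⟩
        rw [show (⟨1, one_mem X⟩ : ↥X) = 1 from rfl, map_one, one_mul]
        exact hw
      | mul y y' _ _ h1 h2 =>
        obtain ⟨m1, h1⟩ := h1 (hXc ▸ ‹y ∈ Subgroup.closure _›)
        obtain ⟨m2, h2⟩ := h2 (hXc ▸ ‹y' ∈ Subgroup.closure _›)
        refine ⟨mul_mem m1 m2, fun w hw => ?_⟩
        rw [show (⟨y * y', mul_mem m1 m2⟩ : ↥X) = ⟨y, m1⟩ * ⟨y', m2⟩ from rfl, map_mul, mul_assoc]
        exact h1 _ (h2 w hw)
      | inv y _ h1 =>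
        obtain ⟨m1, h1⟩ := h1 (hXc ▸ ‹y ∈ Subgroup.closure _›)
        refine ⟨inv_mem m1, fun w hw => ?_⟩
        rw [show (⟨y⁻¹, inv_mem m1⟩ : ↥X) = (⟨y, m1⟩ : ↥X)⁻¹ from rfl, map_inv]
        generalize π ⟨y, m1⟩ = m at h1 ⊢
        have hpw : ∀ k : ℕ, m ^ k * w ∈ W := by
          intro k
          induction k with
          | zero => simpa using hw
          | succ k ih => rw [pow_succ', mul_assoc]; exact h1 _ ih
        obtain ⟨k, hk⟩ := Nat.exists_eq_add_of_le (orderOf_pos m : 1 ≤ orderOf m)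
        have : m⁻¹ = m ^ k := inv_eq_of_mul_eq_one_right (by
          rw [← pow_succ', add_comm k 1, ← hk, pow_orderOf_eq_one])
        rw [this]; exact hpw k
    obtain ⟨_, h⟩ := this
    exact h
  have hall : ∀ m, m ∈ W := by
    intro m
    obtain ⟨⟨x, hx⟩, rfl⟩ := QuotientGroup.mk'_surjective _ m
    have h := hcl x hx 1 (by simp [W])
    rwa [mul_one] at h
  have hst : ∀ x y : ↥X, ∀ e : G, (x : G) * y * e * ((x : G) * y)⁻¹ = x * (y * e * (y : G)⁻¹) * (x : G)⁻¹ :=
    fun x y e => by group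
  have hza' : q * (z * a) * q⁻¹ = a := by
    calc q * (z * a) * q⁻¹ = (q * z * q⁻¹) * (q * a * q⁻¹) := by group
      _ = a := by rw [hqz, hqa, P.p.z_za]
  have hinj : Function.Injective F := by
    rw [injective_iff_map_eq_one]
    intro m hm
    have hWm := hall m
    simp only [W, Set.mem_insert_iff, Set.mem_singleton_iff] at hWm
    have eval : ∀ x : Tri z a, F m x = x := fun x => by rw [hm]; rfl
    have ez := congrArg Subtype.val (eval ⟨z, Or.inl rfl⟩)
    have ea := congrArg Subtype.val (eval ⟨a, Or.inr (Or.inl rfl)⟩)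
    rcases hWm with rfl | rfl | rfl | rfl | rfl | rfl
    · rfl
    · rw [hs, Fa] at ea
      exact absurd (hqa.symm.trans ea) P.p.za_ne_a
    · rw [ht, Fz] at ez
      exact absurd (hqz''.symm.trans ez) P.p.za_ne_z
    · rw [hs, ht, ← map_mul, Fz, Subgroup.coe_mul, hst] at ez
      rw [hqz'', hza'] at ez
      exact absurd ez P.p.ne
    · rw [hs, ht, ← map_mul, Fz, Subgroup.coe_mul, hst] at ez
      rw [hqz, hqz''] at ez
      exact absurd ez P.p.za_ne_z
    · rw [hs, ht, ← map_mul, ← map_mul, Fz, Subgroup.coe_mul, hst, Subgroup.coe_mul, hqz] at ez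
      rw [mul_inv_rev] at ez
      have : q * (q' * z * q'⁻¹) * q⁻¹ = z := by simpa [mul_assoc] using ez
      rw [hqz'', hza'] at this
      exact absurd this P.p.ne
  haveI : Finite (Tri z a) := inferInstance
  have hcard6 : Nat.card (Equiv.Perm (Tri z a)) = 6 := by
    rw [Nat.card_perm, P.card_tri]; rfl
  have hge : 6 ∣ Nat.card (↥X ⧸ R.subgroupOf X) := by
    have h2 : orderOf s = 2 := orderOf_eq_prime (by rw [pow_two, hs2]) hsne
    have h3 : orderOf (s * t) = 3 := by
      refine orderOf_eq_prime ?_ ?_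
      · calc (s * t) ^ 3 = (s * t * s) * (t * s * t) := by simp [pow_succ, mul_assoc]
          _ = (t * s * t) * (t * s * t) := by rw [hbraid]
          _ = t * s * (t * t) * s * t := by simp [mul_assoc]
          _ = _ := by rw [ht2, mul_one, mul_assoc t s s, hs2, mul_one, ht2]
      · intro e
        have ez : ((F (s * t) ⟨z, Or.inl rfl⟩ : Tri z a) : G) = z := by rw [e, map_one]; rfl
        rw [hs, ht, ← map_mul, Fz, Subgroup.coe_mul, hst] at ez
        rw [hqz'', hza'] at ez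
        exact absurd ez P.p.ne
    exact Nat.Coprime.mul_dvd_of_dvd_of_dvd (by norm_num) (h2 ▸ orderOf_dvd_natCard s)
      (h3 ▸ orderOf_dvd_natCard (s * t))
  have hbij : Function.Bijective F := by
    refine hinj.bijective_of_nat_card_le ?_
    rw [hcard6]
    exact Nat.le_of_dvd Nat.card_pos hge
  refine ⟨?_, ⟨hn, ?_⟩, ?_⟩
  · refine le_antisymm (le_inf P.core_le_sup P.core_le_cV) ?_
    rintro x ⟨hx, hxc⟩
    refine (hπ ⟨x, hx⟩).1 (hinj ?_)
    rw [map_one]
    exact (hfker ⟨x, hXN hx⟩).2 hxc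
  · exact ⟨(MulEquiv.ofBijective F hbij).trans
      (Equiv.permCongrHom ((Finite.equivFin _).trans (finCongr P.card_tri)))⟩
  · refine le_antisymm ?_ (sup_le hXN ?_)
    · intro n hn'
      obtain ⟨m, hm⟩ := hbij.2 (f ⟨n, hn'⟩)
      obtain ⟨x, rfl⟩ := QuotientGroup.mk'_surjective _ m
      have hm' : f (Subgroup.inclusion hXN x) = f ⟨n, hn'⟩ := hm
      have hc : (x : G)⁻¹ * n ∈ centralizer ({z, a} : Set G) := by
        refine (hfker ((Subgroup.inclusion hXN x)⁻¹ * ⟨n, hn'⟩)).1 ?_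
        rw [map_mul, map_inv, hm', inv_mul_cancel]
      have : n = (x : G) * ((x : G)⁻¹ * n) := by group
      rw [this]
      exact mul_mem_sup x.2 hc
    · rw [← centralizer_closure]
      exact Set.subset_def ▸ centralizer_le_normalizer _

end Pair₂

end Cfsg.Agent.LargeExtra
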