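import Cfsg.Prelude.Def_Local
import Cfsg.Agent.Lib.LargeExtra.Minimal
import Cfsg.Agent.Lib.Components.Layer
import Cfsg.Agent.S5435

/-!
The normal closure of the central involution of a large extraspecial subgroup: components.
-/

set_option autoImplicit false

namespace Cfsg.Agent.LargeExtra.Trichotomy

open Subgroup
open Cfsg.Agent.Components.Basic Cfsg.Agent.Components.Fitting
open scoped commutatorElement

universe u

variable {G : Type u} [Group G]

/-- The conjugate of a subgroup. -/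
abbrev cj (g : G) (L : Subgroup G) : Subgroup G := L.map (MulAut.conj g).toMonoidHom

theorem mem_cj {g x : G} {L : Subgroup G} : x ∈ cj g L ↔ g⁻¹ * x * g ∈ L := by
  constructor
  · rintro ⟨y, hy, rfl⟩
    simpa [mul_assoc] using hy
  · exact fun h => ⟨_, h, by simp [mul_assoc]⟩

theorem conj_mem_cj {g x : G} {L : Subgroup G} (hx : x ∈ L) : g * x * g⁻¹ ∈ cj g L := ⟨x, hx, rfl⟩

theorem cj_mul (g k : G) (L : Subgroup G) : cj (g * k) L = cj g (cj k L) := by
  ext x
  rw [mem_cj, mem_cj, mem_cj]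
  simp [mul_assoc]

theorem cj_one (L : Subgroup G) : cj 1 L = L := by
  ext x
  rw [mem_cj]
  simp

theorem cj_eq_of_mem_normalizer {g : G} {L : Subgroup G} (hg : g ∈ normalizer (L : Set G)) : cj g L = L :=
  mem_normalizer_iff_map_conj_eq.1 hg

variable [Finite G] {Q : Subgroup G} {z : G} (h : Ctr Q z) (hQ : Cfsg.IsLargeExtraspecial Q)

section
include h hQ

theorem fitting_le_pCore_two : Cfsg.fittingSubgroup G ≤ Cfsg.pCore 2 G := by
  rw [fitting_eq_coreJoin]
  refine iSup_le fun p => ?_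
  by_cases hp : (p : ℕ) = 2
  · rw [hp]
  · haveI : Fact (Nat.Prime (p : ℕ)) := ⟨p.2⟩
    haveI := Cfsg.Agent.Cores.pCore_normal (G := G) (p : ℕ)
    obtain ⟨k, hk⟩ := IsPGroup.iff_card.1 (Cfsg.Agent.Cores.pCore_isPGroup (G := G) (p : ℕ))
    have hodd : Odd (Nat.card ↥(Cfsg.pCore (p : ℕ) G)) := hk ▸ (p.2.odd_of_ne_two hp).pow
    rw [hQ.2.2.2 _ hodd (by rw [normalizer_eq_top]; exact le_top)]
    exact bot_le

/-- The case in which the 2-core is non-trivial. -/
theorem abelian_case (hO : Cfsg.pCore 2 G ≠ ⊥) :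
    IsMulCommutative ↥(normalClosure ({z} : Set G)) ∧
      Cfsg.generalizedFittingSubgroup G = Cfsg.pCore 2 G := by
  haveI : Fact (Nat.Prime 2) := ⟨Nat.prime_two⟩
  haveI := Cfsg.Agent.Cores.pCore_normal (G := G) 2
  set O := Cfsg.pCore 2 G
  have hOp : IsPGroup 2 ↥O := Cfsg.Agent.Cores.pCore_isPGroup 2
  haveI := hOp.isNilpotent
  set Z := (center ↥O).map O.subtype
  haveI : Z.Normal := Cfsg.Agent.Cores.normal_map_subtype O _
  have hZ : Z ≠ ⊥ := by
    intro e
    rw [map_eq_bot_iff_of_injective _ O.subtype_injective] at e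
    haveI : Nontrivial ↥O := nontrivial_iff_ne_bot O |>.2 hO
    exact absurd e (IsPGroup.bot_lt_center hOp).ne'
  have hzZ : z ∈ Z := mem_of_normal h hQ Z hZ
  refine ⟨⟨⟨fun a b => Subtype.ext ?_⟩⟩, ?_⟩
  · have hle : normalClosure ({z} : Set G) ≤ Z := normalClosure_le_normal (Set.singleton_subset_iff.2 hzZ)
    obtain ⟨a', ha', hae⟩ := hle a.2
    obtain ⟨b', hb', hbe⟩ := hle b.2
    show (a : G) * b = b * a
    rw [← hae, ← hbe, ← map_mul, ← map_mul, mem_center_iff.1 ha' b']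
  · have hlay : Cfsg.layer G = ⊥ := by
      refine layer_eq_bot_iff.2 fun L hL => ?_
      have h1 : ⁅L, O⁆ = ⊥ :=
        component_commutator_eq_bot_of_isSolvable hL
          (Cfsg.Agent.Cores.pCore_normal (G := G) 2).isSubnormal inferInstance
      have h2 : L ≤ centralizer ({z} : Set G) := fun x hx => by
        have hx' := commutator_eq_bot_iff_le_centralizer.1 h1 hx
        rw [mem_centralizer_singleton_iff]
        exact (mem_centralizer_iff.1 hx' z (map_subtype_le _ hzZ)).symm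
      haveI := h.pgroup.isNilpotent
      have h3 := component_commutator_eq_bot_of_le_normalizer hL (H := Q) inferInstance (h2.trans h.norm)
      rw [commutator_eq_bot_iff_le_centralizer, h.cent] at h3
      exact component_not_le_of_isSolvable hL (inferInstance : Group.IsSolvable ↥(zpowers z)) h3
    rw [Cfsg.generalizedFittingSubgroup, hlay, bot_sup_eq]
    exact le_antisymm (fitting_le_pCore_two h hQ) (pCore_le_fitting 2)

variable (hO : Cfsg.pCore 2 G = ⊥)
include hO

theorem fitting_eq_bot : Cfsg.fittingSubgroup G = ⊥ :=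
  le_bot_iff.1 ((fitting_le_pCore_two h hQ).trans hO.le)

theorem genFitting_eq : Cfsg.generalizedFittingSubgroup G = Cfsg.layer G := by
  rw [Cfsg.generalizedFittingSubgroup, fitting_eq_bot h hQ hO, sup_bot_eq]

theorem centralizer_layer : centralizer (Cfsg.layer G : Set G) = ⊥ := by
  have h1 : centralizer (Cfsg.layer G : Set G) ≤ Cfsg.layer G := by
    rw [← genFitting_eq h hQ hO]; exact centralizer_genFitting_le
  refine le_bot_iff.1 ?_
  rw [← fitting_eq_bot h hQ hO]
  exact (le_inf h1 le_rfl).trans Cfsg.Agent.Components.Fitting.layer_inf_centralizer_le_fitting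

theorem component_center {L : Subgroup G} (hL : Cfsg.IsComponent L) :
    L ⊓ centralizer (L : Set G) = ⊥ := by
  refine le_bot_iff.1 ?_
  rw [← centralizer_layer h hQ hO]
  refine le_trans ?_ (inf_le_right : Cfsg.layer G ⊓ centralizer (Cfsg.layer G : Set G) ≤ _)
  rw [Cfsg.Agent.Components.Layer.iSup_center_eq]
  exact le_iSup (fun K : {K : Subgroup G // Cfsg.IsComponent K} =>
    (K : Subgroup G) ⊓ centralizer ((K : Subgroup G) : Set G)) ⟨L, hL⟩

theorem component_simple {L : Subgroup G} (hL : Cfsg.IsComponent L) :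
    IsSimpleGroup ↥L ∧ ¬ IsMulCommutative ↥L := by
  have hc : center ↥L = ⊥ := by
    rw [← map_eq_bot_iff_of_injective _ L.subtype_injective,
      Cfsg.Agent.Components.Layer.map_center_subtype, component_center h hQ hO hL]
  haveI : Nontrivial ↥L := (nontrivial_iff_ne_bot L).2 (component_ne_bot hL)
  refine ⟨⟨fun N hN => ?_⟩, fun hcomm => quasisimple_center_ne_top hL.2 ?_⟩
  · rcases quasisimple_eq_top_or_le_center_of_normal hL.2 N with e | e
    · exact Or.inr e
    · exact Or.inl (le_bot_iff.1 (hc ▸ e))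
  · exact eq_top_iff.2 fun x _ => mem_center_iff.2 fun y => hcomm.is_comm.comm y x

theorem closure_eq_layer : normalClosure ({z} : Set G) = Cfsg.layer G := by
  have hne : Cfsg.layer G ≠ ⊥ := fun e => by
    have h1 := centralizer_layer h hQ hO
    have h2 : z ∈ centralizer (Cfsg.layer G : Set G) := mem_centralizer_iff.2 fun y hy => by
      rw [e] at hy
      rw [mem_bot.1 hy, one_mul, mul_one]
    rw [h1, mem_bot] at h2
    exact h.ne_one h2
  set M := normalClosure ({z} : Set G)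
  have hME : M ≤ Cfsg.layer G :=
    normalClosure_le_normal (Set.singleton_subset_iff.2 (mem_of_normal h hQ _ hne))
  refine le_antisymm hME (layer_le fun L hL => ?_)
  rcases component_le_or_commutator_eq_bot hL (normalClosure_normal (s := ({z} : Set G))).isSubnormal with e | e
  · exact e
  exfalso
  have hN : (Cfsg.layer G ⊓ centralizer (M : Set G)) ≠ ⊥ := fun e' =>
    component_ne_bot hL (le_bot_iff.1 (e' ▸ le_inf (le_layer hL) (commutator_eq_bot_iff_le_centralizer.1 e)))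
  have hle : M ≤ centralizer (M : Set G) :=
    normalClosure_le_normal (Set.singleton_subset_iff.2 (mem_of_normal h hQ _ hN).2)
  haveI : IsMulCommutative ↥M := ⟨⟨fun a b => Subtype.ext (mem_centralizer_iff.1 (hle b.2) a a.2)⟩⟩
  haveI : Group.IsNilpotent ↥M := isNilpotent_of_isMulCommutative _
  have := le_fitting (N := M) (inferInstance : Group.IsNilpotent ↥M)
  rw [fitting_eq_bot h hQ hO] at this
  exact h.ne_one (mem_bot.1 (this (subset_normalClosure rfl)))

theorem z_mem_layer : z ∈ Cfsg.layer G := closure_eq_layer h hQ hO ▸ subset_normalClosure rfl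

theorem z_normalizes {L : Subgroup G} (hL : Cfsg.IsComponent L) : cj z L = L :=
  cj_eq_of_mem_normalizer (Cfsg.Agent.Components.Basic.layer_le_normalizer hL (z_mem_layer h hQ hO))

/-- `Q` is transitive on the components. -/
theorem transitive {L L' : Subgroup G} (hL : Cfsg.IsComponent L) (hL' : Cfsg.IsComponent L') :
    ∃ q ∈ Q, L' = cj q L := by
  by_contra hcon
  push Not at hcon
  haveI : Fact (Nat.Prime 2) := ⟨Nat.prime_two⟩
  set N₁ : Subgroup G := ⨆ q : ↥Q, cj (q : G) L with hN₁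
  set N₂ : Subgroup G := ⨆ K : {K : Subgroup G // Cfsg.IsComponent K ∧ ∀ q ∈ Q, K ≠ cj q L},
    (K : Subgroup G) with hN₂
  have hLN : L ≤ N₁ := by
    calc L = cj ((1 : ↥Q) : G) L := (cj_one L).symm
      _ ≤ _ := le_iSup (fun q : ↥Q => cj (q : G) L) 1
  have hL'N : L' ≤ N₂ :=
    le_iSup (fun K : {K : Subgroup G // Cfsg.IsComponent K ∧ ∀ q ∈ Q, K ≠ cj q L} => (K : Subgroup G))
      ⟨L', hL', hcon⟩
  have hcomm : N₁ ≤ centralizer (N₂ : Set G) := by
    refine iSup_le fun q => le_centralizer_iff.1 (iSup_le fun K => ?_)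
    exact commutator_eq_bot_iff_le_centralizer.1
      (component_commutator_eq_bot_of_ne K.2.1 (component_conj hL (q : G)) (K.2.2 q q.2))
  have hsup : Cfsg.layer G ≤ N₁ ⊔ N₂ := layer_le fun K hK => by
    by_cases hK' : ∃ q ∈ Q, K = cj q L
    · obtain ⟨q, hq, rfl⟩ := hK'
      exact (le_iSup (fun q : ↥Q => cj (q : G) L) ⟨q, hq⟩).trans le_sup_left
    · push Not at hK'
      exact (le_iSup (fun K : {K : Subgroup G // Cfsg.IsComponent K ∧ ∀ q ∈ Q, K ≠ cj q L} =>
        (K : Subgroup G)) ⟨K, hK, hK'⟩).trans le_sup_right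
  have hinf : N₁ ⊓ N₂ = ⊥ := by
    refine le_bot_iff.1 ?_
    rw [← centralizer_layer h hQ hO]
    refine le_trans ?_ (centralizer_le hsup)
    rintro x ⟨hx1, hx2⟩
    have hle : N₁ ⊔ N₂ ≤ centralizer ({x} : Set G) := sup_le
      (fun y hy => mem_centralizer_singleton_iff.2 (mem_centralizer_iff.1 (hcomm hy) x hx2).symm)
      (fun y hy => mem_centralizer_singleton_iff.2 (mem_centralizer_iff.1 (hcomm hx1) y hy))
    exact mem_centralizer_iff.2 fun y hy => mem_centralizer_singleton_iff.1 (hle hy)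
  have hn₁ : ∀ q ∈ Q, cj q N₁ ≤ N₁ := fun q hq => by
    rw [hN₁]
    show Subgroup.map _ (⨆ r : ↥Q, cj (r : G) L) ≤ _
    rw [Subgroup.map_iSup]
    refine iSup_le fun r => ?_
    refine le_trans ?_ (le_iSup (fun r : ↥Q => cj (r : G) L) (⟨q, hq⟩ * r))
    show cj q (cj (r : G) L) ≤ cj (q * (r : G)) L
    rw [cj_mul]
  have hn₂ : ∀ q ∈ Q, cj q N₂ ≤ N₂ := fun q hq => by
    rw [hN₂]
    show Subgroup.map _ (⨆ K : {K : Subgroup G // Cfsg.IsComponent K ∧ ∀ q ∈ Q, K ≠ cj q L}, (K : Subgroup G)) ≤ _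
    rw [Subgroup.map_iSup]
    refine iSup_le fun K => le_iSup (fun K : {K : Subgroup G // Cfsg.IsComponent K ∧ ∀ q ∈ Q, K ≠ cj q L} =>
      (K : Subgroup G)) ⟨cj q K, component_conj K.2.1 q, fun r hr e => K.2.2 (q⁻¹ * r) (mul_mem (inv_mem hq) hr) ?_⟩
    rw [cj_mul, ← e, ← cj_mul, inv_mul_cancel, cj_one]
  -- a non-trivial `Q`-invariant intersection contains `z`
  have hmeet : ∀ N : Subgroup G, (∀ q ∈ Q, cj q N ≤ N) → Q ⊓ N ≠ ⊥ → z ∈ N := by
    intro N hN hne
    haveI := h.pgroup.isNilpotent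
    haveI : (N.subgroupOf Q).Normal := ⟨fun x hx g => mem_subgroupOf.2 (hN g g.2 (conj_mem_cj (mem_subgroupOf.1 hx)))⟩
    have hne' : N.subgroupOf Q ≠ ⊥ := fun e => hne (by
      rw [subgroupOf_eq_bot, disjoint_iff, inf_comm] at e; exact e)
    obtain ⟨w, hw, hw1⟩ : ∃ w ∈ N.subgroupOf Q ⊓ center ↥Q, w ≠ 1 := by
      by_contra hc
      push Not at hc
      exact Cfsg.Agent.Cores.inf_center_ne_bot hne' (eq_bot_iff.2 fun w hw => mem_bot.2 (hc w hw))
    rcases h.center_cases hw.2 with e | e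
    · exact absurd (Subtype.ext e) hw1
    · exact e ▸ mem_subgroupOf.1 hw.1
  -- `C_N(z)` lies in `⟨z⟩` when `Q ∩ N` is trivial
  have hfix : ∀ N : Subgroup G, (∀ q ∈ Q, cj q N ≤ N) → Q ⊓ N = ⊥ →
      ∀ x ∈ N, x * z = z * x → x = 1 ∨ x = z := by
    intro N hN hb x hx hxz
    refine h.mem_zpowers_cases ?_
    rw [← h.cent, mem_centralizer_iff]
    intro q hq
    have hm : q * x * q⁻¹ * x⁻¹ ∈ Q ⊓ N := by
      refine Subgroup.mem_inf.2 ⟨?_, N.mul_mem (hN q hq (conj_mem_cj hx)) (N.inv_mem hx)⟩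
      rw [mul_assoc q x, mul_assoc q]
      exact mul_mem hq (h.conj_mem hxz (inv_mem hq))
    rw [hb, mem_bot] at hm
    exact mul_inv_eq_iff_eq_mul.1 (mul_inv_eq_one.1 hm)
  have hN₁ne : N₁ ≠ ⊥ := ne_bot_of_le_ne_bot (component_ne_bot hL) hLN
  have hN₂ne : N₂ ≠ ⊥ := ne_bot_of_le_ne_bot (component_ne_bot hL') hL'N
  have hz₁ : z ∉ N₁ := by
    intro hzN
    have hb : Q ⊓ N₂ = ⊥ := by
      by_contra hne
      have hm : z ∈ N₁ ⊓ N₂ := ⟨hzN, hmeet N₂ hn₂ hne⟩
      rw [hinf, mem_bot] at hm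
      exact h.ne_one hm
    refine hN₂ne ((Subgroup.eq_bot_iff_forall _).2 fun x hx => ?_)
    rcases hfix N₂ hn₂ hb x hx (mem_centralizer_iff.1 (hcomm hzN) x hx) with e | e
    · exact e
    · exfalso
      have hm : z ∈ N₁ ⊓ N₂ := ⟨hzN, e ▸ hx⟩
      rw [hinf, mem_bot] at hm
      exact h.ne_one hm
  have hb₁ : Q ⊓ N₁ = ⊥ := by_contra fun hne => hz₁ (hmeet N₁ hn₁ hne)
  have hzN : ∀ x ∈ N₁, z * x * z⁻¹ ∈ N₁ := fun x hx => hn₁ z h.z_mem (conj_mem_cj hx)
  let σ : ↥N₁ →* ↥N₁ :=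
    { toFun := fun x => ⟨_, hzN _ x.2⟩
      map_one' := Subtype.ext (by simp)
      map_mul' := fun x y => Subtype.ext (by simp [mul_assoc]) }
  have hfpf : MonoidHom.FixedPointFree σ := by
    intro x hx
    refine Subtype.ext ?_
    have e : z * (x : G) * z⁻¹ = x := congrArg Subtype.val hx
    rcases hfix N₁ hn₁ hb₁ x x.2 (mul_inv_eq_iff_eq_mul.1 e).symm with e' | e'
    · exact e'
    · exact absurd (e' ▸ x.2) hz₁
  have hinv : Function.Involutive σ := fun x => Subtype.ext (by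
    show z * (z * (x : G) * z⁻¹) * z⁻¹ = x
    rw [show z * (z * (x : G) * z⁻¹) * z⁻¹ = (z * z) * x * (z * z)⁻¹ by group, h.zz]
    simp)
  refine (component_simple h hQ hO hL).2 ⟨⟨fun a b => Subtype.ext ?_⟩⟩
  show (a : G) * b = b * a
  exact congrArg Subtype.val (hfpf.commute_all_of_involutive hinv ⟨a, hLN a.2⟩ ⟨b, hLN b.2⟩).eq

theorem centralizer_decomp {L : Subgroup G} (hL : Cfsg.IsComponent L) :
    (∀ K : Subgroup G, Cfsg.IsComponent K → K ≠ L → K ≤ centralizer (L : Set G)) ∧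
      ∀ y ∈ Cfsg.layer G, ∃ a ∈ L, ∃ c ∈ centralizer (L : Set G), y = a * c := by
  have hK : ∀ K : Subgroup G, Cfsg.IsComponent K → K ≠ L → K ≤ centralizer (L : Set G) := fun K hK hne =>
    commutator_eq_bot_iff_le_centralizer.1 (component_commutator_eq_bot_of_ne hK hL hne)
  refine ⟨hK, fun y hy => ?_⟩
  have hy' : y ∈ L ⊔ centralizer (L : Set G) := by
    refine (layer_le fun K hK' => ?_) hy
    by_cases e : K = L
    · exact e ▸ le_sup_left
    · exact (hK K hK' e).trans le_sup_right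
  rw [← SetLike.mem_coe, coe_mul_of_right_le_normalizer_left L (centralizer (L : Set G))
    (centralizer_le_normalizer _)] at hy'
  obtain ⟨a, ha, c, hc, rfl⟩ := hy'
  exact ⟨a, ha, c, hc, rfl⟩

theorem decomp_unique {L : Subgroup G} (hL : Cfsg.IsComponent L) {a a' c c' : G} (ha : a ∈ L)
    (ha' : a' ∈ L) (hc : c ∈ centralizer (L : Set G)) (hc' : c' ∈ centralizer (L : Set G))
    (e : a * c = a' * c') : a = a' ∧ c = c' := by
  have h1 : a'⁻¹ * a ∈ L ⊓ centralizer (L : Set G) := by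
    refine Subgroup.mem_inf.2 ⟨L.mul_mem (L.inv_mem ha') ha, ?_⟩
    rw [show a'⁻¹ * a = c' * c⁻¹ by
      calc a'⁻¹ * a = a'⁻¹ * (a * c) * c⁻¹ := by group
        _ = c' * c⁻¹ := by rw [e]; group]
    exact (centralizer (L : Set G)).mul_mem hc' ((centralizer (L : Set G)).inv_mem hc)
  rw [component_center h hQ hO hL, mem_bot, inv_mul_eq_one] at h1
  subst h1
  exact ⟨rfl, mul_left_cancel e⟩

theorem exists_sylow_centralized {L : Subgroup G} (hL : Cfsg.IsComponent L) :
    ∃ T : Sylow 2 ↥L, ∀ x ∈ (T : Subgroup ↥L), (x : G) * z = z * x := by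
  haveI : Fact (Nat.Prime 2) := ⟨Nat.prime_two⟩
  obtain ⟨S, hS⟩ := h.pgroup.exists_le_sylow
  have hcS : ∀ x ∈ (S : Subgroup G), x * z = z * x := by
    haveI := S.isPGroup'.isNilpotent
    have hne : (⊤ : Subgroup ↥(S : Subgroup G)) ≠ ⊥ := fun e => h.ne_one (by
      have h1 := mem_top (⟨z, hS h.z_mem⟩ : ↥(S : Subgroup G))
      rw [e, mem_bot] at h1
      exact congrArg Subtype.val h1)
    obtain ⟨w, hw, hw1⟩ : ∃ w : ↥(S : Subgroup G),
        w ∈ (⊤ : Subgroup ↥(S : Subgroup G)) ⊓ center ↥(S : Subgroup G) ∧ w ≠ 1 := by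
      by_contra hc
      push Not at hc
      exact Cfsg.Agent.Cores.inf_center_ne_bot hne (eq_bot_iff.2 fun w hw => mem_bot.2 (hc w hw))
    have hwz : (w : G) ∈ zpowers z := by
      rw [← h.cent, mem_centralizer_iff]
      exact fun q hq => congrArg Subtype.val (mem_center_iff.1 hw.2 ⟨q, hS hq⟩)
    intro x hx
    rcases h.mem_zpowers_cases hwz with e | e
    · exact absurd (Subtype.ext e) hw1
    · exact e ▸ congrArg Subtype.val (mem_center_iff.1 hw.2 ⟨x, hx⟩)
  -- move a Sylow subgroup of some component into `S`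
  obtain ⟨T₀⟩ : Nonempty (Sylow 2 ↥L) := inferInstance
  obtain ⟨S', hS'⟩ := (T₀.isPGroup'.map L.subtype).exists_le_sylow
  obtain ⟨g, hg⟩ := MulAction.exists_smul_eq G S' S
  obtain ⟨q, hq, hqL⟩ := transitive h hQ hO hL (component_conj hL g)
  -- `q⁻¹ g` normalizes `L`
  have hnorm : ∀ x ∈ L, q⁻¹ * g * x * (q⁻¹ * g)⁻¹ ∈ L := fun x hx => by
    have := conj_mem_cj (g := g) hx
    rw [show cj g L = cj q L from hqL, mem_cj] at this
    simpa [mul_assoc] using this
  let f : ↥L →* ↥L :=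
    { toFun := fun x => ⟨_, hnorm x x.2⟩
      map_one' := Subtype.ext (by simp)
      map_mul' := fun x y => Subtype.ext (by simp [mul_assoc]) }
  have hf : Function.Injective f := fun x y e => Subtype.ext (by
    have h1 : q⁻¹ * g * (x : G) * (q⁻¹ * g)⁻¹ = q⁻¹ * g * (y : G) * (q⁻¹ * g)⁻¹ := congrArg Subtype.val e
    exact mul_left_cancel (mul_right_cancel h1))
  let P : Subgroup ↥L := (T₀ : Subgroup ↥L).map f
  have hP : IsPGroup 2 ↥P := T₀.isPGroup'.map f
  obtain ⟨T, hT⟩ := hP.exists_le_sylow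
  have heq : P = (T : Subgroup ↥L) := eq_of_le_of_card_ge hT (by
    rw [card_map_of_injective hf, Sylow.card_eq_multiplicity T₀, Sylow.card_eq_multiplicity T])
  refine ⟨T, fun x hx => hcS _ ?_⟩
  rw [← heq] at hx
  obtain ⟨y, hy, rfl⟩ := hx
  show q⁻¹ * g * (y : G) * (q⁻¹ * g)⁻¹ ∈ (S : Subgroup G)
  have h2 : g * (y : G) * g⁻¹ ∈ (S : Subgroup G) := by
    rw [← hg]
    exact smul_mem_pointwise_smul _ (MulAut.conj g) _ (hS' ⟨y, hy, rfl⟩)
  rw [show q⁻¹ * g * (y : G) * (q⁻¹ * g)⁻¹ = q⁻¹ * (g * (y : G) * g⁻¹) * q by group]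
  exact mul_mem (mul_mem (inv_mem (hS hq)) h2) (hS hq)

end

end Cfsg.Agent.LargeExtra.Trichotomy
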